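import Cfsg.Agent.PF13.Reg.Main
import Cfsg.Agent.PF14.Uncond

/-!
# Peterfalvi §13, unconditional: `C_U(S_F) = 1`, `RegularII` and the inputs of §14
-/

set_option autoImplicit false

namespace Cfsg.Agent.PF14

open Cfsg

universe u

variable {G : Type u} [Group G]

/-- Peterfalvi (13.10)–(13.12): `C = 1` in Type II. -/
theorem faithII_uncond [Finite G] (hG : IsMinSimpleOddOrder G) : PF13.Reg.FaithII G := by
  haveI : Fintype G := Fintype.ofFinite G
  exact PF13.Reg.faithII hG (shape34_uncond hG) (PF10.noV hG)

/-- In Type II the complement is fixed point free on the core. -/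
theorem regularII_uncond [Finite G] (hG : IsMinSimpleOddOrder G) : RegularII G := by
  haveI : Fintype G := Fintype.ofFinite G
  exact PF13.Reg.regularII hG (shape34_uncond hG) (PF10.noV hG) (frobOne_uncond hG)
    (faithII_uncond hG)

/-- The inputs of §14 from §10–§13. -/
theorem earlier_uncond [Fintype G] (hG : IsMinSimpleOddOrder G) : Earlier G :=
  ⟨shape34_uncond hG, PF10.noV hG, frobOne_uncond hG, regularII_uncond hG⟩

end Cfsg.Agent.PF14
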