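import Mathlib.Analysis.SpecialFunctions.Pow.Real
import Mathlib.Data.Nat.Prime.Basic
import Mathlib.Tactic.IntervalCases
import Mathlib.Tactic.NormNum.Prime

/-!
# The arithmetic of Peterfalvi (13.10)–(13.12)
-/

set_option autoImplicit false

namespace Cfsg.Agent.PF13.Reg

theorem bound_cube {p q : ℕ} (hp : 3 ≤ p) (hq : 3 ≤ q) :
    (p : ℝ) * ((p : ℝ) - 1) ^ 2 ≤ (p : ℝ) ^ q - 1 - q * ((p : ℝ) - 1) := by
  have hp' : (3 : ℝ) ≤ p := by exact_mod_cast hp
  induction q, hq using Nat.le_induction with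
  | base => push_cast; nlinarith
  | succ q hq ih =>
    have h1 : (p : ℝ) ^ 3 ≤ (p : ℝ) ^ q := pow_le_pow_right₀ (by linarith) hq
    push_cast
    rw [pow_succ (p : ℝ) q]
    have h3 : (1 : ℝ) ≤ (p : ℝ) ^ q := one_le_pow₀ (by linarith)
    nlinarith [mul_le_mul_of_nonneg_right h3 (by linarith : (0 : ℝ) ≤ (p : ℝ) - 1)]

theorem bound_cube' {p q : ℕ} (hp : 3 ≤ p) (hq : 5 ≤ q) :
    (q : ℝ) * (p * ((p : ℝ) - 1) ^ 2) ≤ 2 * ((p : ℝ) ^ q - 1 - q * ((p : ℝ) - 1)) := by
  have hp' : (3 : ℝ) ≤ p := by exact_mod_cast hp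
  induction q, hq using Nat.le_induction with
  | base =>
    push_cast
    nlinarith [pow_le_pow_left₀ (by norm_num) hp' 4, pow_le_pow_left₀ (by norm_num) hp' 3,
      pow_le_pow_left₀ (by norm_num) hp' 2]
  | succ q hq ih =>
    have h1 : (p : ℝ) ^ 5 ≤ (p : ℝ) ^ q := pow_le_pow_right₀ (by linarith) hq
    have h2 : (p : ℝ) ^ 3 ≤ (p : ℝ) ^ 5 := pow_le_pow_right₀ (by linarith) (by norm_num)
    push_cast
    rw [pow_succ (p : ℝ) q]
    have h3 : (p : ℝ) ^ 3 ≤ (p : ℝ) ^ q := h2.trans h1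
    nlinarith [mul_le_mul_of_nonneg_right h3 (by linarith : (0 : ℝ) ≤ (p : ℝ) - 1)]

theorem bound_sq {p q : ℕ} (hq : 3 ≤ q) (hp : 3 ≤ p) :
    5 * ((q : ℝ) - 1) ^ 2 ≤ (q : ℝ) ^ p - 1 - p * ((q : ℝ) - 1) := by
  have hq' : (3 : ℝ) ≤ q := by exact_mod_cast hq
  induction p, hp using Nat.le_induction with
  | base => push_cast; nlinarith
  | succ p hp ih =>
    have h1 : (q : ℝ) ^ 3 ≤ (q : ℝ) ^ p := pow_le_pow_right₀ (by linarith) hp
    push_cast
    rw [pow_succ (q : ℝ) p]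
    have h3 : (1 : ℝ) ≤ (q : ℝ) ^ p := one_le_pow₀ (by linarith)
    nlinarith [mul_le_mul_of_nonneg_right h3 (by linarith : (0 : ℝ) ≤ (q : ℝ) - 1)]

theorem endpoints {x k Q : ℝ} (hk : 0 < k) (hx : k ≤ x) (hxQ : k * x ≤ Q) :
    x / Q + 1 / x ≤ 1 / k + k / Q := by
  have hx0 : 0 < x := lt_of_lt_of_le hk hx
  have hQ : 0 < Q := lt_of_lt_of_le (mul_pos hk hx0) hxQ
  rw [div_add_div _ _ hQ.ne' hx0.ne', div_add_div _ _ hk.ne' hQ.ne',
    div_le_div_iff₀ (by positivity) (by positivity)]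
  nlinarith [mul_nonneg (mul_nonneg hQ.le (sub_nonneg.2 hx)) (sub_nonneg.2 hxQ)]

/-- The numerical facts about the member `T`: either all characters non-trivial on the core are
good, or the reducible case. -/
structure TNum (p q n' : ℕ) (t' : ℝ) : Prop where
  n_ge : 2 * p + 1 ≤ n'
  cases : (n' * (q - 1) ≤ q ^ p - 1 ∧ (q : ℝ) ^ p - 1 ≤ t') ∨
    (4 * n' ≤ (q - 1) ^ 2 ∧ (q : ℝ) ^ p - 1 - p * ((q : ℝ) - 1) ≤ t')

/-- The lower bound `L` for `1 - n'/|t'| - 1/n'`. -/
theorem L_bounds {p q n' : ℕ} {t' : ℝ} (hp : 3 ≤ p) (hq : 3 ≤ q) (h : TNum p q n' t') :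
    (q = 3 → 1 / 2 - 2 / ((3 : ℝ) ^ p - 1) ≤ 1 - n' / t' - 1 / n') ∧
      (5 ≤ q → (7 : ℝ) / 10 ≤ 1 - n' / t' - 1 / n') ∧
      (7 ≤ q → (4 : ℝ) / 5 ≤ 1 - n' / t' - 1 / n') := by
  have hn7 : (7 : ℝ) ≤ n' := by
    have : 7 ≤ n' := by have := h.n_ge; omega
    exact_mod_cast this
  have hq' : (3 : ℝ) ≤ q := by exact_mod_cast hq
  rcases h.cases with ⟨hle, ht⟩ | ⟨hle, ht⟩
  · have hQ1 : (26 : ℝ) ≤ (q : ℝ) ^ p - 1 := by
      have h1 : (27 : ℝ) ≤ (q : ℝ) ^ 3 := by
        have := pow_le_pow_left₀ (by norm_num : (0 : ℝ) ≤ 3) hq' 3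
        norm_num at this
        exact this
      have h2 : (q : ℝ) ^ 3 ≤ (q : ℝ) ^ p := pow_le_pow_right₀ (by linarith) hp
      linarith
    have hkQ : ∀ k : ℝ, 0 < k → k ≤ 7 → k ≤ (q : ℝ) - 1 →
        (n' : ℝ) / t' + 1 / n' ≤ 1 / k + k / ((q : ℝ) ^ p - 1) := by
      intro k hk hk7 hkq
      refine le_trans (add_le_add_left (div_le_div_of_nonneg_left (Nat.cast_nonneg _)
        (by linarith) ht) _) (endpoints hk (hk7.trans hn7) ?_)
      have h1 : ((n' * (q - 1) : ℕ) : ℝ) ≤ ((q ^ p - 1 : ℕ) : ℝ) := by exact_mod_cast hle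
      rw [Nat.cast_mul, Nat.cast_sub (by omega), Nat.cast_sub (Nat.one_le_pow _ _ (by omega))] at h1
      push_cast at h1
      nlinarith
    refine ⟨fun h3 => ?_, fun h5 => ?_, fun h7 => ?_⟩
    · subst h3
      have := hkQ 2 (by norm_num) (by norm_num) (by push_cast; norm_num)
      push_cast at this
      linarith
    · have h5' : (5 : ℝ) ≤ q := by exact_mod_cast h5
      have := hkQ 4 (by norm_num) (by norm_num) (by linarith)
      have hQ : (124 : ℝ) ≤ (q : ℝ) ^ p - 1 := by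
        have h1 : (125 : ℝ) ≤ (q : ℝ) ^ 3 := by nlinarith [mul_le_mul h5' h5' (by norm_num) (by linarith)]
        have h2 : (q : ℝ) ^ 3 ≤ (q : ℝ) ^ p := pow_le_pow_right₀ (by linarith) hp
        linarith
      have : (4 : ℝ) / ((q : ℝ) ^ p - 1) ≤ 4 / 124 :=
        div_le_div_of_nonneg_left (by norm_num) (by norm_num) hQ
      linarith
    · have h7' : (7 : ℝ) ≤ q := by exact_mod_cast h7
      have := hkQ 6 (by norm_num) (by norm_num) (by linarith)
      have hQ : (342 : ℝ) ≤ (q : ℝ) ^ p - 1 := by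
        have h1 : (343 : ℝ) ≤ (q : ℝ) ^ 3 := by nlinarith [mul_le_mul h7' h7' (by norm_num) (by linarith)]
        have h2 : (q : ℝ) ^ 3 ≤ (q : ℝ) ^ p := pow_le_pow_right₀ (by linarith) hp
        linarith
      have : (6 : ℝ) / ((q : ℝ) ^ p - 1) ≤ 6 / 342 :=
        div_le_div_of_nonneg_left (by norm_num) (by norm_num) hQ
      linarith
  · have hq5 : 5 ≤ q := by
      by_contra h4
      have := h.n_ge
      interval_cases q <;> simp at hle <;> omega
    have hn : 4 * (n' : ℝ) ≤ ((q : ℝ) - 1) ^ 2 := by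
      have : ((4 * n' : ℕ) : ℝ) ≤ (((q - 1) ^ 2 : ℕ) : ℝ) := by exact_mod_cast hle
      rw [Nat.cast_mul, Nat.cast_pow, Nat.cast_sub (by omega)] at this
      push_cast at this
      exact this
    have h5 := bound_sq hq hp
    have ht0 : 0 < t' := by nlinarith
    have h1 : (n' : ℝ) / t' ≤ 1 / 20 := by
      rw [div_le_iff₀ ht0]; nlinarith
    have h2 : 1 / (n' : ℝ) ≤ 1 / 7 := one_div_le_one_div_of_le (by norm_num) hn7
    refine ⟨fun h3 => by omega, fun _ => by linarith, fun _ => by linarith⟩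

/-- The case analysis of (13.12). -/
theorem eq_one {p q n n' c : ℕ} {t t' : ℝ} (hp : p.Prime) (hq : q.Prime) (hp2 : 3 ≤ p)
    (hq2 : 3 ≤ q) (hne : p ≠ q) (hT : TNum p q n' t') (hc0 : 0 < c)
    (hn : 2 * q ∣ n - 1) (hn1 : 1 < n) (hnp : n * (p - 1) ≤ p ^ q - 1)
    (hr : ∀ r : ℕ, r.Prime → r ∣ c → 2 * q ∣ r - 1 ∧ r ∣ n)
    (hS : ((c : ℝ) * ((p : ℝ) ^ q - 1) ≤ t) ∨
      (4 * n ≤ (p - 1) ^ 2 ∧ (c : ℝ) * ((p : ℝ) ^ q - 1 - q * ((p : ℝ) - 1)) ≤ t))
    (hmain : 1 - n' / t' - 1 / n' ≤ (p : ℝ) * q * n / t) : c = 1 := by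
  by_contra hc1
  obtain ⟨r, hrp, hrc⟩ := Nat.exists_prime_and_dvd hc1
  obtain ⟨hr1, hrn⟩ := hr r hrp hrc
  have hr2q : 2 * q + 1 ≤ r := by
    have := Nat.le_of_dvd (Nat.sub_pos_of_lt hrp.one_lt) hr1
    omega
  have hc2q : 2 * q + 1 ≤ c := hr2q.trans (Nat.le_of_dvd hc0 hrc)
  have hc' : 2 * (q : ℝ) + 1 ≤ c := by exact_mod_cast hc2q
  obtain ⟨hL3, hL5, hL7⟩ := L_bounds hp2 hq2 hT
  have hp' : (3 : ℝ) ≤ p := by exact_mod_cast hp2
  have hq' : (3 : ℝ) ≤ q := by exact_mod_cast hq2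
  have hcpos : (0 : ℝ) < c := by exact_mod_cast hc0
  have hP : (0 : ℝ) < (p : ℝ) ^ q - 1 := sub_pos.2 (one_lt_pow₀ (by linarith) hq.ne_zero)
  set L := 1 - (n' : ℝ) / t' - 1 / n' with hL
  have hLlow : (49 : ℝ) / 100 ≤ L := by
    rcases Nat.lt_or_ge q 5 with h4 | h5
    · have h3 : q = 3 := by
        rcases hq.eq_two_or_odd with h | h <;> omega
      have := hL3 h3
      have hp5 : 5 ≤ p := by
        by_contra hh
        rcases hp.eq_two_or_odd with h | h <;> omega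
      have : (3 : ℝ) ^ 5 ≤ 3 ^ p := pow_le_pow_right₀ (by norm_num) hp5
      have : (2 : ℝ) / (3 ^ p - 1) ≤ 2 / 242 :=
        div_le_div_of_nonneg_left (by norm_num) (by norm_num) (by linarith)
      linarith
    · have := hL5 h5
      linarith
  rcases hS with htS | ⟨hnS, htS⟩
  · -- the irreducible case
    have hnR : (n : ℝ) * ((p : ℝ) - 1) ≤ (p : ℝ) ^ q - 1 := by
      have h1 : ((n * (p - 1) : ℕ) : ℝ) ≤ ((p ^ q - 1 : ℕ) : ℝ) := by exact_mod_cast hnp
      rw [Nat.cast_mul, Nat.cast_sub (by omega), Nat.cast_sub (Nat.one_le_pow _ _ (by omega))] at h1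
      push_cast at h1
      exact h1
    have hkey : L * ((c : ℝ) * ((p : ℝ) ^ q - 1)) ≤ (p : ℝ) * q * n := by
      have ht0 : 0 < t := lt_of_lt_of_le (mul_pos hcpos hP) htS
      rw [le_div_iff₀ ht0] at hmain
      exact le_trans (mul_le_mul_of_nonneg_left htS (by linarith)) hmain
    have hkey2 : L * c * ((p : ℝ) - 1) ≤ (p : ℝ) * q := by
      refine le_of_mul_le_mul_right ?_ hP
      calc L * c * ((p : ℝ) - 1) * ((p : ℝ) ^ q - 1)
          = L * ((c : ℝ) * ((p : ℝ) ^ q - 1)) * ((p : ℝ) - 1) := by ring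
        _ ≤ (p : ℝ) * q * n * ((p : ℝ) - 1) := mul_le_mul_of_nonneg_right hkey (by linarith)
        _ ≤ _ := by
            rw [mul_assoc ((p : ℝ) * q)]
            exact mul_le_mul_of_nonneg_left hnR (by positivity)
    rcases Nat.lt_or_ge q 7 with h6 | h7
    · rcases Nat.lt_or_ge q 5 with h4 | h5
      · have h3 : q = 3 := by
          rcases hq.eq_two_or_odd with h | h <;> omega
        subst h3
        have hL' := hL3 rfl
        push_cast at hc' hkey hkey2
        rcases Nat.lt_or_ge p 11 with hlt | hge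
        · have hp57 : p = 5 ∨ p = 7 := by
            interval_cases p <;> first | omega | norm_num at hp
          have hr7 : r = 7 := by
            have hrle : (r : ℝ) ≤ c := by exact_mod_cast Nat.le_of_dvd hc0 hrc
            have hr13 : r < 13 := by
              by_contra hh
              push Not at hh
              have hh' : (13 : ℝ) ≤ r := by exact_mod_cast hh
              rcases hp57 with rfl | rfl <;> push_cast at hkey2 <;>
                nlinarith [mul_le_mul_of_nonneg_right hLlow (by linarith : (0 : ℝ) ≤ c)]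
            obtain ⟨k, hk⟩ := hr1
            omega
          subst hr7
          have hc7 : (7 : ℝ) ≤ c := by linarith
          obtain ⟨k, hk⟩ := hrn
          obtain ⟨j, hj⟩ := hn
          rcases hp57 with rfl | rfl
          · norm_num at hL' hkey hnp
            have h1 : (29 / 60 : ℝ) * 7 * 124 ≤ L * ((c : ℝ) * 124) := by
              nlinarith [mul_le_mul hL' hc7 (by norm_num) (by linarith)]
            have : (28 : ℝ) < n := by nlinarith
            have : 28 < n := by exact_mod_cast this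
            omega
          · norm_num at hL' hkey hnp
            have h1 : (545 / 1093 : ℝ) * 7 * 342 ≤ L * ((c : ℝ) * 342) := by
              nlinarith [mul_le_mul hL' hc7 (by norm_num) (by linarith)]
            have : (56 : ℝ) < n := by nlinarith
            have : 56 < n := by exact_mod_cast this
            omega
        · have hp11 : (11 : ℝ) ≤ p := by exact_mod_cast hge
          have h2 : (3 : ℝ) ^ 11 ≤ 3 ^ p := pow_le_pow_right₀ (by norm_num) hge
          have h3 : (2 : ℝ) / (3 ^ p - 1) ≤ 2 / 177146 :=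
            div_le_div_of_nonneg_left (by norm_num) (by norm_num) (by norm_num at h2; linarith)
          have h4 : (499 : ℝ) / 1000 ≤ L := by linarith
          nlinarith [mul_le_mul h4 hc' (by norm_num) (by linarith)]
      · have h55 : q = 5 := by
          rcases hq.eq_two_or_odd with h | h <;> omega
        subst h55
        have := hL5 le_rfl
        push_cast at hc' hkey2
        nlinarith [mul_le_mul this hc' (by norm_num) (by linarith)]
    · have := hL7 h7
      nlinarith [mul_le_mul this hc' (by linarith) (by linarith)]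
  · -- the reducible case
    have h4n : 4 * (n : ℝ) ≤ ((p : ℝ) - 1) ^ 2 := by
      have : ((4 * n : ℕ) : ℝ) ≤ (((p - 1) ^ 2 : ℕ) : ℝ) := by exact_mod_cast hnS
      rw [Nat.cast_mul, Nat.cast_pow, Nat.cast_sub (by omega)] at this
      push_cast at this
      exact this
    have hD := bound_cube hp2 hq2
    have hD0 : (0 : ℝ) < (p : ℝ) * ((p : ℝ) - 1) ^ 2 :=
      mul_pos (by linarith) (pow_pos (by linarith) 2)
    have ht0 : 0 < t := lt_of_lt_of_le (mul_pos hcpos (by linarith)) htS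
    rw [le_div_iff₀ ht0] at hmain
    have h1 : L * ((c : ℝ) * ((p : ℝ) * ((p : ℝ) - 1) ^ 2)) ≤ (p : ℝ) * q * n :=
      le_trans (mul_le_mul_of_nonneg_left
        ((mul_le_mul_of_nonneg_left hD hcpos.le).trans htS) (by linarith)) hmain
    have h2 : (p : ℝ) * q * n * 4 ≤ (p : ℝ) * q * ((p : ℝ) - 1) ^ 2 := by
      have := mul_le_mul_of_nonneg_left h4n (by positivity : (0 : ℝ) ≤ (p : ℝ) * q)
      linarith
    have h3 : 4 * (L * c) ≤ q := by
      refine le_of_mul_le_mul_right ?_ hD0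
      linarith
    nlinarith [mul_le_mul hLlow hc' (by linarith) (by linarith)]

/-- With `C = 1` and `q ≥ 5` the reducible case is impossible. -/
theorem not_reducible {p q n n' : ℕ} {t t' : ℝ} (hp2 : 3 ≤ p) (hq5 : 5 ≤ q)
    (hT : TNum p q n' t') (hnS : 4 * n ≤ (p - 1) ^ 2)
    (htS : (p : ℝ) ^ q - 1 - q * ((p : ℝ) - 1) ≤ t)
    (hmain : 1 - n' / t' - 1 / n' ≤ (p : ℝ) * q * n / t) : False := by
  have hL := (L_bounds hp2 (by omega) hT).2.1 hq5
  have hp' : (3 : ℝ) ≤ p := by exact_mod_cast hp2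
  have hq' : (5 : ℝ) ≤ q := by exact_mod_cast hq5
  have hD := bound_cube' hp2 hq5
  have hD0 : (0 : ℝ) < (q : ℝ) * (p * ((p : ℝ) - 1) ^ 2) :=
    mul_pos (by linarith) (mul_pos (by linarith) (pow_pos (by linarith) 2))
  have ht0 : 0 < t := by linarith
  rw [le_div_iff₀ ht0] at hmain
  have h4n : 4 * (n : ℝ) ≤ ((p : ℝ) - 1) ^ 2 := by
    have : ((4 * n : ℕ) : ℝ) ≤ (((p - 1) ^ 2 : ℕ) : ℝ) := by exact_mod_cast hnS
    rw [Nat.cast_mul, Nat.cast_pow, Nat.cast_sub (by omega)] at this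
    push_cast at this
    exact this
  nlinarith [mul_le_mul_of_nonneg_left h4n (by positivity : (0 : ℝ) ≤ (p : ℝ) * q),
    mul_le_mul_of_nonneg_right hL ht0.le]

end Cfsg.Agent.PF13.Reg
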