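import Cfsg.Agent.PF14.Eta
import Cfsg.Agent.PF14.Coeff
import Cfsg.Prelude.Def_OddOrderLocal
import Cfsg.Prelude.Def_OddOrder

/-!
# Peterfalvi (13.10)–(13.12): the interface of the proof of `C_U(S_F) = 1`

`Side` is what is used about one member `S` of a pair, `Dich` its group-theoretical consequences
and `Gap` the coefficients of the family `η` on `H = F(S) = S_F C`.
-/

set_option autoImplicit false

namespace Cfsg.Agent.PF13.Reg

open Cfsg Subgroup

variable {G : Type*} [Group G]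

/-- What is used about one member of a pair. -/
structure Side (S W₁ U W₂ : Subgroup G) (p q : ℕ) : Prop where
  minSimple : IsMinSimpleOddOrder G
  coatom : IsCoatom S
  data : IsTypePWith S W₁ U W₂
  hq : q.Prime
  hp : p.Prime
  ne : p ≠ q
  card_W₁ : Nat.card W₁ = q
  card_W₂ : Nat.card W₂ = p
  elem : IsElementaryAbelian p (fittingHallOf S)
  card_core : Nat.card (fittingHallOf S) = p ^ q
  U_comm : IsMulCommutative U
  U_ne : U ≠ ⊥
  fix_U : fittingHallOf S ⊓ centralizer (U : Set G) = ⊥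
  fitting_comm : IsMulCommutative (fittingOf S)
  fitting_TI : IsTISubset (fittingOf S : Set G)
  fitting_normalizer : normalizer (fittingOf S : Set G) = S

/-- `C = C_U(S_F)`. -/
def cU (S U : Subgroup G) : Subgroup G := U ⊓ centralizer (fittingHallOf S : Set G)

/-- `n = |U : C|`. -/
noncomputable def nU (S U : Subgroup G) : ℕ := (cU S U).relIndex U

/-- A linear character of `F(S)` non-trivial on `S_F`. -/
def OnCore (S : Subgroup G) (ω : ↥(fittingOf S) →* ℂˣ) : Prop :=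
  ∃ x : fittingOf S, (x : G) ∈ fittingHallOf S ∧ ω x ≠ 1

/-- A linear character of `F(S)` non-trivial on `S_F` whose restriction to `S_F` is fixed only by
the elements of `C`. -/
def Good (S U : Subgroup G) (ω : ↥(fittingOf S) →* ℂˣ) : Prop :=
  OnCore S ω ∧ ∀ u ∈ U,
    (∀ x y : fittingOf S, (x : G) ∈ fittingHallOf S → (y : G) = u * x * u⁻¹ → ω y = ω x) →
      u ∈ cU S U

/-- The consequences of the action of `U W₁` on `S_F`. -/
structure Dich (S W₁ U W₂ : Subgroup G) (p q : ℕ) : Prop where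
  fitting_eq : fittingOf S = fittingHallOf S ⊔ cU S U
  core_inf : fittingHallOf S ⊓ cU S U = ⊥
  card_S : Nat.card S = p ^ q * Nat.card U * q
  card_fitting : Nat.card (fittingOf S) = p ^ q * Nat.card (cU S U)
  card_U : Nat.card U = nU S U * Nat.card (cU S U)
  modEq_n : 2 * q ∣ nU S U - 1
  one_lt_n : 1 < nU S U
  modEq_prime : ∀ r : ℕ, r.Prime → r ∣ Nat.card (cU S U) → 2 * q ∣ r - 1
  lines_le : nU S U * (p - 1) ≤ p ^ q - 1
  dich : (∀ ω : ↥(fittingOf S) →* ℂˣ, OnCore S ω → Good S U ω) ∨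
    (4 * nU S U ≤ (p - 1) ^ 2 ∧
      Nat.card {ω : ↥(fittingOf S) →* ℂˣ // OnCore S ω ∧ ¬ Good S U ω} ≤
        Nat.card (cU S U) * (q * (p - 1)))

/-- A function on `G` restricted to a subgroup. -/
def onSub (H : Subgroup G) (f : G → ℂ) : ↥H → ℂ := fun x => f x

/-- The coefficients of `η` on `F(S)`. -/
structure Gap [Fintype G] (S U : Subgroup G) [Fintype (fittingOf S)] {W₁ W₂ : Subgroup G}
    (η : (↥W₁ →* ℂˣ) → (↥W₂ →* ℂˣ) → G → ℂ) : Prop where
  const : ∀ (φ : ↥W₁ →* ℂˣ) (ω ω' : ↥(fittingOf S) →* ℂˣ), Good S U ω → Good S U ω' →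
    PF14.coeff (onSub (fittingOf S) (η φ 1)) ω = PF14.coeff (onSub (fittingOf S) (η φ 1)) ω'
  line : ∀ ψ : ↥W₂ →* ℂˣ, ψ ≠ 1 → ∃ (s : Finset (↥(fittingOf S) →* ℂˣ)) (ε : ℂ),
    s.card = nU S U ∧ (∀ ω ∈ s, Good S U ω) ∧ (ε = 1 ∨ ε = -1) ∧
      ∀ (φ : ↥W₁ →* ℂˣ) (ω ω' : ↥(fittingOf S) →* ℂˣ), ω ∈ s → Good S U ω' → ω' ∉ s →
        PF14.coeff (onSub (fittingOf S) (η φ ψ)) ω -
          PF14.coeff (onSub (fittingOf S) (η φ ψ)) ω' = ε

end Cfsg.Agent.PF13.Reg
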