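import Cfsg.Agent.PF13.Reg.DichBase
import Cfsg.Agent.PF9.Setup
import Cfsg.Agent.PF9.Galois

/-!
# Peterfalvi (13.10)–(13.12), group part: the dichotomy for a member of a pair

Either every character of `F(S)` non-trivial on `S_F` is good, or `S_F` is a sum of `q` lines
permuted by `W₁`, `4 |U : C| ≤ (p - 1)²` and the bad characters live on single lines.
-/

set_option autoImplicit false

namespace Cfsg.Agent.PF13.Reg

open Cfsg Subgroup

universe u

variable {G : Type u} [Group G] [Finite G] {S W₁ U W₂ : Subgroup G} {p q : ℕ}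

namespace Side

/-- A line of `S_F` whose conjugates under `W₁` span it. -/
structure LineData (S W₁ U : Subgroup G) (p : ℕ) (X : Subgroup G) : Prop where
  le : X ≤ fittingHallOf S
  card_eq : Nat.card X = p
  norm : U ≤ normalizer (X : Set G)
  span : ∀ N : Subgroup G, (∀ t ∈ W₁, ∀ x ∈ X, t * x * t⁻¹ ∈ N) → fittingHallOf S ≤ N
  pow_mem : ∀ u ∈ U, u ^ (p - 1) ∈ cU S U

variable (hs : Side S W₁ U W₂ p q)
include hs

/-- Either `U / C` acts without fixed points or there is a line. -/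
lemma fixedPointFree_or_line :
    (∀ u ∈ U, u ∉ cU S U → ∀ x ∈ fittingHallOf S, u * x = x * u → x = 1) ∨
      ∃ X, LineData S W₁ U p X := by
  classical
  have hmapU : ∀ {x : S}, x ∈ U.subgroupOf S ↔ (x : G) ∈ U := Iff.rfl
  have hH0 : fittingHall S ⊓ centralizer ((U.subgroupOf S : Subgroup S) : Set S) = ⊥ := by
    refine (eq_bot_iff_forall _).2 fun x hx => Subtype.ext (mem_bot.1 (hs.fix_U.le
      ⟨mem_map_of_mem S.subtype hx.1, mem_centralizer_iff.2 fun u hu => ?_⟩))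
    exact congrArg Subtype.val (mem_centralizer_iff.1 hx.2 ⟨u, hs.U_le hu⟩ hu)
  rcases PF9.dichotomy_of_typeP hs.minSimple hs.coatom hs.data hs.U_ne
    (hs.card_W₁ ▸ hs.hq) (hs.card_W₂ ▸ hs.hp) with hgal | ⟨X, hX⟩
  · refine Or.inl fun u hu huC x hx hux => ?_
    obtain ⟨x', hx', rfl⟩ := hx
    have h := hgal.fpf ⟨u, hs.U_le hu⟩ (hmapU.2 hu) (fun hc => huC ⟨hu,
      mem_centralizer_iff.2 fun y hy => ?_⟩) x' hx' (by
      rw [hH0, mem_bot]
      refine Subtype.ext ?_
      show u * (x' : G) * u⁻¹ * (x' : G)⁻¹ = 1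
      rw [show u * (x' : G) = x' * u from hux, mul_inv_cancel_right, mul_inv_cancel])
    · rw [hH0, mem_bot] at h
      simp [h]
    · obtain ⟨y', hy', rfl⟩ := hy
      exact congrArg Subtype.val (mem_centralizer_iff.1 hc.2 y' hy')
  · right
    have hle := hX.le'
    have hcard := hX.card_eq
    rw [hH0, relIndex_bot_left, hs.card_W₂] at hcard
    have hpw := hX.pow_mem
    have hspan := hX.span
    rw [hs.card_W₁] at hspan
    refine ⟨X.map S.subtype, ⟨map_mono hle, ?_, fun u hu => ?_, fun N hN => ?_, fun u hu => ?_⟩⟩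
    · rw [card_map_of_injective S.subtype_injective, hcard]
    · exact X.le_normalizer_map S.subtype ⟨⟨u, hs.U_le hu⟩, hX.norm (hmapU.2 hu), rfl⟩
    · obtain ⟨w, hw, hw1, -⟩ := hs.exists_gen
      have h := hspan ⟨w, hs.W₁_le hw⟩ hw (fun h => hw1 (congrArg Subtype.val h)) (N.subgroupOf S)
        fun i _ => by
          rintro _ ⟨x, hx, rfl⟩
          show ((⟨w, hs.W₁_le hw⟩ ^ i * x * (⟨w, hs.W₁_le hw⟩ ^ i)⁻¹ : S) : G) ∈ N
          simp only [Subgroup.coe_mul, InvMemClass.coe_inv, SubmonoidClass.coe_pow]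
          exact hN _ (pow_mem hw i) _ (mem_map_of_mem S.subtype hx)
      rintro _ ⟨x, hx, rfl⟩
      exact h hx
    · have h := hpw ⟨u, hs.U_le hu⟩ (hmapU.2 hu)
      rw [hs.card_W₂] at h
      refine ⟨pow_mem hu _, mem_centralizer_iff.2 ?_⟩
      rintro _ ⟨y, hy, rfl⟩
      exact congrArg Subtype.val (mem_centralizer_iff.1 h.2 y hy)

/-- The elements of `U` centralizing the `t`-conjugate of `X`. -/
def fixLine (U X : Subgroup G) (t : G) : Subgroup G :=
  U ⊓ centralizer ((X.map (MulAut.conj t).toMonoidHom : Subgroup G) : Set G)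

omit hs [Finite G] in
lemma mem_fixLine {X : Subgroup G} {t u : G} :
    u ∈ fixLine U X t ↔ u ∈ U ∧ ∀ x ∈ X, u * (t * x * t⁻¹) = t * x * t⁻¹ * u := by
  rw [fixLine, mem_inf, mem_centralizer_iff]
  refine and_congr_right fun _ => ⟨fun h x hx => (h _ ⟨x, hx, rfl⟩).symm, fun h => ?_⟩
  rintro _ ⟨x, hx, rfl⟩
  exact (h x hx).symm

omit [Finite G] in
lemma conj_mem_fixLine {X : Subgroup G} {t a u : G} (ha : a ∈ W₁) (hu : u ∈ fixLine U X t) :
    a * u * a⁻¹ ∈ fixLine U X (a * t) := by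
  obtain ⟨huU, h⟩ := mem_fixLine.1 hu
  refine mem_fixLine.2 ⟨(mem_normalizer_iff.1 (hs.data.U_normal ha) u).1 huU, fun x hx => ?_⟩
  calc a * u * a⁻¹ * (a * t * x * (a * t)⁻¹) = a * (u * (t * x * t⁻¹)) * a⁻¹ := by group
    _ = a * (t * x * t⁻¹ * u) * a⁻¹ := by rw [h x hx]
    _ = _ := by group

lemma mem_cU_of_forall_fixLine {X : Subgroup G} (hX : LineData S W₁ U p X) {u : G} (hu : u ∈ U)
    (h : ∀ t ∈ W₁, u ∈ fixLine U X t) : u ∈ cU S U := by
  refine ⟨hu, mem_centralizer_iff.2 fun y hy => mem_centralizer_singleton_iff.1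
    ((hX.span (centralizer ({u} : Set G)) fun t ht x hx => ?_) hy)⟩
  exact mem_centralizer_singleton_iff.2 ((mem_fixLine.1 (h t ht)).2 x hx).symm

omit [Finite G] hs in
lemma cU_le_fixLine {X : Subgroup G} {t : G} (hX : X ≤ fittingHallOf S)
    (ht : t ∈ normalizer (fittingHallOf S : Set G)) : cU S U ≤ fixLine U X t := fun c hc =>
  mem_fixLine.2 ⟨hc.1, fun x hx => (mem_centralizer_iff.1 hc.2 _
    ((mem_normalizer_iff.1 ht x).1 (hX hx))).symm⟩

/-- The index of a proper inclusion above `C` inside a subgroup of exponent `r` modulo `C`. -/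
lemma le_relIndex_of_ne {r : ℕ} (hr : r.Prime) {A A' : Subgroup G} (hC : cU S U ≤ A)
    (hA' : A' ≤ U) (hpow : ∀ a ∈ A', a ^ r ∈ cU S U) (hne : ¬ A' ≤ A) :
    r ≤ A.relIndex A' := by
  obtain ⟨a, ha, haA⟩ := Set.not_subset.1 hne
  have hn : (A.subgroupOf A').Normal := ⟨fun x hx g => by
    rw [show g * x * g⁻¹ = x from Subtype.ext (by
      show (g : G) * x * (g : G)⁻¹ = x
      rw [hs.comm (hA' g.2) (hA' x.2), mul_inv_cancel_right])]
    exact hx⟩
  haveI : Fact r.Prime := ⟨hr⟩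
  have ho : orderOf (QuotientGroup.mk (⟨a, ha⟩ : A') : A' ⧸ A.subgroupOf A') = r :=
    orderOf_eq_prime ((QuotientGroup.eq_one_iff _).2 (hC (hpow a ha)))
      fun h => haA (mem_subgroupOf.1 ((QuotientGroup.eq_one_iff _).1 h))
  rw [← ho]
  exact Nat.le_of_dvd (Nat.pos_of_ne_zero index_ne_zero_of_finite)
    (orderOf_dvd_natCard _)

section TypeII

variable (hII : IsOfTypeII S)
include hII

/-- The elements killed by `e` in a quotient of `U`. -/
lemma card_torsion : ∀ e : ℕ, 0 < e → ∀ A : Subgroup G, A ≤ U → (∀ a ∈ A, a ^ e = 1) →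
    Nat.card A ≤ e ^ 2 := by
  intro e
  induction e using Nat.strong_induction_on with
  | _ e ih =>
    intro he A hA hpow
    by_cases he1 : e = 1
    · have : A = ⊥ := (eq_bot_iff_forall _).2 fun a ha => by simpa [he1] using hpow a ha
      rw [this, card_bot]
      exact Nat.one_le_pow _ _ he
    have hr := Nat.minFac_prime he1
    set r := e.minFac
    obtain ⟨k, hk⟩ := Nat.minFac_dvd e
    have hk0 : 0 < k := Nat.pos_of_ne_zero fun h => by rw [h, mul_zero] at hk; omega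
    have hlt : k < e := by
      rw [hk]
      exact (Nat.lt_mul_iff_one_lt_left hk0).2 hr.one_lt
    let f : A →* G := MonoidHom.mk' (fun a => (a : G) ^ r) fun a b => by
      rw [coe_mul, Commute.mul_pow (hs.comm (hA a.2) (hA b.2))]
    have hker : Nat.card f.ker ≤ r ^ 2 := by
      rw [← card_map_of_injective (K := f.ker) A.subtype_injective]
      refine hs.rank_le hII hr ((map_subtype_le _).trans hA) ?_
      rintro _ ⟨a, ha, rfl⟩
      exact ha
    have hrange : Nat.card f.range ≤ k ^ 2 := by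
      refine ih k hlt hk0 _ ?_ ?_
      · rintro _ ⟨a, rfl⟩
        exact pow_mem (hA a.2) r
      · rintro _ ⟨a, rfl⟩
        show ((a : G) ^ r) ^ k = 1
        rw [← pow_mul, ← hk]
        exact hpow a a.2
    rw [← f.ker.card_mul_index, index_ker, hk, mul_pow]
    exact Nat.mul_le_mul hker hrange

/-- Two different lines have no common centralizer outside `C`. -/
lemma separation {X : Subgroup G} (hX : LineData S W₁ U p X) {s t : G} (hsW : s ∈ W₁)
    (htW : t ∈ W₁) (hst : s ≠ t) {u : G} (hus : u ∈ fixLine U X s) (hut : u ∈ fixLine U X t) :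
    u ∈ cU S U := by
  classical
  by_contra huC
  have hex : ∃ m, 0 < m ∧ u ^ m ∈ cU S U :=
    ⟨orderOf u, orderOf_pos u, by rw [pow_orderOf_eq_one]; exact one_mem _⟩
  obtain ⟨hm0, hm⟩ := Nat.find_spec hex
  set m := Nat.find hex with hm_def
  have hm1 : m ≠ 1 := fun h => huC (by simpa [h] using hm)
  have hr := Nat.minFac_prime hm1
  set r := m.minFac
  obtain ⟨k, hk⟩ := Nat.minFac_dvd m
  have hk0 : 0 < k := Nat.pos_of_ne_zero fun h => by rw [h, mul_zero] at hk; omega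
  have hkm : k < m := by
    rw [hk]
    exact (Nat.lt_mul_iff_one_lt_left hk0).2 hr.one_lt
  set z := u ^ k with hz
  have hzC : z ∉ cU S U := fun h => Nat.find_min hex hkm ⟨hk0, h⟩
  have hzr : z ^ r ∈ cU S U := by
    rw [hz, ← pow_mul, mul_comm k r, ← hk]
    exact hm
  let B : Subgroup G :=
    { carrier := {b | b ∈ U ∧ b ^ r ∈ cU S U}
      one_mem' := ⟨one_mem _, by simp [one_mem]⟩
      mul_mem' := fun {a b} ha hb => ⟨mul_mem ha.1 hb.1, by
        rw [Commute.mul_pow (hs.comm ha.1 hb.1)]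
        exact mul_mem ha.2 hb.2⟩
      inv_mem' := fun {a} ha => ⟨inv_mem ha.1, by rw [inv_pow]; exact inv_mem ha.2⟩ }
  have hBU : B ≤ U := fun b hb => hb.1
  have hCB : cU S U ≤ B := fun c hc => ⟨hs.cU_le hc, pow_mem hc r⟩
  have hB : (cU S U).relIndex B ≤ r ^ 2 := by
    let f : B →* G := MonoidHom.mk' (fun b => (b : G) ^ r) fun a b => by
      rw [coe_mul, Commute.mul_pow (hs.comm (hBU a.2) (hBU b.2))]
    have hker : Nat.card f.ker ≤ r ^ 2 := by
      rw [← card_map_of_injective (K := f.ker) B.subtype_injective]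
      refine hs.rank_le hII hr ((map_subtype_le _).trans hBU) ?_
      rintro _ ⟨a, ha, rfl⟩
      exact ha
    have hrange : Nat.card f.range ≤ Nat.card (cU S U) := by
      refine card_le_of_le ?_
      rintro _ ⟨a, rfl⟩
      exact a.2.2
    refine Nat.le_of_mul_le_mul_left ?_ (Nat.card_pos (α := cU S U))
    calc Nat.card (cU S U) * (cU S U).relIndex B = Nat.card B := by
          rw [← relIndex_bot_left, ← relIndex_bot_left, relIndex_mul_relIndex _ _ _ bot_le hCB]
      _ = Nat.card f.ker * Nat.card f.range := by rw [← f.ker.card_mul_index, index_ker]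
      _ ≤ r ^ 2 * Nat.card (cU S U) := Nat.mul_le_mul hker hrange
      _ = _ := mul_comm _ _
  have hBn : ∀ a ∈ W₁, ∀ b ∈ B, a * b * a⁻¹ ∈ B := fun a ha b hb =>
    ⟨(mem_normalizer_iff.1 (hs.data.U_normal ha) b).1 hb.1, by
      rw [conj_pow]
      exact (mem_normalizer_iff.1 (hs.W₁_normalizes_cU ha) _).1 hb.2⟩
  have hCY : ∀ {a}, a ∈ W₁ → cU S U ≤ B ⊓ fixLine U X a := fun {a} ha =>
    le_inf hCB (cU_le_fixLine hX.le (hs.le_normalizer (hs.W₁_le ha)))
  have hzB : z ∈ B := ⟨pow_mem (mem_fixLine.1 hus).1 k, hzr⟩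
  have hYne : ∀ {a}, a ∈ W₁ → ¬ B ≤ B ⊓ fixLine U X a := by
    intro a ha h
    refine hzC (hs.mem_cU_of_forall_fixLine hX hzB.1 fun b hb => ?_)
    have hc : a * b⁻¹ ∈ W₁ := mul_mem ha (inv_mem hb)
    have := hs.conj_mem_fixLine (inv_mem hc) (h (hBn _ hc z hzB)).2
    simpa [mul_assoc] using this
  have hle : ∀ {a b}, a ∈ W₁ → b ∈ W₁ → z ∈ fixLine U X a → z ∈ fixLine U X b →
      B ⊓ fixLine U X a ≤ B ⊓ fixLine U X b := by
    intro a b ha hb hza hzb
    by_contra hne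
    set Y := (B ⊓ fixLine U X a) ⊓ (B ⊓ fixLine U X b)
    have h1 : r ≤ (cU S U).relIndex Y :=
      hs.le_relIndex_of_ne hr le_rfl (inf_le_left.trans (inf_le_left.trans hBU))
        (fun x hx => hx.1.1.2) fun h => hzC (h ⟨⟨hzB, hza⟩, hzB, hzb⟩)
    have h2 : r ≤ Y.relIndex (B ⊓ fixLine U X a) :=
      hs.le_relIndex_of_ne hr (le_inf (hCY ha) (hCY hb)) (inf_le_left.trans hBU)
        (fun x hx => hx.1.2) fun h => hne fun x hx => (h hx).2
    have h3 : r ≤ (B ⊓ fixLine U X a).relIndex B :=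
      hs.le_relIndex_of_ne hr (hCY ha) hBU (fun x hx => hx.2) (hYne ha)
    have h4 : r * r * r ≤ (cU S U).relIndex B := by
      rw [← relIndex_mul_relIndex _ _ _ (hCY ha) inf_le_left,
        ← relIndex_mul_relIndex _ Y _ (le_inf (hCY ha) (hCY hb)) inf_le_left]
      exact Nat.mul_le_mul (Nat.mul_le_mul h1 h2) h3
    have h5 := h4.trans hB
    rw [pow_two] at h5
    have h6 : r ≤ 1 := Nat.le_of_mul_le_mul_left (by rwa [mul_one]) (Nat.mul_pos hr.pos hr.pos)
    exact absurd hr.one_lt (not_lt.2 h6)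
  have hzs : z ∈ fixLine U X s := pow_mem hus k
  have hzt : z ∈ fixLine U X t := pow_mem hut k
  set Y := B ⊓ fixLine U X s with hY
  have hYt : Y = B ⊓ fixLine U X t := le_antisymm (hle hsW htW hzs hzt) (hle htW hsW hzt hzs)
  have hg : t * s⁻¹ ∈ W₁ := mul_mem htW (inv_mem hsW)
  have hgn : t * s⁻¹ ∈ normalizer (Y : Set G) := by
    rw [mem_normalizer_iff_map_conj_eq]
    refine eq_of_le_of_card_ge ?_ (card_map_of_injective (MulAut.conj _).injective).ge
    rintro _ ⟨x, hx, rfl⟩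
    rw [hYt]
    refine ⟨hBn _ hg x hx.1, ?_⟩
    have h := hs.conj_mem_fixLine hg hx.2
    rwa [inv_mul_cancel_right] at h
  have hW : W₁ ≤ normalizer (Y : Set G) := by
    haveI : Fact (Nat.card W₁).Prime := ⟨hs.card_W₁ ▸ hs.hq⟩
    intro x hx
    obtain ⟨k, hk⟩ := mem_zpowers_iff.1 (mem_zpowers_of_prime_card (G := W₁) rfl
      (g := ⟨t * s⁻¹, hg⟩) (g' := ⟨x, hx⟩) fun h =>
        hst (mul_inv_eq_one.1 (congrArg Subtype.val h : t * s⁻¹ = 1)).symm)
    rw [show x = (t * s⁻¹) ^ k from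
      (congrArg Subtype.val hk).symm.trans (SubgroupClass.coe_zpow _ _)]
    exact zpow_mem hgn k
  refine hzC (hs.mem_cU_of_forall_fixLine hX hzB.1 fun a ha => ?_)
  have hc : s * a⁻¹ ∈ W₁ := mul_mem hsW (inv_mem ha)
  have hzY : z ∈ Y := ⟨hzB, hzs⟩
  have := hs.conj_mem_fixLine (inv_mem hc) ((mem_normalizer_iff.1 (hW hc) z).1 hzY).2
  simpa [mul_assoc] using this

/-- `4 |U : C| ≤ (p - 1)²` in the presence of lines. -/
lemma n_le_of_line {X : Subgroup G} (hX : LineData S W₁ U p X) :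
    4 * nU S U ≤ (p - 1) ^ 2 := by
  obtain ⟨e, he⟩ := (hs.hp.odd_of_ne_two hs.p_ne_two)
  have he0 : 0 < e := by have := hs.hp.two_le; omega
  have hpow : ∀ u ∈ U, u ^ e ∈ cU S U := by
    intro u hu
    obtain ⟨k, hk⟩ : Odd (orderOf (u ^ e)) := Odd.of_dvd_nat
      (BGSigma.odd_card_subgroup hs.minSimple U)
      (Subgroup.orderOf_dvd_natCard _ (pow_mem hu e))
    have h := hX.pow_mem u hu
    rw [show p - 1 = e * 2 by omega, pow_mul] at h
    have h2 := pow_mem h (k + 1)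
    rwa [← pow_mul, show 2 * (k + 1) = orderOf (u ^ e) + 1 by omega, pow_succ, pow_orderOf_eq_one,
      one_mul] at h2
  let f : U →* G := MonoidHom.mk' (fun a => (a : G) ^ e) fun a b => by
    rw [coe_mul, Commute.mul_pow (hs.comm a.2 b.2)]
  have hker : Nat.card f.ker ≤ e ^ 2 := by
    rw [← card_map_of_injective (K := f.ker) U.subtype_injective]
    refine hs.card_torsion hII e he0 _ (map_subtype_le _) ?_
    rintro _ ⟨a, ha, rfl⟩
    exact ha
  have hrange : Nat.card f.range ≤ Nat.card (cU S U) := by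
    refine card_le_of_le ?_
    rintro _ ⟨a, rfl⟩
    exact hpow a a.2
  have h : nU S U ≤ e ^ 2 := by
    refine Nat.le_of_mul_le_mul_right ?_ (Nat.card_pos (α := cU S U))
    rw [← hs.card_U, ← f.ker.card_mul_index, index_ker]
    exact Nat.mul_le_mul hker hrange
  rw [show p - 1 = 2 * e by omega, mul_pow]
  exact Nat.mul_le_mul_left 4 h

/-- The bad characters live on single lines. -/
lemma card_bad_le {X : Subgroup G} (hX : LineData S W₁ U p X) :
    Nat.card {ω : ↥(fittingOf S) →* ℂˣ // OnCore S ω ∧ ¬ Good S U ω} ≤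
      Nat.card (cU S U) * (q * (p - 1)) := by
  classical
  have hPF : fittingHallOf S ≤ fittingOf S := hs.fitting_eq ▸ le_sup_left
  have hCF : cU S U ≤ fittingOf S := hs.fitting_eq ▸ le_sup_right
  have hlineP : ∀ {t x : G}, t ∈ W₁ → x ∈ X → t * x * t⁻¹ ∈ fittingHallOf S := fun {t x} ht hx =>
    (mem_normalizer_iff.1 (hs.le_normalizer (hs.W₁_le ht)) x).1 (hX.le hx)
  -- where a bad character is supported
  have key : ∀ ω : {ω : ↥(fittingOf S) →* ℂˣ // OnCore S ω ∧ ¬ Good S U ω},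
      ∃ t : W₁, (∃ x, ∃ hx : x ∈ X, ω.1 ⟨_, hPF (hlineP t.2 hx)⟩ ≠ 1) ∧
        ∀ s : W₁, s ≠ t → ∀ x (hx : x ∈ X), ω.1 ⟨_, hPF (hlineP s.2 hx)⟩ = 1 := by
    rintro ⟨ω, hon, hbad⟩
    obtain ⟨u, hu, hfixω, huC⟩ : ∃ u ∈ U, (∀ x y : fittingOf S, (x : G) ∈ fittingHallOf S →
        (y : G) = u * x * u⁻¹ → ω y = ω x) ∧ u ∉ cU S U := by
      by_contra hno
      push Not at hno
      exact hbad ⟨hon, hno⟩
    have htriv : ∀ t : W₁, u ∉ fixLine U X t → ∀ x (hx : x ∈ X),
        ω ⟨_, hPF (hlineP t.2 hx)⟩ = 1 := by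
      intro t ht x hx
      set T := X.map (MulAut.conj (t : G)).toMonoidHom with hT
      have hTP : T ≤ fittingHallOf S := by
        rintro _ ⟨y, hy, rfl⟩
        exact hlineP t.2 hy
      have hTu : ∀ y ∈ T, u * y * u⁻¹ ∈ T := by
        rintro _ ⟨y, hy, rfl⟩
        have hu' : (t : G)⁻¹ * u * t ∈ U :=
          (mem_normalizer_iff''.1 (hs.data.U_normal t.2) u).1 hu
        exact ⟨_, (mem_normalizer_iff.1 (hX.norm hu') y).1 hy, by
          show (t : G) * ((t : G)⁻¹ * u * t * y * ((t : G)⁻¹ * u * t)⁻¹) * (t : G)⁻¹ =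
            u * ((t : G) * y * (t : G)⁻¹) * u⁻¹
          group⟩
      haveI : IsMulCommutative T :=
        haveI := hs.elem.1
        OddLocal43.isMulCommutative_mono hTP
      let ψ : T → T := fun y => ⟨u * y * u⁻¹ * (y : G)⁻¹, mul_mem (hTu y y.2) (inv_mem y.2)⟩
      have hψ : Function.Injective ψ := by
        intro a b hab
        have e : u * (a : G) * u⁻¹ * (a : G)⁻¹ = u * (b : G) * u⁻¹ * (b : G)⁻¹ :=
          congrArg Subtype.val hab
        have hd : u * ((b : G)⁻¹ * a) * u⁻¹ = (b : G)⁻¹ * a := by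
          have hc : ∀ c d : T, (c : G) * d = d * c := fun c d =>
            congrArg Subtype.val (IsMulCommutative.is_comm.comm c d)
          calc u * ((b : G)⁻¹ * a) * u⁻¹ = (u * (b : G) * u⁻¹)⁻¹ * (u * (a : G) * u⁻¹) := by group
            _ = (b : G)⁻¹ * (u * (b : G) * u⁻¹ * (b : G)⁻¹)⁻¹ *
                  ((u * (a : G) * u⁻¹ * (a : G)⁻¹) * a) := by group
            _ = _ := by rw [e]; group
        by_contra hne
        refine ht (mem_fixLine.2 ⟨hu, fun y hy => ?_⟩)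
        haveI : Fact p.Prime := ⟨hs.hp⟩
        have hTc : Nat.card T = p := by
          rw [hT, card_map_of_injective (MulAut.conj _).injective, hX.card_eq]
        obtain ⟨i, hi⟩ := mem_zpowers_iff.1 (mem_zpowers_of_prime_card hTc
          (g := b⁻¹ * a) (g' := (⟨_, y, hy, rfl⟩ : T)) fun h => hne (inv_mul_eq_one.1 h).symm)
        have hcu : Commute u ((b : G)⁻¹ * a) := mul_inv_eq_iff_eq_mul.1 hd
        have := hcu.zpow_right i
        rw [show ((b : G)⁻¹ * a) ^ i = (t : G) * y * (t : G)⁻¹ from by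
          simpa using congrArg Subtype.val hi] at this
        exact this
      obtain ⟨y, hy⟩ := Finite.injective_iff_surjective.1 hψ
        ⟨_, x, hx, rfl⟩
      have hy' : u * (y : G) * u⁻¹ * (y : G)⁻¹ = (t : G) * x * (t : G)⁻¹ := congrArg Subtype.val hy
      have h1 := hfixω ⟨y, hPF (hTP y.2)⟩ ⟨_, hPF (hTP (hTu y y.2))⟩ (hTP y.2) rfl
      rw [show (⟨_, hPF (hlineP t.2 hx)⟩ : fittingOf S) =
          ⟨_, hPF (hTP (hTu y y.2))⟩ * ⟨y, hPF (hTP y.2)⟩⁻¹ from Subtype.ext hy'.symm,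
        map_mul, map_inv, h1, mul_inv_cancel]
    obtain ⟨x₀, hx₀, hωx₀⟩ := hon
    obtain ⟨t, x, hx, hne⟩ : ∃ t : W₁, ∃ x, ∃ hx : x ∈ X, ω ⟨_, hPF (hlineP t.2 hx)⟩ ≠ 1 := by
      by_contra hno
      push Not at hno
      obtain ⟨z, hz, he⟩ := hX.span (ω.ker.map (fittingOf S).subtype)
        (fun t ht x hx => ⟨_, hno ⟨t, ht⟩ x hx, rfl⟩) hx₀
      exact hωx₀ (by rw [← Subtype.ext he]; exact hz)
    refine ⟨t, ⟨x, hx, hne⟩, fun s hst => htriv s fun hus => ?_⟩
    exact huC (hs.separation hII hX s.2 t.2 (fun h => hst (Subtype.ext h)) hus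
      (by_contra fun h => hne (htriv t h x hx)))
  choose T hT hT' using key
  haveI : IsMulCommutative X :=
    haveI := hs.elem.1
    OddLocal43.isMulCommutative_mono hX.le
  have hXc : ∀ a b : X, a * b = b * a := fun a b => IsMulCommutative.is_comm.comm a b
  have hCc : ∀ a b : cU S U, a * b = b * a := fun a b =>
    Subtype.ext (hs.comm (hs.cU_le a.2) (hs.cU_le b.2))
  haveI : Fintype X := Fintype.ofFinite _
  haveI : Fintype (cU S U) := Fintype.ofFinite _
  haveI := PF14.hom_finite hXc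
  haveI := PF14.hom_finite hCc
  haveI : Fintype (X →* ℂˣ) := Fintype.ofFinite _
  haveI : Fintype (cU S U →* ℂˣ) := Fintype.ofFinite _
  let onLine : W₁ → (↥(fittingOf S) →* ℂˣ) → (X →* ℂˣ) := fun t ω =>
    ω.comp (MonoidHom.mk' (fun x : X => (⟨_, hPF (hlineP t.2 x.2)⟩ : fittingOf S)) fun a b =>
      Subtype.ext (by
        show (t : G) * ((a * b : X) : G) * (t : G)⁻¹ =
          (t : G) * a * (t : G)⁻¹ * ((t : G) * b * (t : G)⁻¹)
        rw [coe_mul]; group))
  let F : {ω : ↥(fittingOf S) →* ℂˣ // OnCore S ω ∧ ¬ Good S U ω} →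
      W₁ × {χ : X →* ℂˣ // χ ≠ 1} × (cU S U →* ℂˣ) := fun ω =>
    (T ω, ⟨onLine (T ω) ω.1, fun h => by
      obtain ⟨x, hx, hne⟩ := hT ω
      exact hne (DFunLike.congr_fun h ⟨x, hx⟩)⟩, ω.1.comp (inclusion hCF))
  have hF : Function.Injective F := by
    intro a b hab
    have e1 : T a = T b := congrArg Prod.fst hab
    have e2 : onLine (T a) a.1 = onLine (T b) b.1 := congrArg (fun v => v.2.1.1) hab
    have e3 : a.1.comp (inclusion hCF) = b.1.comp (inclusion hCF) :=
      congrArg (fun v => v.2.2) hab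
    let N : Subgroup G := (a.1.eqLocus b.1).map (fittingOf S).subtype
    have hPN : fittingHallOf S ≤ N := hX.span N fun t ht x hx => by
      refine ⟨⟨_, hPF (hlineP ht hx)⟩, ?_, rfl⟩
      show a.1 ⟨_, hPF (hlineP ht hx)⟩ = b.1 ⟨_, hPF (hlineP ht hx)⟩
      by_cases he : (⟨t, ht⟩ : W₁) = T a
      · have := DFunLike.congr_fun e2 ⟨x, hx⟩
        rw [← e1, ← he] at this
        exact this
      · rw [hT' a ⟨t, ht⟩ he x hx, hT' b ⟨t, ht⟩ (e1 ▸ he) x hx]
    have hCN : cU S U ≤ N := fun c hc => ⟨⟨c, hCF hc⟩,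
      (show a.1 ⟨c, hCF hc⟩ = b.1 ⟨c, hCF hc⟩ from DFunLike.congr_fun e3 ⟨c, hc⟩), rfl⟩
    refine Subtype.ext (MonoidHom.ext fun x => ?_)
    obtain ⟨y, hy, hyx⟩ := (hs.fitting_eq.le.trans (sup_le hPN hCN)) x.2
    rw [← Subtype.ext hyx]
    exact hy
  refine (Nat.card_le_card_of_injective F hF).trans (le_of_eq ?_)
  rw [Nat.card_prod, Nat.card_prod, hs.card_W₁, Nat.card_eq_fintype_card (α := {χ : X →* ℂˣ // χ ≠ 1}),
    Fintype.card_subtype_compl, Fintype.card_subtype_eq, PF14.card_hom hXc,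
    ← Nat.card_eq_fintype_card, hX.card_eq, Nat.card_eq_fintype_card (α := cU S U →* ℂˣ),
    PF14.card_hom hCc, ← Nat.card_eq_fintype_card]
  ring

/-- Peterfalvi (13.10)–(13.12), group part. -/
theorem dich : Dich S W₁ U W₂ p q := by
  refine ⟨hs.fitting_eq, hs.core_inf, hs.card_S, hs.card_fitting, hs.card_U, hs.modEq_n,
    hs.one_lt_n, fun r hr hd => hs.modEq_prime hII hr hd, hs.card_W₂_conj_le, ?_⟩
  rcases hs.fixedPointFree_or_line with hfree | ⟨X, hX⟩
  · refine Or.inl fun ω hon => ⟨hon, fun u hu hfix => by_contra fun huC => ?_⟩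
    obtain ⟨x, hx, hωx⟩ := hon
    let ψ : fittingHallOf S → fittingHallOf S := fun y => ⟨u * y * u⁻¹ * (y : G)⁻¹,
      mul_mem ((mem_normalizer_iff.1 (hs.le_normalizer (hs.U_le hu)) _).1 y.2) (inv_mem y.2)⟩
    have hψ : Function.Injective ψ := by
      intro a b hab
      have e : u * (a : G) * u⁻¹ * (a : G)⁻¹ = u * (b : G) * u⁻¹ * (b : G)⁻¹ :=
        congrArg Subtype.val hab
      refine Subtype.ext (inv_mul_eq_one.1 (hfree u hu huC _ (mul_mem (inv_mem b.2) a.2)
        (mul_inv_eq_iff_eq_mul.1 ?_))).symm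
      calc u * ((b : G)⁻¹ * a) * u⁻¹ = (u * (b : G) * u⁻¹)⁻¹ * (u * (a : G) * u⁻¹) := by group
        _ = (b : G)⁻¹ * (u * (b : G) * u⁻¹ * (b : G)⁻¹)⁻¹ *
              ((u * (a : G) * u⁻¹ * (a : G)⁻¹) * a) := by group
        _ = _ := by rw [e]; group
    obtain ⟨y, hy⟩ := Finite.injective_iff_surjective.1 hψ ⟨x, hx⟩
    have hy' : u * (y : G) * u⁻¹ * (y : G)⁻¹ = x := congrArg Subtype.val hy
    have hPF : fittingHallOf S ≤ fittingOf S := hs.fitting_eq ▸ le_sup_left
    have h1 := hfix ⟨y, hPF y.2⟩ ⟨_, hPF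
      ((mem_normalizer_iff.1 (hs.le_normalizer (hs.U_le hu)) _).1 y.2)⟩ y.2 rfl
    refine hωx ?_
    rw [show x = ⟨_, hPF ((mem_normalizer_iff.1 (hs.le_normalizer (hs.U_le hu)) _).1 y.2)⟩ *
        (⟨y, hPF y.2⟩ : fittingOf S)⁻¹ from Subtype.ext hy'.symm,
      map_mul, map_inv, h1, mul_inv_cancel]
  · exact Or.inr ⟨hs.n_le_of_line hII hX, hs.card_bad_le hII hX⟩

/-- In Type II every prime divisor of `|C|` divides `|U : C|`. -/
theorem prime_dvd_n {r : ℕ} (hr : r.Prime) (hd : r ∣ Nat.card (cU S U)) : r ∣ nU S U := by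
  by_contra hn
  have hmem : ∀ a ∈ U, a ^ r = 1 → a ∈ cU S U := by
    intro a ha har
    have hnm : (cU S U).subgroupOf U ≤ ⊤ := le_top
    haveI : ((cU S U).subgroupOf U).Normal := ⟨fun x hx g => by
      rw [show g * x * g⁻¹ = x from Subtype.ext (by
        show (g : G) * x * (g : G)⁻¹ = x
        rw [hs.comm g.2 x.2, mul_inv_cancel_right])]
      exact hx⟩
    have h1 : (QuotientGroup.mk (⟨a, ha⟩ : U) : U ⧸ (cU S U).subgroupOf U) ^ r = 1 :=
      (QuotientGroup.eq_one_iff _).2 (by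
        rw [mem_subgroupOf]
        show a ^ r ∈ cU S U
        rw [har]
        exact one_mem _)
    have h2 : (QuotientGroup.mk (⟨a, ha⟩ : U) : U ⧸ (cU S U).subgroupOf U) = 1 := orderOf_eq_one_iff.1
      (Nat.eq_one_of_dvd_coprimes ((Nat.Prime.coprime_iff_not_dvd hr).2 hn)
        (orderOf_dvd_of_pow_eq_one h1) (orderOf_dvd_natCard _))
    exact mem_subgroupOf.1 ((QuotientGroup.eq_one_iff _).1 h2)
  let T : Subgroup G :=
    { carrier := {a | a ∈ U ∧ a ^ r = 1}
      one_mem' := ⟨one_mem _, one_pow r⟩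
      mul_mem' := fun {a b} ha hb => ⟨mul_mem ha.1 hb.1, by
        rw [Commute.mul_pow (hs.comm ha.1 hb.1), ha.2, hb.2, one_mul]⟩
      inv_mem' := fun {a} ha => ⟨inv_mem ha.1, by rw [inv_pow, ha.2, inv_one]⟩ }
  haveI : Fact r.Prime := ⟨hr⟩
  obtain ⟨x, hx⟩ := exists_prime_orderOf_dvd_card' r hd
  have hTne : T ≠ ⊥ := fun h => hr.ne_one (by
    have hxT : (x : G) ∈ T := ⟨hs.cU_le x.2, by rw [← hx, ← orderOf_coe, pow_orderOf_eq_one]⟩
    rw [← hx, ← orderOf_coe]
    rw [mem_bot.1 (h.le hxT), orderOf_one])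
  have hSC : S ≤ normalizer (cU S U : Set G) := by
    refine hs.S_eq.le.trans (sup_le (sup_le (fun y hy => centralizer_le_normalizer _ ?_)
      fun y hy => centralizer_le_normalizer _ ?_) hs.W₁_normalizes_cU)
    · exact mem_centralizer_iff.2 fun c hc => (mem_centralizer_iff.1 hc.2 y hy).symm
    · exact mem_centralizer_iff.2 fun c hc => hs.comm (hs.cU_le hc) hy
  have hST : S ≤ normalizer (T : Set G) := Coprime.le_normalizer_of_conj_mem fun s hs' a ha =>
    ⟨hs.cU_le ((mem_normalizer_iff.1 (hSC hs') a).1 (hmem a ha.1 ha.2)), by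
      rw [conj_pow, ha.2, mul_one, mul_inv_cancel]⟩
  haveI : Fintype G := Fintype.ofFinite G
  obtain ⟨-, -, g, hgS, hgU⟩ :=
    typeII_complement hs.minSimple hs.coatom hs.data hII
  have hgT : g ∈ normalizer (T : Set G) := by
    rw [mem_normalizer_iff_map_conj_eq]
    refine eq_of_le_of_card_ge ?_ (card_map_of_injective (MulAut.conj _).injective).ge
    rintro _ ⟨a, ha, rfl⟩
    exact ⟨(hgU a).1 ha.1, by
      show (g * a * g⁻¹) ^ r = 1
      rw [conj_pow, ha.2, mul_one, mul_inv_cancel]⟩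
  haveI := hs.minSimple.2.1
  have hTS : T ≤ S := fun a ha => hs.U_le ha.1
  have htop : normalizer (T : Set G) ≠ ⊤ := fun h => by
    rw [normalizer_eq_top_iff] at h
    rcases Subgroup.Normal.eq_bot_or_eq_top (H := T) h with h' | h'
    · exact hTne h'
    · exact hs.coatom.1 (top_le_iff.1 (h' ▸ hTS))
  exact hgS ((hs.coatom.le_iff.1 hST).resolve_left htop ▸ hgT)

end TypeII

end Side

end Cfsg.Agent.PF13.Reg
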