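import Cfsg.Agent.PF13.Reg.Defs
import Cfsg.Agent.PF13.Structure
import Cfsg.Agent.S1439
import Cfsg.Agent.OddLocal43.FrobeniusAction

/-!
# The action of `U W₁` on `S_F` for a member of a pair: elementary facts

The subgroup `C = C_U(S_F)` is cyclic, `|U : C| ≡ 1 (mod 2 q)`, no proper nontrivial subgroup of
`S_F` is normalized by `U W₁`, and `U` has rank at most two when `S` is of Type II.
-/

set_option autoImplicit false

namespace Cfsg.Agent.PF13.Reg

open Cfsg Subgroup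

universe u

variable {G : Type u} [Group G] [Finite G] {S W₁ U W₂ : Subgroup G} {p q : ℕ}

namespace Side

variable (hs : Side S W₁ U W₂ p q)
include hs

lemma derived_le : (⁅S, S⁆ : Subgroup G) ≤ S := hs.data.W₁_compl.1

lemma core_le_derived : fittingHallOf S ≤ ⁅S, S⁆ := hs.data.U_compl.1

lemma core_le_S : fittingHallOf S ≤ S := hs.core_le_derived.trans hs.derived_le

lemma U_le : U ≤ S := hs.data.U_compl.2.1.trans hs.derived_le

lemma W₁_le : W₁ ≤ S := hs.data.W₁_compl.2.1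

lemma core_inf_U : fittingHallOf S ⊓ U = ⊥ := hs.data.U_compl.2.2.1

lemma W₂_core_le : W₂ ≤ fittingHallOf S := hs.data.W₂_le.trans inf_le_left

lemma le_normalizer : S ≤ normalizer (fittingHallOf S : Set G) :=
  BGSummary.le_normalizer_fittingHallOf S

lemma derived_eq : (⁅S, S⁆ : Subgroup G) = fittingHallOf S ⊔ U :=
  (BGSummary.TypeCore.sup_eq hs.data.U_compl).symm.trans (by
    first | rfl | rw [sup_comm])

lemma S_eq : S = fittingHallOf S ⊔ U ⊔ W₁ := by
  rw [← hs.derived_eq]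
  exact (BGSummary.TypeCore.sup_eq hs.data.W₁_compl).symm.trans (by
    first | rfl | rw [sup_comm])

lemma core_relIndex : (fittingHallOf S).relIndex S = Nat.card U * q := by
  rw [← hs.card_W₁, ← BGSummary.card_eq_of_complIn hs.data.U_compl
      (hs.derived_le.trans hs.le_normalizer),
    ← BGSummary.card_eq_of_complIn hs.data.W₁_compl (Coprime.le_normalizer_commutator_left S S),
    relIndex_mul_relIndex _ _ _ hs.core_le_derived hs.derived_le]

lemma card_S : Nat.card S = p ^ q * Nat.card U * q := by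
  rw [mul_assoc, ← hs.core_relIndex, ← hs.card_core, ← relIndex_bot_left, ← relIndex_bot_left,
    relIndex_mul_relIndex _ _ _ bot_le hs.core_le_S]

lemma not_p_dvd : ¬ p ∣ Nat.card U := fun h => by
  have hc := BGSummary.fittingHallOf_relIndex_coprime S
  rw [hs.card_core, hs.core_relIndex] at hc
  exact hs.hp.not_dvd_one (hc.gcd_eq_one ▸
    Nat.dvd_gcd (dvd_pow_self p hs.hq.ne_zero) (h.mul_right q))

lemma p_ne_two : p ≠ 2 := fun h => by
  have hodd := BGSigma.odd_card_subgroup hs.minSimple W₂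
  rw [hs.card_W₂, h] at hodd
  exact absurd hodd (by decide)

lemma q_ne_two : q ≠ 2 := fun h => by
  have hodd := BGSigma.odd_card_subgroup hs.minSimple W₁
  rw [hs.card_W₁, h] at hodd
  exact absurd hodd (by decide)

lemma exists_gen : ∃ w ∈ W₁, w ≠ 1 ∧ ∀ x ∈ W₁, ∃ i < q, x = w ^ i := by
  obtain ⟨w, hw, hw1⟩ := (Subgroup.bot_or_exists_ne_one W₁).resolve_left hs.data.W₁_ne
  refine ⟨w, hw, hw1, fun x hx => ?_⟩
  haveI : Fact q.Prime := ⟨hs.hq⟩
  obtain ⟨i, hi⟩ := mem_powers_of_prime_card (G := W₁) hs.card_W₁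
    (g := ⟨w, hw⟩) (g' := ⟨x, hx⟩) fun h => hw1 (congrArg Subtype.val h)
  have hwq : w ^ q = 1 := by
    rw [← hs.card_W₁]
    exact congrArg Subtype.val (pow_card_eq_one' (x := (⟨w, hw⟩ : W₁)))
  refine ⟨i % q, Nat.mod_lt i hs.hq.pos, ?_⟩
  rw [← pow_eq_pow_mod i hwq]
  exact (congrArg Subtype.val hi).symm

lemma fpf {w u : G} (hw : w ∈ W₁) (hw1 : w ≠ 1) (hu : u ∈ U) (h : w * u = u * w) : u = 1 := by
  have h1 : u ∈ W₂ := by
    rw [← hs.data.W₂_centralizer w hw hw1]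
    exact ⟨hs.data.U_compl.2.1 hu, mem_centralizer_singleton_iff.2 h.symm⟩
  exact mem_bot.1 (hs.core_inf_U ▸ ⟨hs.W₂_core_le h1, hu⟩)

lemma U_inf_W₁ : U ⊓ W₁ = ⊥ :=
  le_bot_iff.1 ((inf_le_inf_right W₁ hs.data.U_compl.2.1).trans hs.data.W₁_compl.2.2.1.le)

omit [Finite G] in
lemma comm {a b : G} (ha : a ∈ U) (hb : b ∈ U) : a * b = b * a :=
  congrArg Subtype.val (hs.U_comm.is_comm.comm ⟨a, ha⟩ ⟨b, hb⟩)

lemma cU_le : cU S U ≤ U := inf_le_left

lemma W₁_normalizes_cU : W₁ ≤ normalizer (cU S U : Set G) :=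
  Coprime.le_normalizer_inf hs.data.U_normal
    (Coprime.le_normalizer_centralizer (hs.W₁_le.trans hs.le_normalizer))

/-- A `W₁`-invariant subgroup of `U` has order congruent to one modulo `q`. -/
lemma card_modEq {X : Subgroup G} (hX : X ≤ U) (hn : W₁ ≤ normalizer (X : Set G)) :
    Nat.card X ≡ 1 [MOD q] := by
  haveI : Fact q.Prime := ⟨hs.hq⟩
  letI : MulAction W₁ X :=
    { smul := fun w x => ⟨(w : G) * x * (w : G)⁻¹, (mem_normalizer_iff.1 (hn w.2) _).1 x.2⟩
      one_smul := fun x => Subtype.ext (show (1 : G) * x * (1 : G)⁻¹ = x by simp)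
      mul_smul := fun a b x => Subtype.ext (show ((a * b : W₁) : G) * x * ((a * b : W₁) : G)⁻¹
        = (a : G) * ((b : G) * x * (b : G)⁻¹) * (a : G)⁻¹ by simp [mul_assoc]) }
  have hp : IsPGroup q W₁ := IsPGroup.of_card (n := 1) (by rw [hs.card_W₁, pow_one])
  have hfix : Nat.card (MulAction.fixedPoints W₁ X) = 1 := by
    rw [Nat.card_eq_one_iff_unique]
    refine ⟨⟨fun a b => Subtype.ext (Subtype.ext ?_)⟩, ⟨⟨1, fun w => Subtype.ext ?_⟩⟩⟩
    · have h : ∀ c : MulAction.fixedPoints W₁ X, ((c : X) : G) = 1 := fun c => by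
        obtain ⟨w, hw, hw1, -⟩ := hs.exists_gen
        exact hs.fpf hw hw1 (hX (c : X).2)
          (mul_inv_eq_iff_eq_mul.1 (congrArg Subtype.val (c.2 ⟨w, hw⟩)))
      rw [h a, h b]
    · show (w : G) * ((1 : X) : G) * (w : G)⁻¹ = ((1 : X) : G)
      simp
  have := hp.card_modEq_card_fixedPoints X
  rwa [hfix] at this

/-- `U W₁` acts irreducibly on `S_F` in the sense that it has no nontrivial invariant proper
subgroup. -/
lemma core_minimal {N : Subgroup G} (hN : N ≤ fittingHallOf S) (hU : U ≤ normalizer (N : Set G))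
    (hW : W₁ ≤ normalizer (N : Set G)) : N = ⊥ ∨ N = fittingHallOf S := by
  haveI : Fact p.Prime := ⟨hs.hp⟩
  haveI := hs.elem.1
  have hNe : IsElementaryAbelian p N :=
    ⟨OddLocal43.isMulCommutative_mono hN, fun a ha => hs.elem.2 a (hN ha)⟩
  have hUW : Nat.card ↥(U ⊔ W₁) = Nat.card U * q := by
    have h := Thompson.card_sup_mul_card_inf (H := U) (K := W₁) hs.data.U_normal
    rwa [hs.U_inf_W₁, card_bot, mul_one, hs.card_W₁] at h
  have hcop : (Nat.card ↥(U ⊔ W₁)).Coprime p := by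
    rw [hUW]
    exact (((Nat.Prime.coprime_iff_not_dvd hs.hp).2 hs.not_p_dvd).symm).mul
      ((Nat.coprime_primes hs.hq hs.hp).2 hs.ne.symm)
  have hfpf : ∀ r ∈ W₁, r ≠ 1 → U ⊓ centralizer ({r} : Set G) = ⊥ := fun r hr hr1 =>
    (eq_bot_iff_forall _).2 fun x hx =>
      hs.fpf hr hr1 hx.1 (mem_centralizer_singleton_iff.1 hx.2).symm
  have h := OddLocal43.card_eq_pow_of_frobenius U W₁ N hNe hcop hs.data.U_normal hs.U_inf_W₁ hfpf
    hU hW (le_bot_iff.1 ((inf_le_inf_right _ hN).trans hs.fix_U.le))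
  rw [hs.card_W₁] at h
  have hle : N ⊓ centralizer (W₁ : Set G) ≤ W₂ := fun x hx => by
    obtain ⟨w, hw, hw1, -⟩ := hs.exists_gen
    rw [← hs.data.W₂_centralizer w hw hw1]
    exact ⟨hs.core_le_derived (hN hx.1),
      mem_centralizer_singleton_iff.2 (mem_centralizer_iff.1 hx.2 w hw).symm⟩
  rcases (Nat.dvd_prime hs.hp).1 (hs.card_W₂ ▸ card_dvd_of_le hle) with h1 | h1
  · rw [h1, one_pow] at h
    exact Or.inl (Subgroup.eq_bot_of_card_eq N h)
  · rw [h1] at h
    exact Or.inr (eq_of_le_of_card_ge hN (by rw [hs.card_core, h]))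

/-- A `W₁`-invariant subgroup of `U` with a fixed point on `S_F` lies in `C`. -/
lemma le_cU_of_fixed {X : Subgroup G} (hX : X ≤ U) (hn : W₁ ≤ normalizer (X : Set G))
    (hfix : fittingHallOf S ⊓ centralizer (X : Set G) ≠ ⊥) : X ≤ cU S U := by
  have hUX : U ≤ normalizer (X : Set G) := fun u hu => by
    refine centralizer_le_normalizer _ (mem_centralizer_iff.2 fun x hx => ?_)
    exact hs.comm (hX hx) hu
  have h := (hs.core_minimal inf_le_left
    (Coprime.le_normalizer_inf (hs.U_le.trans hs.le_normalizer)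
      (Coprime.le_normalizer_centralizer hUX))
    (Coprime.le_normalizer_inf (hs.W₁_le.trans hs.le_normalizer)
      (Coprime.le_normalizer_centralizer hn))).resolve_left hfix
  exact le_inf hX fun x hx => mem_centralizer_iff.2 fun y hy =>
    ((mem_centralizer_iff.1 (h.ge hy).2) x hx).symm

lemma cU_ne : cU S U ≠ U := fun h => by
  have h1 : fittingHallOf S ≤ centralizer (U : Set G) := fun y hy =>
    mem_centralizer_iff.2 fun x hx =>
      (mem_centralizer_iff.1 ((h.ge hx : x ∈ cU S U)).2 y hy).symm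
  have h2 := hs.card_core
  rw [← inf_eq_left.2 h1, hs.fix_U, card_bot] at h2
  exact (Nat.one_lt_pow hs.hq.ne_zero hs.hp.one_lt).ne h2

lemma fitting_eq : fittingOf S = fittingHallOf S ⊔ cU S U := by
  refine le_antisymm ?_ (sup_le ?_ ?_)
  · rw [← hs.data.fitting_eq]
    refine sup_le le_sup_left fun x hx => ?_
    have hxd : x ∈ (⁅S, S⁆ : Subgroup G) :=
      hs.data.fitting_le (hs.data.fitting_eq.le (mem_sup_right hx))
    obtain ⟨a, ha, b, hb, hab⟩ := hs.data.U_compl.2.2.2 x hxd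
    subst hab
    refine mul_mem_sup ha ⟨hb, mem_centralizer_iff.2 fun y hy => ?_⟩
    have h1 := mem_centralizer_iff.1 hx.2 y hy
    have h2 : a * y = y * a := congrArg Subtype.val (hs.elem.1.is_comm.comm ⟨a, ha⟩ ⟨y, hy⟩)
    rw [← mul_assoc, ← h2, mul_assoc, mul_assoc] at h1
    exact mul_left_cancel h1
  · rw [← hs.data.fitting_eq]
    exact le_sup_left
  · rw [← hs.data.fitting_eq]
    exact le_sup_of_le_right (inf_le_inf_right _ hs.U_le)

lemma core_inf : fittingHallOf S ⊓ cU S U = ⊥ :=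
  le_bot_iff.1 ((inf_le_inf_left _ inf_le_left).trans hs.core_inf_U.le)

lemma card_fitting : Nat.card (fittingOf S) = p ^ q * Nat.card (cU S U) := by
  have h := Thompson.card_sup_mul_card_inf (H := fittingHallOf S) (K := cU S U)
    ((hs.cU_le.trans hs.U_le).trans hs.le_normalizer)
  rwa [hs.core_inf, card_bot, mul_one, ← hs.fitting_eq, hs.card_core] at h

lemma card_U : Nat.card U = nU S U * Nat.card (cU S U) := by
  rw [nU, mul_comm, ← relIndex_bot_left, ← relIndex_bot_left,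
    relIndex_mul_relIndex _ _ _ bot_le hs.cU_le]

lemma n_odd : Odd (nU S U) :=
  Odd.of_dvd_nat (BGSigma.odd_card_subgroup hs.minSimple U) ⟨_, hs.card_U⟩

lemma one_lt_n : 1 < nU S U := by
  refine Nat.one_lt_iff_ne_zero_and_ne_one.2 ⟨fun h => ?_, fun h => ?_⟩
  · have := hs.card_U
    rw [h, zero_mul] at this
    exact Nat.card_pos.ne' this
  · exact hs.cU_ne (le_antisymm hs.cU_le (relIndex_eq_one.1 h))

lemma modEq_n : 2 * q ∣ nU S U - 1 := by
  have h1 := hs.card_modEq le_rfl hs.data.U_normal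
  have h2 := hs.card_modEq hs.cU_le hs.W₁_normalizes_cU
  rw [hs.card_U] at h1
  have h3 : nU S U ≡ 1 [MOD q] := by
    simpa using ((Nat.ModEq.mul_left (nU S U) h2).symm.trans h1)
  refine Nat.Coprime.mul_dvd_of_dvd_of_dvd
    ((Nat.coprime_primes Nat.prime_two hs.hq).2 hs.q_ne_two.symm) ?_
    ((Nat.modEq_iff_dvd' hs.one_lt_n.le).1 h3.symm)
  obtain ⟨k, hk⟩ := hs.n_odd
  exact ⟨k, by omega⟩

lemma card_W₂_conj_le : nU S U * (p - 1) ≤ p ^ q - 1 := by
  classical
  set C' := (cU S U).subgroupOf U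
  let f : (U ⧸ C') × {z : W₂ // z ≠ 1} → {x : fittingHallOf S // x ≠ 1} := fun a =>
    ⟨⟨(a.1.out : G) * (a.2.1 : G) * (a.1.out : G)⁻¹,
      (mem_normalizer_iff.1 (hs.le_normalizer (hs.U_le a.1.out.2)) _).1 (hs.W₂_core_le a.2.1.2)⟩,
      fun h => a.2.2 (Subtype.ext (conj_eq_one_iff.1 (congrArg Subtype.val h)))⟩
  have hcen : ∀ z ∈ W₂, ∀ w ∈ W₁, w * z = z * w := fun z hz w hw =>
    hs.data.selfNormalizing.2.2.2.1 w hw z hz
  have key : ∀ u ∈ U, ∀ z ∈ W₂, z ≠ 1 → u * z * u⁻¹ ∈ W₂ → u ∈ cU S U := by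
    intro u hu z hz hz1 hzu
    have hfix : ∀ w ∈ W₁, u⁻¹ * (w * u * w⁻¹) ∈ cU S U := by
      intro w hw
      have hwu : w * u * w⁻¹ ∈ U := (mem_normalizer_iff.1 (hs.data.U_normal hw) u).1 hu
      have h1 : w * u * w⁻¹ * z * (w * u * w⁻¹)⁻¹ = u * z * u⁻¹ := by
        have e1 : w⁻¹ * z * w = z := by rw [mul_assoc, ← hcen z hz w hw, inv_mul_cancel_left]
        have e2 : w * (u * z * u⁻¹) * w⁻¹ = u * z * u⁻¹ := by
          rw [hcen _ hzu w hw, mul_inv_cancel_right]
        calc w * u * w⁻¹ * z * (w * u * w⁻¹)⁻¹ = w * (u * (w⁻¹ * z * w) * u⁻¹) * w⁻¹ := by group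
          _ = _ := by rw [e1, e2]
      -- the centralizer of `z` in `U`
      set X := U ⊓ centralizer ({z} : Set G)
      have hXn : W₁ ≤ normalizer (X : Set G) := Coprime.le_normalizer_inf hs.data.U_normal
        (Coprime.le_normalizer_of_conj_mem fun a ha x hx => mem_centralizer_singleton_iff.2 (by
          have e := mem_centralizer_singleton_iff.1 hx
          have e1 : a * z * a⁻¹ = z := by rw [hcen z hz a ha, mul_inv_cancel_right]
          calc a * x * a⁻¹ * z = a * x * a⁻¹ * (a * z * a⁻¹) := by rw [e1]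
            _ = a * (x * z) * a⁻¹ := by group
            _ = a * (z * x) * a⁻¹ := by rw [e]
            _ = (a * z * a⁻¹) * (a * x * a⁻¹) := by group
            _ = _ := by rw [e1]))
      refine hs.le_cU_of_fixed inf_le_left hXn (fun h0 => hz1 (mem_bot.1 (h0.le ⟨hs.W₂_core_le hz,
        mem_centralizer_iff.2 fun x hx => mem_centralizer_singleton_iff.1 hx.2⟩)))
        ⟨U.mul_mem (U.inv_mem hu) hwu, mem_centralizer_singleton_iff.2 ?_⟩
      calc u⁻¹ * (w * u * w⁻¹) * z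
          = u⁻¹ * (w * u * w⁻¹ * z * (w * u * w⁻¹)⁻¹) * (w * u * w⁻¹) := by group
        _ = u⁻¹ * (u * z * u⁻¹) * (w * u * w⁻¹) := by rw [h1]
        _ = z * (u⁻¹ * (w * u * w⁻¹)) := by group
    obtain ⟨w, hw, hw1, -⟩ := hs.exists_gen
    -- the map `c ↦ c⁻¹ (w c w⁻¹)` of `C` is onto
    let g : cU S U → cU S U := fun c => ⟨(c : G)⁻¹ * (w * c * w⁻¹), mul_mem (inv_mem c.2)
      ((mem_normalizer_iff.1 (hs.W₁_normalizes_cU hw) _).1 c.2)⟩
    have hg : Function.Injective g := by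
      intro a b hab
      have e : (a : G)⁻¹ * (w * a * w⁻¹) = (b : G)⁻¹ * (w * b * w⁻¹) := congrArg Subtype.val hab
      refine Subtype.ext (inv_mul_eq_one.1 (hs.fpf hw hw1 (mul_mem (inv_mem (hs.cU_le a.2))
        (hs.cU_le b.2)) (mul_inv_eq_iff_eq_mul.1 ?_)))
      calc w * ((a : G)⁻¹ * b) * w⁻¹ = (w * a * w⁻¹)⁻¹ * (w * b * w⁻¹) := by group
        _ = ((a : G)⁻¹ * (w * a * w⁻¹))⁻¹ * ((a : G)⁻¹ * b) * ((b : G)⁻¹ * (w * b * w⁻¹)) := by group
        _ = ((b : G)⁻¹ * (w * b * w⁻¹))⁻¹ * ((b : G)⁻¹ * (w * b * w⁻¹)) * ((a : G)⁻¹ * b) := by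
          rw [e]
          have hU1 : (a : G)⁻¹ * b ∈ U := mul_mem (inv_mem (hs.cU_le a.2)) (hs.cU_le b.2)
          have hU2 : (b : G)⁻¹ * (w * b * w⁻¹) ∈ U := mul_mem (inv_mem (hs.cU_le b.2))
            ((mem_normalizer_iff.1 (hs.data.U_normal hw) _).1 (hs.cU_le b.2))
          rw [mul_assoc, hs.comm hU1 hU2, ← mul_assoc]
        _ = _ := by group
    obtain ⟨c, hc⟩ := (Finite.injective_iff_surjective.1 hg) ⟨_, hfix w hw⟩
    have e : (c : G)⁻¹ * (w * c * w⁻¹) = u⁻¹ * (w * u * w⁻¹) := congrArg Subtype.val hc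
    have h1 : (c : G)⁻¹ * u = 1 := by
      refine hs.fpf hw hw1 (mul_mem (inv_mem (hs.cU_le c.2)) hu) (mul_inv_eq_iff_eq_mul.1 ?_)
      calc w * ((c : G)⁻¹ * u) * w⁻¹ = (w * c * w⁻¹)⁻¹ * (w * u * w⁻¹) := by group
        _ = ((c : G)⁻¹ * (w * c * w⁻¹))⁻¹ * ((c : G)⁻¹ * u) * (u⁻¹ * (w * u * w⁻¹)) := by group
        _ = (u⁻¹ * (w * u * w⁻¹))⁻¹ * (u⁻¹ * (w * u * w⁻¹)) * ((c : G)⁻¹ * u) := by
          rw [e]
          have hU1 : (c : G)⁻¹ * u ∈ U := mul_mem (inv_mem (hs.cU_le c.2)) hu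
          have hU2 : u⁻¹ * (w * u * w⁻¹) ∈ U := mul_mem (inv_mem hu)
            ((mem_normalizer_iff.1 (hs.data.U_normal hw) _).1 hu)
          rw [mul_assoc, hs.comm hU1 hU2, ← mul_assoc]
        _ = _ := by group
    rw [inv_mul_eq_one] at h1
    exact h1 ▸ c.2
  have hf : Function.Injective f := by
    rintro ⟨i, z⟩ ⟨j, z'⟩ h
    have e : (i.out : G) * (z.1 : G) * (i.out : G)⁻¹ = (j.out : G) * (z'.1 : G) * (j.out : G)⁻¹ :=
      congrArg (fun x => ((x.1 : fittingHallOf S) : G)) h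
    have e2 : ((j.out : G)⁻¹ * i.out) * (z.1 : G) * ((j.out : G)⁻¹ * i.out)⁻¹ = z'.1 := by
      calc _ = (j.out : G)⁻¹ * ((i.out : G) * (z.1 : G) * (i.out : G)⁻¹) * j.out := by group
        _ = _ := by rw [e]; group
    have hu := key _ (mul_mem (inv_mem j.out.2) i.out.2) _ z.1.2
      (fun h => z.2 (Subtype.ext h)) (e2 ▸ z'.1.2)
    have hij : i = j := by
      rw [← i.out_eq, ← j.out_eq]
      exact (QuotientGroup.eq.2 (show j.out⁻¹ * i.out ∈ C' from hu)).symm
    subst hij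
    simp only [mul_right_inj, mul_left_inj] at e
    exact Prod.ext rfl (Subtype.ext (Subtype.ext e))
  have h := Nat.card_le_card_of_injective f hf
  haveI : Fintype W₂ := Fintype.ofFinite _
  haveI : Fintype (fittingHallOf S) := Fintype.ofFinite _
  rw [Nat.card_prod] at h
  have e1 : Nat.card {z : W₂ // z ≠ 1} = p - 1 := by
    rw [Nat.card_eq_fintype_card, Fintype.card_subtype_compl, Fintype.card_subtype_eq,
      ← Nat.card_eq_fintype_card, hs.card_W₂]
  have e2 : Nat.card {x : fittingHallOf S // x ≠ 1} = p ^ q - 1 := by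
    rw [Nat.card_eq_fintype_card, Fintype.card_subtype_compl, Fintype.card_subtype_eq,
      ← Nat.card_eq_fintype_card, hs.card_core]
  rwa [e1, e2, ← index_eq_card] at h

section TypeII

variable (hII : IsOfTypeII S)
include hII

lemma not_sigma {r : ℕ} (hr : r.Prime) (hd : r ∣ Nat.card U) : r ∉ sigma S := fun h => by
  have hi := (PF8.summaryInputs hs.minSimple).sigma_hall S hs.coatom
  refine hi.1.2.2 r hr h ?_
  rw [← (PF8.typeII_of_typePWith hs.minSimple hs.coatom hs.data hII).1, hs.core_relIndex]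
  exact hd.mul_right q

lemma isCyclic_cU : IsCyclic (cU S U) := by
  haveI := (S1439.result hs.minSimple S hs.coatom).1
  refine isCyclic_of_le (BGSigma.le_piCoreOf (π := {r | r.Prime ∧ r ∉ sigma S})
    (hs.fitting_eq ▸ le_sup_right) (fun x hx => centralizer_le_normalizer _
      (mem_centralizer_iff.2 fun c hc => congrArg Subtype.val (hs.fitting_comm.is_comm.comm
        ⟨c, hs.fitting_eq ▸ mem_sup_right hc⟩ ⟨x, hx⟩))) ?_)
  exact fun r hr hd => ⟨hr, hs.not_sigma hII hr (hd.trans (card_dvd_of_le hs.cU_le))⟩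

lemma rank_le {r : ℕ} (hr : r.Prime) {A : Subgroup G} (hA : A ≤ U) (hAp : ∀ a ∈ A, a ^ r = 1) :
    Nat.card A ≤ r ^ 2 := by
  haveI : Fact r.Prime := ⟨hr⟩
  by_cases hd : r ∣ Nat.card U
  · have h := BGSigma.not_sigma_rank_two hs.minSimple (BGSigma.uniquenessTheorem hs.minSimple)
      hs.coatom hr (hs.not_sigma hII hr hd)
    have hAS := hA.trans hs.U_le
    have h2 := h (A.subgroupOf S)
      ⟨⟨fun a b => Subtype.ext (Subtype.ext (hs.comm (hA a.2) (hA b.2)))⟩⟩
      (fun a ha => Subtype.ext (hAp a ha))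
    rwa [Nat.card_congr (subgroupOfEquivOfLe hAS).toEquiv] at h2
  · have hbot : A = ⊥ := by
      refine (eq_bot_iff_forall _).2 fun a ha => by_contra fun ha1 => hd ?_
      rw [← orderOf_eq_prime (hAp a ha) ha1]
      exact Subgroup.orderOf_dvd_natCard _ (hA ha)
    rw [hbot, card_bot]
    exact Nat.one_le_pow _ _ hr.pos

lemma modEq_prime {r : ℕ} (hr : r.Prime) (hd : r ∣ Nat.card (cU S U)) : 2 * q ∣ r - 1 := by
  haveI : Fact r.Prime := ⟨hr⟩
  haveI := hs.isCyclic_cU hII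
  obtain ⟨x, hx⟩ := exists_prime_orderOf_dvd_card' r hd
  set X := zpowers (x : G) with hX
  have hox : orderOf (x : G) = r := (orderOf_coe x).trans hx
  have hXc : Nat.card X = r := by rw [hX, Nat.card_zpowers, hox]
  have hXC : X ≤ cU S U := zpowers_le.2 x.2
  have hn : W₁ ≤ normalizer (X : Set G) := by
    refine Coprime.le_normalizer_of_conj_mem fun w hw y hy => ?_
    obtain ⟨k, rfl⟩ := mem_zpowers_iff.1 hy
    rw [← conj_zpow]
    refine zpow_mem ?_ k
    have hwx : w * x * w⁻¹ ∈ cU S U :=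
      (mem_normalizer_iff.1 (hs.W₁_normalizes_cU hw) _).1 x.2
    have ho : orderOf (w * (x : G) * w⁻¹) = r := by
      rw [← hox]
      exact orderOf_injective (MulAut.conj w).toMonoidHom (MulAut.conj w).injective (x : G)
    classical
    haveI : Fintype (cU S U) := Fintype.ofFinite _
    set T := (Finset.univ : Finset (cU S U)).filter fun a => a ^ r = 1
    have hT : T.card ≤ r := IsCyclic.card_pow_eq_one_le hr.pos
    have hsub : (zpowers x : Set (cU S U)).toFinset ⊆ T := fun a ha => by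
      obtain ⟨m, rfl⟩ := mem_zpowers_iff.1 (Set.mem_toFinset.1 ha)
      refine Finset.mem_filter.2 ⟨Finset.mem_univ _, ?_⟩
      rw [← zpow_natCast, ← zpow_mul, mul_comm, zpow_mul, zpow_natCast, ← hx, pow_orderOf_eq_one,
        one_zpow]
    have hcz : (zpowers x : Set (cU S U)).toFinset.card = r := by
      rw [Set.toFinset_card, ← Nat.card_eq_fintype_card, ← hx]
      exact Nat.card_zpowers x
    have hmem : (⟨_, hwx⟩ : cU S U) ∈ T := Finset.mem_filter.2 ⟨Finset.mem_univ _, Subtype.ext (by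
      show (w * (x : G) * w⁻¹) ^ r = 1
      rw [← ho, pow_orderOf_eq_one])⟩
    rw [← Finset.eq_of_subset_of_card_le hsub (hT.trans hcz.ge)] at hmem
    obtain ⟨m, hm⟩ := mem_zpowers_iff.1 (Set.mem_toFinset.1 hmem)
    exact mem_zpowers_iff.2 ⟨m, congrArg Subtype.val hm⟩
  have h := hs.card_modEq (hXC.trans hs.cU_le) hn
  rw [hXc] at h
  refine Nat.Coprime.mul_dvd_of_dvd_of_dvd
    ((Nat.coprime_primes Nat.prime_two hs.hq).2 hs.q_ne_two.symm) ?_
    ((Nat.modEq_iff_dvd' hr.one_le).1 h.symm)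
  obtain ⟨k, hk⟩ : Odd r :=
    Odd.of_dvd_nat (BGSigma.odd_card_subgroup hs.minSimple (cU S U)) hd
  exact ⟨k, by omega⟩

end TypeII

end Side

end Cfsg.Agent.PF13.Reg
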