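import Cfsg.Agent.PF13.Reg.SideOfPair
import Cfsg.Agent.PF.FullOrder

/-!
# Peterfalvi (13.10)–(13.12): `Dich` for a member of Type III
-/

set_option autoImplicit false
set_option linter.unusedSectionVars false

namespace Cfsg.Agent.PF13.Reg

open Cfsg Subgroup

universe u

variable {G : Type u} [Group G] [Fintype G]

/-- `Dich` for a member of Type III: there `C = 1` and `U` is fixed point free on `S_F`. -/
theorem dich_of_typeIII (h34 : Shape34 G) {S W₁ U W₂ : Subgroup G} {p q : ℕ}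
    (hS : Side S W₁ U W₂ p q) (hIII : IsOfTypeIII S) : Dich S W₁ U W₂ p q := by
  have hG := hS.minSimple
  have hP := hS.data
  have hC : cU S U = ⊥ := cU_eq_bot_of_typeIII hG h34 hS.coatom hP hIII
  obtain ⟨-, -, -, hdvd, hreg, -⟩ := h34 S W₁ U W₂ hS.coatom hP (Or.inl hIII)
  rw [hS.card_W₁, hS.card_W₂] at hdvd
  have hn : nU S U = Nat.card U := by rw [nU, hC, Subgroup.relIndex_bot_left]
  have hfit : fittingOf S = fittingHallOf S ⊔ cU S U := fittingOf_eq_sup hG hP hS.elem.1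
  obtain ⟨hdS, -, -, -⟩ := hP.W₁_compl
  obtain ⟨hFd, -, hFU, -⟩ := hP.U_compl
  have hU1 : 1 < Nat.card U := (Subgroup.one_lt_card_iff_ne_bot U).2 hS.U_ne
  have hmodq : Nat.card U % q = 1 :=
    PF14.card_mod_of_prime_fpf hS.hq U W₁ hS.card_W₁ hP.U_normal
      (le_bot_iff.mp fun v hv => Subgroup.mem_bot.mpr (by
        obtain ⟨w, hw, hw1⟩ := (Subgroup.bot_or_exists_ne_one W₁).resolve_left hP.W₁_ne
        exact fpf_W₁ hP w hw hw1 v hv.1 (mem_centralizer_iff.mp hv.2 w hw)))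
  have hoddU : Odd (Nat.card U) := BGSigma.odd_card_subgroup hG U
  have hoddq : Odd q := hS.card_W₁ ▸ BGSigma.odd_card_subgroup hG W₁
  refine
    { fitting_eq := hfit
      core_inf := by rw [hC, inf_bot_eq]
      card_S := ?_
      card_fitting := ?_
      card_U := by rw [hn, hC, Subgroup.card_bot, mul_one]
      modEq_n := ?_
      one_lt_n := hn ▸ hU1
      modEq_prime := fun r hr hd => ?_
      lines_le := ?_
      dich := Or.inl ?_ }
  · have h1 : (fittingHallOf S).relIndex ⁅S, S⁆ = Nat.card U :=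
      BGSummary.card_eq_of_complIn hP.U_compl
        (hdS.trans (BGSummary.le_normalizer_fittingHallOf S))
    have h2 : (⁅S, S⁆ : Subgroup G).relIndex S = q := hS.card_W₁ ▸
      BGSummary.card_eq_of_complIn hP.W₁_compl (Coprime.le_normalizer_commutator_left S S)
    rw [← Subgroup.relIndex_bot_left, ← Subgroup.relIndex_mul_relIndex _ _ _ bot_le hdS,
      ← Subgroup.relIndex_mul_relIndex _ _ _ bot_le hFd, Subgroup.relIndex_bot_left, h1, h2,
      hS.card_core]
  · rw [hfit, hC, sup_bot_eq, hS.card_core, Subgroup.card_bot, mul_one]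
  · rw [hn]
    have hq2 : q ∣ Nat.card U - 1 := ⟨Nat.card U / q, by
      have := Nat.div_add_mod (Nat.card U) q
      omega⟩
    have h2 : 2 ∣ Nat.card U - 1 := by
      obtain ⟨k, hk⟩ := hoddU
      exact ⟨k, by omega⟩
    exact Nat.Coprime.mul_dvd_of_dvd_of_dvd (Nat.coprime_two_left.mpr hoddq) h2 hq2
  · rw [hC, Subgroup.card_bot] at hd
    exact absurd (Nat.dvd_one.mp hd) hr.ne_one
  · rw [hn]
    refine Nat.le_of_dvd ?_ hdvd
    have := Nat.one_lt_pow hS.hq.ne_zero hS.hp.one_lt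
    omega
  · intro ω hω
    refine ⟨hω, fun v hv hfix => ?_⟩
    by_contra hv1
    have hv1' : v ≠ 1 := fun h => hv1 (h ▸ one_mem _)
    obtain ⟨x, hx, hωx⟩ := hω
    refine hωx ?_
    have hvF : v ∈ normalizer (fittingHallOf S : Set G) :=
      BGSummary.le_normalizer_fittingHallOf S (hdS (hP.U_compl.2.1 hv))
    let φ : fittingHallOf S → fittingHallOf S := fun y =>
      ⟨v * y * v⁻¹ * (y : G)⁻¹,
        mul_mem ((mem_normalizer_iff.mp hvF y).mp y.2) (inv_mem y.2)⟩
    have hφ : Function.Injective φ := by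
      intro a b e
      have e' : v * a * v⁻¹ * (a : G)⁻¹ = v * b * v⁻¹ * (b : G)⁻¹ := congrArg Subtype.val e
      have hab : (a : G)⁻¹ * b = b * (a : G)⁻¹ := by
        haveI := hS.elem.1
        exact congrArg (fun t : fittingHallOf S => (t : G)) (mul_comm' a⁻¹ b)
      have h1 : v * ((b : G)⁻¹ * a) = (b : G)⁻¹ * a * v := by
        calc v * ((b : G)⁻¹ * a) = (v * b * v⁻¹)⁻¹ * (v * a * v⁻¹ * (a : G)⁻¹) * a * v := by group
          _ = (v * b * v⁻¹)⁻¹ * (v * b * v⁻¹ * (b : G)⁻¹) * a * v := by rw [e']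
          _ = _ := by group
      have h2 := hreg v hv hv1' _ (mul_mem (inv_mem b.2) a.2) h1
      exact (Subtype.ext (inv_mul_eq_one.mp h2)).symm
    obtain ⟨y, hy⟩ := Finite.injective_iff_surjective.mp hφ ⟨(x : G), hx⟩
    have hle : fittingHallOf S ≤ fittingOf S := hfit ▸ le_sup_left
    have hy' : v * y * v⁻¹ * (y : G)⁻¹ = x := congrArg Subtype.val hy
    have hvy : v * y * v⁻¹ ∈ fittingHallOf S := (mem_normalizer_iff.mp hvF y).mp y.2
    have h3 := hfix ⟨y, hle y.2⟩ ⟨v * y * v⁻¹, hle hvy⟩ y.2 rfl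
    have hxe : x = (⟨v * y * v⁻¹, hle hvy⟩ : fittingOf S) * (⟨(y : G), hle y.2⟩ : fittingOf S)⁻¹ :=
      Subtype.ext hy'.symm
    rw [hxe, map_mul, map_inv, h3, mul_inv_cancel]

end Cfsg.Agent.PF13.Reg
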