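import Cfsg.Agent.PF14.Coeff
import Mathlib.Algebra.Order.Chebyshev

/-!
# Sums of squares of a virtual character of an abelian group off a subgroup

For `P ≤ H` abelian the projection `proj P f` averages over the cosets of `P`. The sum of `‖f‖²`
over `H \ {1}` is bounded below by the mass of the projection outside `P` and by the variance of
the coefficients of the characters non-trivial on `P`.
-/

set_option autoImplicit false
set_option linter.unusedVariables false
set_option linter.unusedSectionVars false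

namespace Cfsg.Agent.PF13.Reg

open Cfsg
open Cfsg.Agent.PF14 (coeff parseval sum_coeff var_split card_hom sum_ne_one_eq hom_finite
  const_of_coeff_const eq_sum_coeff)
open scoped ComplexConjugate

universe uu

variable {H : Type uu} [Group H] [Fintype H]

/-- The average of `f` over the cosets of `P`. -/
noncomputable def proj (P : Subgroup H) [Fintype P] (f : H → ℂ) : H → ℂ :=
  fun h => (Nat.card P : ℂ)⁻¹ * ∑ x : P, f (h * x)

variable (P : Subgroup H) [Fintype P]

theorem proj_mul (f : H → ℂ) (h : H) (y : P) : proj P f (h * y) = proj P f h := by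
  unfold proj
  congr 1
  exact Fintype.sum_equiv (Equiv.mulLeft y) _ _ fun x => by simp [mul_assoc]

theorem proj_linear_sum {ι : Type*} (t : Finset ι) (f : ι → H → ℂ) (h : H) :
    proj P (fun z => ∑ i ∈ t, f i z) h = ∑ i ∈ t, proj P (f i) h := by
  unfold proj
  rw [Finset.sum_comm, Finset.mul_sum]

theorem sum_conj_mul_self (f : H → ℂ) (X : Finset H)
    (hX : ∀ (y : P) (h : H), h ∈ X ↔ h * y ∈ X) :
    ∑ h ∈ X, (f h - proj P f h) * conj (proj P f h) = 0 := by
  have hP : (Nat.card P : ℂ) ≠ 0 := Nat.cast_ne_zero.2 Nat.card_pos.ne'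
  simp only [sub_mul, Finset.sum_sub_distrib]
  rw [sub_eq_zero]
  symm
  calc ∑ h ∈ X, proj P f h * conj (proj P f h)
      = (Nat.card P : ℂ)⁻¹ * ∑ x : P, ∑ h ∈ X, f (h * x) * conj (proj P f (h * x)) := by
        simp only [proj_mul]
        rw [Finset.sum_comm, Finset.mul_sum]
        refine Finset.sum_congr rfl fun h _ => ?_
        rw [← Finset.sum_mul, ← mul_assoc]
        rfl
    _ = (Nat.card P : ℂ)⁻¹ * ∑ x : P, ∑ h ∈ X, f h * conj (proj P f h) := by
        congr 1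
        refine Finset.sum_congr rfl fun x _ => ?_
        exact Finset.sum_equiv (Equiv.mulRight (x : H)) (fun h => hX x h) fun h _ => rfl
    _ = _ := by
        rw [Finset.sum_const, Finset.card_univ, ← Nat.card_eq_fintype_card, nsmul_eq_mul,
          inv_mul_cancel_left₀ hP]

theorem sum_split (f : H → ℂ) (X : Finset H) (hX : ∀ (y : P) (h : H), h ∈ X ↔ h * y ∈ X) :
    ∑ h ∈ X, ‖f h‖ ^ 2 =
      (∑ h ∈ X, ‖proj P f h‖ ^ 2) + ∑ h ∈ X, ‖f h - proj P f h‖ ^ 2 := by
  have h0 := congrArg Complex.re (sum_conj_mul_self P f X hX)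
  rw [Complex.re_sum, Complex.zero_re] at h0
  have key : ∀ h, ‖f h‖ ^ 2 = ‖proj P f h‖ ^ 2 + ‖f h - proj P f h‖ ^ 2 +
      2 * ((f h - proj P f h) * conj (proj P f h)).re := by
    intro h
    rw [← Complex.normSq_eq_norm_sq, ← Complex.normSq_eq_norm_sq, ← Complex.normSq_eq_norm_sq]
    conv_lhs => rw [← sub_add_cancel (f h) (proj P f h)]
    rw [Complex.normSq_add]
    ring
  rw [Finset.sum_congr rfl fun h _ => key h, Finset.sum_add_distrib, ← Finset.mul_sum, h0,
    Finset.sum_add_distrib]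
  ring

theorem norm_hom_eq_one (l : H →* ℂˣ) (x : H) : ‖(l x : ℂ)‖ = 1 :=
  Complex.norm_eq_one_of_pow_eq_one (n := Fintype.card H)
    (by rw [← Units.val_pow_eq_pow_val, ← map_pow, pow_card_eq_one, map_one, Units.val_one])
    Fintype.card_ne_zero

open Classical in
theorem coeff_proj (f : H → ℂ) (l : H →* ℂˣ) :
    coeff (proj P f) l = if ∀ x ∈ P, l x = 1 then coeff f l else 0 := by
  have hP : (Nat.card P : ℂ) ≠ 0 := Nat.cast_ne_zero.2 Nat.card_pos.ne'
  have hc : ∀ (h : H) (x : H), conj (l h : ℂ) = conj (l (h * x) : ℂ) * (l x : ℂ) := by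
    intro h x
    rw [map_mul, Units.val_mul, map_mul, mul_assoc, mul_comm (conj (l x : ℂ)), Complex.mul_conj,
      Complex.normSq_eq_norm_sq, norm_hom_eq_one]
    simp
  have h1 : coeff (proj P f) l =
      (Nat.card P : ℂ)⁻¹ * (∑ x : P, (l (x : H) : ℂ)) * coeff f l := by
    unfold coeff
    rw [CharCore.classInner_def, CharCore.classInner_def]
    unfold proj
    have e1 : ∀ h : H, (Nat.card P : ℂ)⁻¹ * (∑ x : P, f (h * x)) * conj (l h : ℂ) =
        (Nat.card P : ℂ)⁻¹ * ∑ x : P, (l (x : H) : ℂ) * (f (h * x) * conj (l (h * x) : ℂ)) := by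
      intro h
      rw [mul_assoc, Finset.sum_mul]
      refine congrArg _ (Finset.sum_congr rfl fun x _ => ?_)
      rw [hc h x]
      ring
    have e2 : ∀ x : P, ∑ h : H, f (h * x) * conj (l (h * x) : ℂ) = ∑ h : H, f h * conj (l h : ℂ) :=
      fun x => Fintype.sum_equiv (Equiv.mulRight (x : H)) _ _ fun h => rfl
    rw [Finset.sum_congr rfl fun h _ => e1 h, ← Finset.mul_sum, Finset.sum_comm]
    simp only [← Finset.mul_sum]
    rw [Finset.sum_congr rfl fun x (_ : x ∈ (Finset.univ : Finset P)) => by rw [e2 x],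
      ← Finset.sum_mul]
    ring
  rw [h1]
  split_ifs with h
  · rw [Finset.sum_congr rfl fun (x : P) _ => by rw [h x x.2, Units.val_one], Finset.sum_const,
      Finset.card_univ, nsmul_eq_mul, mul_one, ← Nat.card_eq_fintype_card, inv_mul_cancel₀ hP,
      one_mul]
  · have hne : (Units.coeHom ℂ).comp (l.comp P.subtype) ≠ 1 := fun e => h fun x hx =>
      Units.ext (by simpa using DFunLike.congr_fun e (⟨x, hx⟩ : P))
    have h0 := sum_hom_units_eq_zero _ hne
    simp only [MonoidHom.coe_comp, Function.comp_apply, Units.coeHom_apply] at h0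
    rw [show (∑ x : P, (l (x : H) : ℂ)) = 0 from h0, mul_zero, zero_mul]

/-- Comparison of variances along `t ⊆ T`. -/
theorem var_mono {ι : Type*} [DecidableEq ι] (T t : Finset ι) (h : t ⊆ T) (x : ι → ℝ) :
    (∑ i ∈ t, x i ^ 2) - (∑ i ∈ t, x i) ^ 2 / t.card ≤
      (∑ i ∈ T, x i ^ 2) - (∑ i ∈ T, x i) ^ 2 / T.card := by
  rw [← Finset.sum_sdiff h, ← Finset.sum_sdiff h (f := x)]
  set A := ∑ i ∈ T \ t, x i
  set B := ∑ i ∈ t, x i
  set A2 := ∑ i ∈ T \ t, x i ^ 2
  have hcs : A ^ 2 ≤ ((T \ t).card : ℝ) * A2 := sq_sum_le_card_mul_sum_sq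
  have hcT : (T.card : ℝ) = ((T \ t).card : ℝ) + t.card := by
    exact_mod_cast (Finset.card_sdiff_add_card_eq_card h).symm
  rcases Nat.eq_zero_or_pos t.card with ht | ht
  · have hB : B = 0 := Finset.sum_eq_zero (by simp [Finset.card_eq_zero.1 ht])
    have hcT' : (T.card : ℝ) = ((T \ t).card : ℝ) := by rw [hcT, ht]; simp
    rw [hB, hcT']
    simp only [add_zero, ne_eq, OfNat.ofNat_ne_zero, not_false_eq_true, zero_pow, zero_div, sub_zero]
    rcases Nat.eq_zero_or_pos (T \ t).card with hr | hr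
    · have : A = 0 := Finset.sum_eq_zero (by simp [Finset.card_eq_zero.1 hr])
      have hA2 : 0 ≤ A2 := Finset.sum_nonneg fun i _ => sq_nonneg _
      rw [this]; simp; linarith
    · have hr' : (0 : ℝ) < ((T \ t).card : ℝ) := Nat.cast_pos.2 hr
      have : A ^ 2 / ((T \ t).card : ℝ) ≤ A2 := by rw [div_le_iff₀ hr']; linarith
      linarith
  have ht' : (0 : ℝ) < (t.card : ℝ) := Nat.cast_pos.2 ht
  rcases Nat.eq_zero_or_pos (T \ t).card with hr | hr
  · have hA : A = 0 := Finset.sum_eq_zero (by simp [Finset.card_eq_zero.1 hr])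
    have hA2 : 0 ≤ A2 := Finset.sum_nonneg fun i _ => sq_nonneg _
    rw [hcT, hr, hA]
    simp
    linarith
  have hr' : (0 : ℝ) < ((T \ t).card : ℝ) := Nat.cast_pos.2 hr
  have h1 : (A + B) ^ 2 / (T.card : ℝ) ≤ A ^ 2 / ((T \ t).card : ℝ) + B ^ 2 / (t.card : ℝ) := by
    rw [hcT, div_add_div _ _ hr'.ne' ht'.ne', div_le_div_iff₀ (by positivity) (by positivity)]
    nlinarith [sq_nonneg (A * (t.card : ℝ) - B * ((T \ t).card : ℝ)),
      sq_nonneg (A * (t.card : ℝ) + B * ((T \ t).card : ℝ))]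
  have h2 : A ^ 2 / ((T \ t).card : ℝ) ≤ A2 := by rw [div_le_iff₀ hr']; linarith
  linarith

section Sums

variable [Fintype (H →* ℂˣ)]

open Classical in
theorem card_trivial_on (hcomm : ∀ x y : H, x * y = y * x) :
    (((Finset.univ : Finset (H →* ℂˣ)).filter fun l => ∀ x ∈ P, l x = 1).card : ℝ) * Nat.card P =
      Nat.card H := by
  set e : H → ℂ := fun h => if h = 1 then (Nat.card H : ℂ) else 0 with he
  have hH : (Nat.card H : ℂ) ≠ 0 := Nat.cast_ne_zero.2 Nat.card_pos.ne'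
  have hPR : (Nat.card P : ℝ) ≠ 0 := Nat.cast_ne_zero.2 Nat.card_pos.ne'
  have hHR : (Nat.card H : ℝ) ≠ 0 := Nat.cast_ne_zero.2 Nat.card_pos.ne'
  have hcoef : ∀ l, coeff e l = 1 := fun l => by
    simp [coeff, CharCore.classInner_def, he]
  have hproj : ∀ h, proj P e h = if h ∈ P then (Nat.card H : ℂ) / Nat.card P else 0 := by
    intro h
    unfold proj
    split_ifs with hm
    · rw [Finset.sum_eq_single ⟨h⁻¹, P.inv_mem hm⟩]
      · simp [he, div_eq_inv_mul]
      · intro x _ hx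
        simp only [he]
        rw [if_neg fun h0 => hx (Subtype.ext (eq_inv_of_mul_eq_one_right h0))]
      · simp
    · rw [Finset.sum_eq_zero, mul_zero]
      intro x _
      simp only [he]
      rw [if_neg fun h0 => hm ?_]
      rw [eq_inv_of_mul_eq_one_left h0]
      exact P.inv_mem x.2
  have hp := parseval hcomm (proj P e)
  simp only [coeff_proj, hcoef] at hp
  rw [Finset.sum_congr rfl fun h _ => by rw [hproj h]] at hp
  simp only [apply_ite (fun z : ℂ => ‖z‖ ^ 2), norm_zero, norm_one, one_pow, ne_eq,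
    OfNat.ofNat_ne_zero, not_false_eq_true, zero_pow, Finset.sum_boole] at hp
  rw [Finset.sum_ite, Finset.sum_const, Finset.sum_const_zero, add_zero, nsmul_eq_mul] at hp
  have hcardP : (((Finset.univ : Finset H).filter fun h => h ∈ P).card : ℝ) = Nat.card P := by
    rw [Nat.card_eq_fintype_card, Fintype.card_subtype]
  rw [hcardP, norm_div, Complex.norm_natCast, Complex.norm_natCast] at hp
  field_simp at hp
  linarith

open Classical in
/-- The lower bound for the sum of squares off the identity. -/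
theorem sum_sq_ge (hcomm : ∀ x y : H, x * y = y * x) (hP1 : 1 < Nat.card P) (f : H → ℂ)
    (d : (H →* ℂˣ) → ℤ) (hd : ∀ l, coeff f l = d l) (t s : Finset (H →* ℂˣ)) (hst : s ⊆ t)
    (ht : ∀ l ∈ t, ∃ x ∈ P, l x ≠ 1) (htne : t.Nonempty) (g : ℝ)
    (hgap : ∀ i ∈ s, ∀ j ∈ t, j ∉ s → g ≤ ((d i : ℝ) - d j) ^ 2) :
    (∑ h ∈ Finset.univ.filter (fun h : H => h ∉ P), ‖proj P f h‖ ^ 2) +
        (Nat.card H : ℝ) * (g * (s.card * ((t.card : ℝ) - s.card))) / t.card ≤
      ∑ h ∈ Finset.univ.erase (1 : H), ‖f h‖ ^ 2 := by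
  set T₀ := (Finset.univ : Finset (H →* ℂˣ)).filter fun l => ∀ x ∈ P, l x = 1 with hT₀
  set T := (Finset.univ : Finset (H →* ℂˣ)).filter fun l => ¬ ∀ x ∈ P, l x = 1 with hT
  set m := ∑ l ∈ T₀, (d l : ℝ) with hm
  set S₁ := ∑ l ∈ T, (d l : ℝ) with hS₁
  set S₂ := ∑ l ∈ T, (d l : ℝ) ^ 2 with hS₂
  have hnorm : ∀ z : ℤ, ‖(z : ℂ)‖ ^ 2 = (z : ℝ) ^ 2 := fun z => by
    rw [Complex.norm_intCast, sq_abs]
  have hall : ∑ h : H, ‖f h‖ ^ 2 = (Nat.card H : ℝ) * (∑ l ∈ T₀, (d l : ℝ) ^ 2 + S₂) := by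
    rw [parseval hcomm f, hS₂, hT₀, hT, Finset.sum_filter_add_sum_filter_not]
    simp only [hd, hnorm]
  have hproj : ∑ h : H, ‖proj P f h‖ ^ 2 = (Nat.card H : ℝ) * ∑ l ∈ T₀, (d l : ℝ) ^ 2 := by
    rw [parseval hcomm, hT₀, Finset.sum_filter]
    refine congrArg _ (Finset.sum_congr rfl fun l _ => ?_)
    rw [coeff_proj, hd]
    split_ifs <;> simp [hnorm]
  have hp1 : proj P f 1 = (m : ℂ) := by
    rw [sum_coeff hcomm (proj P f), hm, hT₀, Finset.sum_filter]
    simp only [coeff_proj, hd]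
    push_cast
    exact Finset.sum_congr rfl fun l _ => by split_ifs <;> simp
  have hf1 : f 1 = ((m + S₁ : ℝ) : ℂ) := by
    rw [sum_coeff hcomm f, hm, hS₁, hT₀, hT, Finset.sum_filter_add_sum_filter_not]
    simp only [hd]
    push_cast
    rfl
  have hin : ∑ h ∈ Finset.univ.filter (fun h : H => h ∈ P), ‖proj P f h‖ ^ 2 =
      (Nat.card P : ℝ) * m ^ 2 := by
    have : ∀ h ∈ Finset.univ.filter (fun h : H => h ∈ P), ‖proj P f h‖ ^ 2 = m ^ 2 := by
      intro h hh
      have hh' : h ∈ P := (Finset.mem_filter.1 hh).2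
      have := proj_mul P f 1 ⟨h, hh'⟩
      rw [one_mul] at this
      rw [this, hp1, Complex.norm_real, Real.norm_eq_abs, sq_abs]
    rw [Finset.sum_congr rfl this, Finset.sum_const, nsmul_eq_mul, ← Fintype.card_subtype,
      ← Nat.card_eq_fintype_card]
  have hsplit := Finset.sum_filter_add_sum_filter_not (Finset.univ : Finset H) (fun h => h ∈ P)
    fun h => ‖proj P f h‖ ^ 2
  rw [hin] at hsplit
  have herase : ∑ h ∈ Finset.univ.erase (1 : H), ‖f h‖ ^ 2 =
      (∑ h : H, ‖f h‖ ^ 2) - (m + S₁) ^ 2 := by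
    rw [Finset.sum_erase_eq_sub (Finset.mem_univ _), hf1, Complex.norm_real, Real.norm_eq_abs,
      sq_abs]
  -- the number of characters non-trivial on `P`
  have hT₀c := card_trivial_on P hcomm
  rw [← hT₀] at hT₀c
  have hTc : (T₀.card : ℝ) + T.card = Nat.card H := by
    rw [Nat.card_eq_fintype_card, ← card_hom hcomm, ← Finset.card_univ, hT₀, hT]
    exact_mod_cast Finset.card_filter_add_card_filter_not _
  have hP : (1 : ℝ) < Nat.card P := by exact_mod_cast hP1
  have hH : (0 : ℝ) < Nat.card H := by exact_mod_cast Nat.card_pos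
  have htT : t ⊆ T := fun l hl => Finset.mem_filter.2 ⟨Finset.mem_univ _, fun h =>
    let ⟨x, hx, hne⟩ := ht l hl; hne (h x hx)⟩
  have htc : (0 : ℝ) < t.card := by exact_mod_cast htne.card_pos
  have hvar := var_split t s hst (fun l => (d l : ℝ)) g hgap
  have hmono := var_mono T t htT fun l => (d l : ℝ)
  have hTv : (Nat.card P : ℝ) * T.card = (Nat.card H : ℝ) * ((Nat.card P : ℝ) - 1) := by
    have h' : (T.card : ℝ) = (Nat.card H : ℝ) - T₀.card := by linarith
    rw [h', mul_sub, mul_comm (Nat.card P : ℝ) (T₀.card : ℝ), hT₀c]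
    ring
  have hTpos : (0 : ℝ) < T.card := by
    have : (t.card : ℝ) ≤ T.card := by exact_mod_cast Finset.card_le_card htT
    linarith
  have h1 : g * (s.card * ((t.card : ℝ) - s.card)) / t.card ≤ S₂ - S₁ ^ 2 / T.card := by
    refine le_trans ?_ hmono
    rw [sub_div' htc.ne', div_le_div_iff_of_pos_right htc]
    linarith
  have h2 : S₁ ^ 2 * (Nat.card H : ℝ) / T.card = S₁ ^ 2 * Nat.card P / ((Nat.card P : ℝ) - 1) := by
    rw [div_eq_div_iff hTpos.ne' (by linarith)]
    linear_combination -(S₁ ^ 2) * hTv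
  have h3 : (m + S₁) ^ 2 ≤
      (Nat.card P : ℝ) * m ^ 2 + S₁ ^ 2 * Nat.card P / ((Nat.card P : ℝ) - 1) := by
    rw [← sub_le_iff_le_add', le_div_iff₀ (by linarith)]
    nlinarith [sq_nonneg (((Nat.card P : ℝ) - 1) * m - S₁)]
  have h4 := mul_le_mul_of_nonneg_left h1 hH.le
  rw [← mul_div_assoc] at h4
  have h5 : (Nat.card H : ℝ) * (S₂ - S₁ ^ 2 / T.card) =
      (Nat.card H : ℝ) * S₂ - S₁ ^ 2 * Nat.card H / T.card := by ring
  rw [hproj] at hsplit
  rw [herase, hall]
  rw [h5, h2] at h4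
  nlinarith [h4, h3, hsplit]

open Classical in
/-- A virtual character of an abelian group which is not identically zero off the identity has
sum of squares at least `|H| - 1` there. -/
theorem sum_sq_ge_card (hcomm : ∀ x y : H, x * y = y * x) (f : H → ℂ)
    (d : (H →* ℂˣ) → ℤ) (hd : ∀ l, coeff f l = d l) {x₀ : H} (hx₀ : x₀ ≠ 1) (hne : f x₀ ≠ 0) :
    (Nat.card H : ℝ) - 1 ≤ ∑ x ∈ Finset.univ.erase (1 : H), ‖f x‖ ^ 2 := by
  set t := (Finset.univ : Finset (H →* ℂˣ)).erase 1 with ht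
  have htc : (t.card : ℤ) = (Nat.card H : ℤ) - 1 := by
    rw [ht, Finset.card_erase_of_mem (Finset.mem_univ _), Finset.card_univ, card_hom hcomm,
      Nat.cast_sub Fintype.card_pos, Nat.card_eq_fintype_card, Nat.cast_one]
  have hsum := sum_ne_one_eq hcomm f d hd
  set Z : ℤ := (Nat.card H : ℤ) * ∑ l, d l ^ 2 - (∑ l, d l) ^ 2 with hZ
  have hZe : ∑ x ∈ Finset.univ.erase (1 : H), ‖f x‖ ^ 2 = (Z : ℝ) := by
    rw [hsum, hZ]; push_cast; ring
  suffices (Nat.card H : ℤ) - 1 ≤ Z by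
    rw [hZe]; exact_mod_cast this
  have hsplit : ∀ F : (H →* ℂˣ) → ℤ, ∑ l, F l = F 1 + ∑ l ∈ t, F l := fun F =>
    (Finset.add_sum_erase _ _ (Finset.mem_univ _)).symm
  by_cases hconst : ∀ l ∈ t, ∀ l' ∈ t, d l = d l'
  · obtain ⟨a, ha⟩ : ∃ a : ℤ, ∀ l ∈ t, d l = a := by
      rcases t.eq_empty_or_nonempty with he | ⟨l₀, hl₀⟩
      · exact ⟨0, by simp [he]⟩
      · exact ⟨d l₀, fun l hl => hconst l hl l₀ hl₀⟩
    have hval : Z = ((Nat.card H : ℤ) - 1) * (d 1 - a) ^ 2 := by
      rw [hZ, hsplit, hsplit, Finset.sum_congr rfl fun l hl => by rw [ha l hl],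
        Finset.sum_congr rfl fun l (hl : l ∈ t) => ha l hl]
      simp only [Finset.sum_const, nsmul_eq_mul]
      rw [htc]
      ring
    have hpos : 0 < Z := by
      have h1 : 0 < ∑ x ∈ Finset.univ.erase (1 : H), ‖f x‖ ^ 2 :=
        Finset.sum_pos' (fun x _ => sq_nonneg _)
          ⟨x₀, Finset.mem_erase.2 ⟨hx₀, Finset.mem_univ _⟩, pow_pos (norm_pos_iff.2 hne) 2⟩
      rw [hZe] at h1
      exact_mod_cast h1
    rw [hval] at hpos ⊢
    have hc0 : 0 ≤ (Nat.card H : ℤ) - 1 := by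
      have := Nat.card_pos (α := H); omega
    have : 0 < (d 1 - a) ^ 2 := by
      by_contra h0
      push Not at h0
      have : (d 1 - a) ^ 2 = 0 := le_antisymm h0 (sq_nonneg _)
      rw [this, mul_zero] at hpos
      exact lt_irrefl _ hpos
    nlinarith
  · push Not at hconst
    obtain ⟨l₀, hl₀, l₁, hl₁, hne'⟩ := hconst
    set s := t.filter fun l => d l = d l₀ with hs
    have hgap : ∀ i ∈ s, ∀ j ∈ t, j ∉ s → (1 : ℝ) ≤ ((d i : ℝ) - d j) ^ 2 := by
      intro i hi j hj hjs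
      have h0 : d i - d j ≠ 0 := fun e => hjs (Finset.mem_filter.2
        ⟨hj, by have := (Finset.mem_filter.1 hi).2; omega⟩)
      have : (1 : ℤ) ≤ (d i - d j) ^ 2 := by
        have : 0 < (d i - d j) ^ 2 := by positivity
        omega
      exact_mod_cast this
    have hvar := var_split t s (Finset.filter_subset _ _) (fun l => (d l : ℝ)) 1 hgap
    rw [one_mul] at hvar
    have hs1 : 1 ≤ s.card :=
      Finset.card_pos.2 ⟨l₀, Finset.mem_filter.2 ⟨hl₀, rfl⟩⟩
    have hs2 : s.card + 1 ≤ t.card := by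
      refine Finset.card_lt_card (Finset.filter_ssubset.2 ⟨l₁, hl₁, ?_⟩)
      exact fun e => hne' e.symm
    set A := ∑ l ∈ t, d l with hA
    set B := ∑ l ∈ t, d l ^ 2 with hB
    have hv : (t.card : ℤ) - 1 ≤ (t.card : ℤ) * B - A ^ 2 := by
      have : (s.card : ℤ) * ((t.card : ℤ) - s.card) ≤ (t.card : ℤ) * B - A ^ 2 := by
        rw [hA, hB]
        exact_mod_cast hvar
      have : (t.card : ℤ) - 1 ≤ (s.card : ℤ) * ((t.card : ℤ) - s.card) := by
        have h1 : (1 : ℤ) ≤ s.card := by exact_mod_cast hs1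
        have h2 : (s.card : ℤ) + 1 ≤ t.card := by exact_mod_cast hs2
        nlinarith [mul_nonneg (sub_nonneg.2 h1) (sub_nonneg.2 (le_sub_iff_add_le.2 h2))]
      linarith
    have hZ2 : (t.card : ℤ) * Z =
        ((t.card : ℤ) + 1) * ((t.card : ℤ) * B - A ^ 2) + ((t.card : ℤ) * d 1 - A) ^ 2 := by
      rw [hZ, hsplit, hsplit, ← hA, ← hB, htc]
      ring
    have htpos : (0 : ℤ) < t.card := by exact_mod_cast Finset.card_pos.2 ⟨l₀, hl₀⟩
    rw [← htc]
    by_contra hlt
    push Not at hlt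
    have h2 : (2 : ℤ) ≤ t.card := by
      have h2' : 2 ≤ t.card := by omega
      exact_mod_cast h2'
    nlinarith [mul_le_mul_of_nonneg_left (Int.le_sub_one_of_lt hlt) htpos.le,
      mul_le_mul_of_nonneg_left hv (by omega : (0 : ℤ) ≤ (t.card : ℤ) + 1),
      sq_nonneg ((t.card : ℤ) * d 1 - A)]

end Sums

end Cfsg.Agent.PF13.Reg
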