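import Cfsg.Agent.PF13.Reg.GapAux

/-!
# Peterfalvi (13.10): the coefficients of `η` on `F(S)`
-/

set_option autoImplicit false
set_option linter.unusedVariables false
set_option linter.unusedSectionVars false

namespace Cfsg.Agent.PF13.Reg

open Cfsg Subgroup

universe u

variable {G : Type u} [Group G] [Fintype G] {S W₁ U W₂ : Subgroup G} {p q : ℕ}

/-- The coefficients of `η φ 1` are constant on the good characters, and those of `η φ ψ` differ by
a fixed sign on one orbit. -/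
theorem gap [Fintype (fittingOf S)] (hS : Side S W₁ U W₂ p q) (hD : Dich S W₁ U W₂ p q)
    {η : (↥W₁ →* ℂˣ) → (↥W₂ →* ℂˣ) → G → ℂ} (hE : PF14.EtaArr W₁ W₂ η) : Gap S U η := by
  classical
  obtain ⟨lam, hlam, hone, hfix, hclass⟩ := hD.exists_lam hS
  obtain ⟨d, hd, hinv, hd0, hdr⟩ := exists_coeffs hS hD hE
  haveI := Fintype.ofFinite U
  haveI := Fintype.ofFinite W₁
  haveI := Fintype.ofFinite W₂
  haveI := Fintype.ofFinite (normalizer (fittingOf S : Set G))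
  have hc₁ : ∀ x y : W₁, x * y = y * x := fun x y => by
    haveI := hS.data.W₁_cyclic
    haveI : IsMulCommutative W₁ := IsCyclic.isMulCommutative
    exact mul_comm' x y
  have hc₂ : ∀ x y : W₂, x * y = y * x := fun x y => by
    haveI := Fact.mk hS.hp
    haveI : IsCyclic W₂ := isCyclic_of_prime_card hS.card_W₂
    haveI : IsMulCommutative W₂ := IsCyclic.isMulCommutative
    exact mul_comm' x y
  haveI := PF14.hom_finite hc₁
  haveI := PF14.hom_finite hc₂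
  haveI := Fintype.ofFinite (↥W₁ →* ℂˣ)
  haveI := Fintype.ofFinite (↥W₂ →* ℂˣ)
  have hI : Fintype.card (↥W₁ →* ℂˣ) = q := by
    rw [PF14.card_hom hc₁, ← Nat.card_eq_fintype_card, hS.card_W₁]
  have hJ : Fintype.card (↥W₂ →* ℂˣ) = p := by
    rw [PF14.card_hom hc₂, ← Nat.card_eq_fintype_card, hS.card_W₂]
  have hq3 : 3 ≤ q := by
    have := hS.hq.two_le
    obtain ⟨m, hm⟩ := Side.odd_q hS hE
    omega
  have hp3 : 3 ≤ p := by
    have := hS.hp.two_le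
    obtain ⟨m, hm⟩ := Side.odd_p hS hE
    omega
  obtain ⟨k₀, k₁, hk₀, hk₁, hk01⟩ :
      ∃ k₀ k₁ : ↥W₂ →* ℂˣ, k₀ ≠ 1 ∧ k₁ ≠ 1 ∧ k₀ ≠ k₁ := by
    obtain ⟨a, -, ha⟩ := Finset.exists_mem_notMem_of_card_lt_card
      (s := ({1} : Finset (↥W₂ →* ℂˣ))) (t := Finset.univ)
      (by rw [Finset.card_singleton, Finset.card_univ]; omega)
    obtain ⟨b, -, hb⟩ := Finset.exists_mem_notMem_of_card_lt_card
      (s := ({1, a} : Finset (↥W₂ →* ℂˣ))) (t := Finset.univ)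
      (lt_of_le_of_lt Finset.card_le_two (by rw [Finset.card_univ]; omega))
    simp only [Finset.mem_insert, Finset.mem_singleton, not_or] at ha hb
    exact ⟨a, b, ha, hb.1, Ne.symm hb.2⟩
  have hne1 : ∀ ω : ↥(fittingOf S) →* ℂˣ, OnCore S ω → ω ≠ 1 := by
    rintro ω ⟨x, -, hx⟩ rfl
    exact hx rfl
  have hlne : ∀ k : ↥W₂ →* ℂˣ, k ≠ 1 → lam k ≠ 1 := fun k hk =>
    hne1 _ (hD.lam_onCore hS hlam hk)
  have horb : ∀ φ ψ (k : ↥W₂ →* ℂˣ) v (hv : v ∈ U),
      d φ ψ (hD.act hS (hS.U_le_S hv) (lam k)) = d φ ψ (lam k) :=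
    fun φ ψ k v hv => hinv φ ψ (lam k) _
  -- two fixed characters
  have hdiff : ∀ j k : ↥W₂ →* ℂˣ, j ≠ 1 → k ≠ 1 → ∀ φ ψ, d φ ψ (lam j) - d φ ψ (lam k) =
      (if j = ψ then 1 else 0) - if k = ψ then 1 else 0 := by
    intro j k hj hk
    by_cases hjk : j = k
    · subst hjk; simp
    obtain ⟨hle, -⟩ := pair_bound hS hD hE hd hd0 (hlne j hj) (hlne k hk) (k₁ := q) (k₂ := q)
      (by intro inst; convert hD.card_stab_lam hS hlam hfix hj)
      (by intro inst; convert hD.card_stab_lam hS hlam hfix hk)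
    have hmod : ∀ φ ψ, (q : ℤ) ∣ (d φ ψ (lam j) - d φ ψ (lam k)) -
        ((if j = ψ then 1 else 0) - if k = ψ then 1 else 0) := fun φ ψ => by
      convert congr_lam hS hD hE hd hlam hfix hclass hinv φ ψ j k using 1
      ring
    have hge : ∀ φ ψ, ((if j = ψ then 1 else 0) - if k = ψ then (1 : ℤ) else 0) ^ 2 ≤
        (d φ ψ (lam j) - d φ ψ (lam k)) ^ 2 := by
      intro φ ψ
      set D := d φ ψ (lam j) - d φ ψ (lam k) with hDdef
      set Δ := (if j = ψ then 1 else 0) - if k = ψ then (1 : ℤ) else 0 with hΔ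
      rcases eq_or_ne Δ 0 with h0 | h0
      · rw [h0]; simpa using sq_nonneg D
      have hΔ1 : Δ = 1 ∨ Δ = -1 := by
        rw [hΔ] at h0 ⊢
        split_ifs at h0 ⊢ <;> simp_all
      have hD0 : D ≠ 0 := by
        intro e
        have := hmod φ ψ
        rw [← hDdef, ← hΔ, e] at this
        have h1 := Int.le_of_dvd one_pos (show (q : ℤ) ∣ 1 by
          rcases hΔ1 with h | h <;> simp [h] at this ⊢ <;> exact this)
        omega
      have : (1 : ℤ) ≤ D ^ 2 := by nlinarith [Int.one_le_abs hD0, abs_mul_abs_self D]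
      rcases hΔ1 with h | h <;> rw [h] <;> linarith
    have htot : ∑ φ : ↥W₁ →* ℂˣ, ∑ ψ : ↥W₂ →* ℂˣ,
        ((if j = ψ then 1 else 0) - if k = ψ then (1 : ℤ) else 0) ^ 2 = 2 * (q : ℤ) := by
      have h1 : ∀ ψ : ↥W₂ →* ℂˣ, ((if j = ψ then 1 else 0) - if k = ψ then (1 : ℤ) else 0) ^ 2 =
          (if j = ψ then 1 else 0) + if k = ψ then 1 else 0 := by
        intro ψ
        split_ifs with a b <;> norm_num
        exact hjk (a.trans b.symm)
      simp only [h1, Finset.sum_add_distrib, Finset.sum_ite_eq, Finset.mem_univ, if_true,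
        Finset.sum_const, Finset.card_univ, hI, nsmul_eq_mul, mul_one]
      ring
    intro φ ψ
    have heq : ∀ φ ψ, ((if j = ψ then 1 else 0) - if k = ψ then (1 : ℤ) else 0) ^ 2 =
        (d φ ψ (lam j) - d φ ψ (lam k)) ^ 2 := by
      have h1 := (Finset.sum_eq_sum_iff_of_le fun φ _ => Finset.sum_le_sum fun ψ _ => hge φ ψ).1
        (le_antisymm (Finset.sum_le_sum fun φ _ => Finset.sum_le_sum fun ψ _ => hge φ ψ)
          (hle.trans (by rw [htot, two_mul])))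
      exact fun φ ψ => (Finset.sum_eq_sum_iff_of_le fun ψ _ => hge φ ψ).1
        (h1 φ (Finset.mem_univ _)) ψ (Finset.mem_univ _)
    have h2 := heq φ ψ
    have h3 := hmod φ ψ
    rcases sq_eq_sq_iff_eq_or_eq_neg.1 h2.symm with e | e
    · exact e
    rw [e] at h3 ⊢
    split_ifs at h3 ⊢ <;> norm_num at h3 ⊢ <;> have := Int.le_of_dvd (by norm_num) h3 <;> omega
  -- characters off the orbits
  let Free : (↥(fittingOf S) →* ℂˣ) → Prop := fun ω => Good S U ω ∧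
    ∀ k : ↥W₂ →* ℂˣ, k ≠ 1 → ∀ v (hv : v ∈ U), hD.act hS (hS.U_le_S hv) (lam k) ≠ ω
  let e : (↥(fittingOf S) →* ℂˣ) → (↥W₁ →* ℂˣ) → (↥W₂ →* ℂˣ) → ℤ := fun ω φ ψ =>
    d φ ψ (lam k₀) - (if k₀ = ψ then 1 else 0) - d φ ψ ω
  have hstab : ∀ ω, Free ω → ∀ [DecidableEq (↥(fittingOf S) →* ℂˣ)],
      (Finset.univ.filter fun g : normalizer (fittingOf S : Set G) => actCh _ g ω = ω).card ≤
        Nat.card (fittingOf S) * 1 := fun ω hω inst => by
    rw [mul_one]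
    convert hD.card_stab_free hS hω.1 hclass hone hω.2
  have hbound : ∀ ω, Free ω → ∀ k : ↥W₂ →* ℂˣ, k ≠ 1 →
      ∑ φ, ∑ ψ, ((if k = ψ then 1 else 0) + e ω φ ψ) ^ 2 ≤ (q : ℤ) + 1 ∧
        ∀ φ ψ, e ω φ ψ = e ω φ 1 + e ω 1 ψ := by
    intro ω hω k hk
    obtain ⟨h1, h2⟩ := pair_bound hS hD hE hd hd0 (hlne k hk) (hne1 _ hω.1.1) (k₁ := q) (k₂ := 1)
      (by intro inst; convert hD.card_stab_lam hS hlam hfix hk) (hstab ω hω)
    have hek : ∀ φ ψ, d φ ψ (lam k) - d φ ψ ω = (if k = ψ then 1 else 0) + e ω φ ψ := fun φ ψ => by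
      have := hdiff k k₀ hk hk₀ φ ψ
      simp only [e]
      linarith
    simp only [hek] at h1 h2
    refine ⟨by exact_mod_cast h1, fun φ ψ => ?_⟩
    have h3 := h2 φ ψ
    rw [if_neg hk] at h3
    linarith
  have he11 : ∀ ω, Free ω → e ω 1 1 = 0 := fun ω hω => by
    simp only [e, if_neg hk₀, hd0 _ (hlne k₀ hk₀), hd0 _ (hne1 _ hω.1.1)]
    ring
  have hr : ∀ ω, Free ω → ∀ φ, e ω φ 1 = 0 := by
    intro ω hω φ
    by_cases hφ : φ = 1
    · rw [hφ]; exact he11 ω hω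
    by_contra hne
    have hcol : ∀ k : ↥W₂ →* ℂˣ, k ≠ 1 → ∀ ψ, ψ ≠ 1 → (if k = ψ then 1 else 0) + e ω 1 ψ = -e ω φ 1 := by
      intro k hk
      obtain ⟨h1, h2⟩ := hbound ω hω k hk
      refine grid_col (J := ↥W₂ →* ℂˣ) (q := (q : ℤ)) (by exact_mod_cast hq3) 1 (by omega)
        (e ω φ 1) hne (fun ψ => (if k = ψ then 1 else 0) + e ω 1 ψ)
        (by simp [hk, he11 ω hω]) ?_
      rw [← Finset.add_sum_erase _ _ (Finset.mem_univ (1 : ↥W₁ →* ℂˣ))] at h1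
      have h3 : ∀ φ' ∈ Finset.univ.erase (1 : ↥W₁ →* ℂˣ),
          ∑ ψ, ((if k = ψ then 1 else 0) + e ω φ' ψ) ^ 2 =
            ∑ ψ, (e ω φ 1 + ((if k = ψ then 1 else 0) + e ω 1 ψ)) ^ 2 := by
        intro φ' hφ'
        have h4 : e ω φ' 1 = e ω φ 1 := by
          simp only [e, hdr φ' φ (Finset.ne_of_mem_erase hφ') hφ]
        refine Finset.sum_congr rfl fun ψ _ => ?_
        rw [h2 φ' ψ, h4]
        ring
      rw [Finset.sum_congr rfl h3, Finset.sum_const, Finset.card_erase_of_mem (Finset.mem_univ _),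
        Finset.card_univ, hI, nsmul_eq_mul, Nat.cast_sub (by omega)] at h1
      push_cast at h1
      linarith
    have a := hcol k₀ hk₀ k₀ hk₀
    have b := hcol k₁ hk₁ k₀ hk₀
    rw [if_pos rfl] at a
    rw [if_neg (Ne.symm hk01)] at b
    linarith
  have hes : ∀ ω, Free ω → ∀ φ ψ, e ω φ ψ = e ω 1 ψ := fun ω hω φ ψ => by
    rw [(hbound ω hω k₀ hk₀).2 φ ψ, hr ω hω φ, zero_add]
  have hcases : ∀ ω, Free ω →
      (∀ ψ, e ω 1 ψ = 0) ∨ (p = 3 ∧ ∀ ψ, ψ ≠ 1 → e ω 1 ψ = -1) := by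
    intro ω hω
    refine (shift_cases (1 : ↥W₂ →* ℂˣ) (by omega) (fun ψ => e ω 1 ψ) (he11 ω hω) fun k hk => ?_).imp
      id fun h => ⟨hJ ▸ h.1, h.2⟩
    have h1 := (hbound ω hω k hk).1
    simp only [hes ω hω _ _, Finset.sum_const, Finset.card_univ, hI, nsmul_eq_mul] at h1
    by_contra hlt
    have h2 : (2 : ℤ) ≤ ∑ ψ, ((if k = ψ then 1 else 0) + e ω 1 ψ) ^ 2 := by omega
    nlinarith
  have hsame : ∀ ω ω', Free ω → Free ω' → ∀ ψ, e ω 1 ψ = e ω' 1 ψ := by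
    intro ω ω' hω hω'
    have h1 := (pair_bound hS hD hE hd hd0 (hne1 _ hω.1.1) (hne1 _ hω'.1.1) (k₁ := 1) (k₂ := 1)
      (hstab ω hω) (hstab ω' hω')).1
    have h2 : ∀ φ ψ, d φ ψ ω - d φ ψ ω' = e ω' 1 ψ - e ω 1 ψ := fun φ ψ => by
      have a := hes ω hω φ ψ
      have b := hes ω' hω' φ ψ
      simp only [e] at a b ⊢
      linarith
    simp only [h2, Finset.sum_const, Finset.card_univ, hI, nsmul_eq_mul] at h1
    intro ψ
    by_contra hne
    have h3 := Finset.single_le_sum (f := fun l => (e ω' 1 l - e ω 1 l) ^ 2)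
      (fun l _ => sq_nonneg _) (Finset.mem_univ ψ)
    have h4 : 1 ≤ (e ω' 1 ψ - e ω 1 ψ) ^ 2 := by
      have : e ω' 1 ψ - e ω 1 ψ ≠ 0 := fun h => hne (by linarith)
      nlinarith [Int.one_le_abs this, abs_mul_abs_self (e ω' 1 ψ - e ω 1 ψ)]
    push_cast at h1
    nlinarith
  have hsplit : ∀ ω, Good S U ω → Free ω ∨
      ∃ k : ↥W₂ →* ℂˣ, k ≠ 1 ∧ ∃ v, ∃ hv : v ∈ U, hD.act hS (hS.U_le_S hv) (lam k) = ω := by
    intro ω hω
    by_contra h
    push Not at h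
    exact h.1 ⟨hω, fun k hk v hv => h.2 k hk v hv⟩
  refine ⟨fun φ ω ω' hω hω' => ?_, fun ψ hψ => ?_⟩
  · suffices h : ∀ ω, Good S U ω → d φ 1 ω = d φ 1 (lam k₀) by
      rw [hd, hd, h ω hω, h ω' hω']
    intro ω hω
    rcases hsplit ω hω with hf | ⟨k, hk, v, hv, rfl⟩
    · have := hr ω hf φ
      simp only [e, if_neg hk₀] at this
      linarith
    · rw [horb φ 1 k v hv]
      have := hdiff k k₀ hk hk₀ φ 1
      rw [if_neg hk, if_neg hk₀] at this
      linarith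
  -- the orbit with the exceptional sign
  have key : ∀ j : ↥W₂ →* ℂˣ, j ≠ 1 → ∀ ε : ℤ, (ε = 1 ∨ ε = -1) →
      (∀ k : ↥W₂ →* ℂˣ, k ≠ 1 → k ≠ j →
        (if j = ψ then (1 : ℤ) else 0) - (if k = ψ then 1 else 0) = ε) →
      (∀ ω, Free ω → (if j = ψ then 1 else 0) + e ω 1 ψ = ε) →
      ∃ (s : Finset (↥(fittingOf S) →* ℂˣ)) (ε : ℂ), s.card = nU S U ∧ (∀ ω ∈ s, Good S U ω) ∧
        (ε = 1 ∨ ε = -1) ∧ ∀ (φ : ↥W₁ →* ℂˣ) (ω ω' : ↥(fittingOf S) →* ℂˣ), ω ∈ s →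
          Good S U ω' → ω' ∉ s →
            PF14.coeff (onSub (fittingOf S) (η φ ψ)) ω -
              PF14.coeff (onSub (fittingOf S) (η φ ψ)) ω' = ε := by
    intro j hj ε hε horbs hfree
    refine ⟨(Finset.univ : Finset U).image fun v => hD.act hS (hS.U_le_S v.2) (lam j), (ε : ℂ),
      by convert hD.card_orbit hS hfix hlam hj, ?_, ?_, ?_⟩
    · intro ω hω
      obtain ⟨v, -, rfl⟩ := Finset.mem_image.1 hω
      exact hD.good_act hS (hD.lam_good hS hlam hfix hj) v.2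
    · rcases hε with h | h <;> simp [h]
    · intro φ ω ω' hω hω' hnot
      obtain ⟨v, -, rfl⟩ := Finset.mem_image.1 hω
      rw [hd, hd, horb φ ψ j v v.2, ← Int.cast_sub, Int.cast_inj]
      rcases hsplit ω' hω' with hf | ⟨k, hk, v', hv', rfl⟩
      · have h1 := hdiff j k₀ hj hk₀ φ ψ
        have h2 := hes ω' hf φ ψ
        have h3 := hfree ω' hf
        simp only [e] at h2 h3
        linarith
      · rw [horb φ ψ k v' hv', hdiff j k hj hk φ ψ]
        exact horbs k hk fun e' => hnot (Finset.mem_image.2 ⟨⟨v', hv'⟩, Finset.mem_univ _, by subst e'; rfl⟩)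
  by_cases hA : ∀ ω, Free ω → ∀ l, e ω 1 l = 0
  · exact key ψ hψ 1 (Or.inl rfl) (fun k hk hkj => by rw [if_pos rfl, if_neg hkj, sub_zero])
      (fun ω hω => by rw [if_pos rfl, hA ω hω ψ, add_zero])
  push Not at hA
  obtain ⟨ω₀, hω₀, l, hl⟩ := hA
  obtain ⟨hp, hall⟩ := (hcases ω₀ hω₀).resolve_left fun h => hl (h l)
  obtain ⟨j, -, hj⟩ := Finset.exists_mem_notMem_of_card_lt_card
    (s := ({1, ψ} : Finset (↥W₂ →* ℂˣ))) (t := Finset.univ)
    (lt_of_le_of_lt Finset.card_le_two (by rw [Finset.card_univ]; omega))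
  simp only [Finset.mem_insert, Finset.mem_singleton, not_or] at hj
  refine key j hj.1 (-1) (Or.inr rfl) (fun k hk hkj => ?_) (fun ω hω => ?_)
  · have hkψ : k = ψ := by
      by_contra hne
      have h1 := Finset.card_le_card (Finset.subset_univ ({1, ψ, j, k} : Finset (↥W₂ →* ℂˣ)))
      rw [Finset.card_insert_of_notMem (by simp [Ne.symm hψ, Ne.symm hj.1, Ne.symm hk]),
        Finset.card_insert_of_notMem (by simp [Ne.symm hj.2, Ne.symm hne]),
        Finset.card_pair (Ne.symm hkj), Finset.card_univ] at h1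
      omega
    rw [if_neg hj.2, if_pos hkψ]
    norm_num
  · rw [if_neg hj.2, hsame ω ω₀ hω hω₀ ψ, hall ψ hψ]
    norm_num

end Cfsg.Agent.PF13.Reg
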