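import Cfsg.Agent.PF13.Reg.GapFixed
import Cfsg.Agent.OddLocal44.PF11.Core
import Cfsg.Agent.Coherence.Virtual
import Cfsg.Agent.Lib.CharInd.Char

/-!
# Bessel bounds and congruences for the coefficients of `η` on `F(S)`
-/

set_option autoImplicit false
set_option linter.unusedVariables false
set_option linter.unusedSectionVars false

namespace Cfsg.Agent.PF13.Reg

open Cfsg Subgroup
open scoped ComplexConjugate

universe u

theorem isIntegral_hom {A : Type*} [Group A] [Finite A] (ψ : A →* ℂˣ) (a : A) :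
    IsIntegral ℤ (ψ a : ℂ) := by
  refine IsIntegral.of_pow (Nat.card_pos (α := A)) ?_
  rw [← Units.val_pow_eq_pow_val, ← map_pow, pow_card_eq_one', map_one, Units.val_one]
  exact isIntegral_one

theorem sum_hom_mul_conj {A : Type*} [Group A] [Fintype A] (a b : A →* ℂˣ) [Decidable (a = b)] :
    ∑ x : A, (a x : ℂ) * conj (b x : ℂ) = (Nat.card A : ℂ) * if a = b then 1 else 0 := by
  rw [← classInner_hom a b, classInner, mul_inv_cancel_left₀ (Nat.cast_ne_zero.2 Nat.card_pos.ne')]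

variable {G : Type u} [Group G] [Fintype G] {S W₁ U W₂ : Subgroup G} {p q : ℕ}
  [Fintype (fittingOf S)]
  (hS : Side S W₁ U W₂ p q) (hD : Dich S W₁ U W₂ p q)
  {η : (↥W₁ →* ℂˣ) → (↥W₂ →* ℂˣ) → G → ℂ} (hE : PF14.EtaArr W₁ W₂ η)
include hS hE

theorem Side.odd_q : Odd q :=
  hS.card_W₁ ▸ hS.minSimple.1.of_dvd_nat (card_subgroup_dvd_card W₁)

theorem Side.odd_p : Odd p :=
  hS.card_W₂ ▸ hS.minSimple.1.of_dvd_nat (card_subgroup_dvd_card W₂)

include hD

/-- The coefficients of `η φ ψ` on `F(S)`, as integers. -/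
theorem exists_coeffs :
    ∃ d : (↥W₁ →* ℂˣ) → (↥W₂ →* ℂˣ) → (↥(fittingOf S) →* ℂˣ) → ℤ,
      (∀ φ ψ ω, PF14.coeff (onSub (fittingOf S) (η φ ψ)) ω = (d φ ψ ω : ℂ)) ∧
      (∀ φ ψ ω (g : normalizer (fittingOf S : Set G)),
        d φ ψ (actCh _ g ω) = d φ ψ ω) ∧
      (∀ ω, ω ≠ 1 → d 1 1 ω = 0) ∧
      (∀ φ φ' : ↥W₁ →* ℂˣ, φ ≠ 1 → φ' ≠ 1 → ∀ ω, d φ 1 ω = d φ' 1 ω) := by
  classical
  have hint : ∀ φ ψ ω, ∃ z : ℤ, PF14.coeff (onSub (fittingOf S) (η φ ψ)) ω = z := fun φ ψ ω =>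
    PF14.coeff_int (CharCore.isGeneralized_restrict (hE.gen φ ψ) _) ω
  choose d hd using hint
  refine ⟨d, hd, fun φ ψ ω g => ?_, fun ω hω => ?_, fun φ φ' hφ hφ' ω => ?_⟩
  · have hbij : Function.Bijective (cjH (fittingOf S) g g.2) :=
      Finite.injective_iff_bijective.1 fun a b e => Subtype.ext (by
        have := congrArg Subtype.val e
        simpa using this)
    have h := PF14.coeff_comp (onSub (fittingOf S) (η φ ψ)) (MulEquiv.ofBijective _ hbij)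
      (fun x => hE.classFun φ ψ x g) ω
    have h2 : ω.comp (MulEquiv.ofBijective _ hbij).toMonoidHom = actCh _ g ω :=
      MonoidHom.ext fun x => rfl
    rw [h2, hd, hd] at h
    exact_mod_cast h
  · have h : onSub (fittingOf S) (η 1 1) = fun x => ((1 : ↥(fittingOf S) →* ℂˣ) x : ℂ) := by
      funext x; simp [onSub, hE.one]
    have h1 := hd 1 1 ω
    rw [PF14.coeff, h, classInner_hom, if_neg (Ne.symm hω)] at h1
    exact_mod_cast h1.symm
  · haveI : Finite W₁ := inferInstance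
    obtain ⟨σ, hσ, hσ1⟩ := PF14.exists_ringHom_move hE.prime₁ hφ hφ'
      (n := Nat.card (fittingOf S)) Nat.card_pos.ne'
      (by rw [hS.card_W₁]; exact (hD.coprime_q hS).symm)
    have hω : ∀ x : fittingOf S, σ (conj (ω x : ℂ)) = conj (ω x : ℂ) := fun x => hσ1 _ (by
      rw [← map_pow, ← Units.val_pow_eq_pow_val, ← map_pow, pow_card_eq_one', map_one,
        Units.val_one, map_one])
    have h : σ (PF14.coeff (onSub (fittingOf S) (η φ 1)) ω) =
        PF14.coeff (onSub (fittingOf S) (η φ' 1)) ω := by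
      simp only [PF14.coeff, classInner, map_mul, map_inv₀, map_natCast, map_sum, hω, onSub,
        hE.galois, hσ, PF14.mapCh_one]
    rw [hd, hd, map_intCast] at h
    exact_mod_cast h

variable {d : (↥W₁ →* ℂˣ) → (↥W₂ →* ℂˣ) → (↥(fittingOf S) →* ℂˣ) → ℤ}
  (hd : ∀ φ ψ ω, PF14.coeff (onSub (fittingOf S) (η φ ψ)) ω = (d φ ψ ω : ℂ))
include hd

/-- Bessel's inequality and additivity for the difference of two characters of `F(S)`. -/
theorem pair_bound [Fintype (↥W₁ →* ℂˣ)] [Fintype (↥W₂ →* ℂˣ)]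
    [Fintype (normalizer (fittingOf S : Set G))]
    (hd0 : ∀ ω, ω ≠ 1 → d 1 1 ω = 0) {ω₁ ω₂ : ↥(fittingOf S) →* ℂˣ} (h1 : ω₁ ≠ 1) (h2 : ω₂ ≠ 1)
    {k₁ k₂ : ℕ}
    (hk₁ : ∀ [DecidableEq (↥(fittingOf S) →* ℂˣ)],
      (Finset.univ.filter fun g : normalizer (fittingOf S : Set G) => actCh _ g ω₁ = ω₁).card ≤
        Nat.card (fittingOf S) * k₁)
    (hk₂ : ∀ [DecidableEq (↥(fittingOf S) →* ℂˣ)],
      (Finset.univ.filter fun g : normalizer (fittingOf S : Set G) => actCh _ g ω₂ = ω₂).card ≤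
        Nat.card (fittingOf S) * k₂) :
    ∑ φ, ∑ ψ, (d φ ψ ω₁ - d φ ψ ω₂) ^ 2 ≤ (k₁ : ℤ) + k₂ ∧
      ∀ φ ψ, d φ ψ ω₁ - d φ ψ ω₂ = (d φ 1 ω₁ - d φ 1 ω₂) + (d 1 ψ ω₁ - d 1 ψ ω₂) := by
  classical
  set a : ↥(fittingOf S) → ℂ := fun x => (ω₁ x : ℂ) - (ω₂ x : ℂ) with ha
  set θ := indFun (fittingOf S) a with hθ
  have hgen : IsGeneralizedCharacter G θ := CharInd.isGeneralizedCharacter_indFun _
    ⟨_, _, CharCore.irr_isCharacter ⟨_, CharCore.isIrrCharacter_hom ω₁⟩,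
      CharCore.irr_isCharacter ⟨_, CharCore.isIrrCharacter_hom ω₂⟩, rfl⟩
  have hcoef : ∀ φ ψ, classInner θ (η φ ψ) = ((d φ ψ ω₁ - d φ ψ ω₂ : ℤ) : ℂ) := by
    intro φ ψ
    rw [hθ, CharInd.classInner_indFun_left _ _ (hE.classFun φ ψ)]
    have e : a = (fun x => (ω₁ x : ℂ)) - fun x => (ω₂ x : ℂ) := rfl
    rw [e, Coherence.inner_sub_left, ← Coherence.inner_conj_symm,
      ← Coherence.inner_conj_symm _ (fun x => (ω₂ x : ℂ))]
    have h' : ∀ ω : ↥(fittingOf S) →* ℂˣ,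
        classInner (fun h : fittingOf S => η φ ψ h) (fun x => (ω x : ℂ)) = (d φ ψ ω : ℂ) := hd φ ψ
    rw [h', h', map_intCast, map_intCast]
    push_cast
    ring
  obtain ⟨m, hm⟩ := Coherence.inner_gen_int hgen hgen
  have hle := norm_ind_sub_le hS.fitting_TI ω₁ ω₂ hm
  have hbes := (OddLocal44.PF11.sum_sq_le (v := fun x : (↥W₁ →* ℂˣ) × (↥W₂ →* ℂˣ) => η x.1 x.2)
    (fun x y => by
      split_ifs with h
      · subst h; exact hE.norm_one _ _
      · exact hE.orth _ _ _ _ (by simpa using h))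
    (fun x => hcoef x.1 x.2) hm).1
  rw [Fintype.sum_prod_type] at hbes
  refine ⟨hbes.trans ?_, fun φ ψ => ?_⟩
  · have hH : (0 : ℤ) < Nat.card (fittingOf S) := by exact_mod_cast Nat.card_pos
    have h1' : _ ≤ ((Nat.card (fittingOf S) * k₁ : ℕ) : ℤ) + (Nat.card (fittingOf S) * k₂ : ℕ) :=
      hle.trans (add_le_add (Int.ofNat_le.2 hk₁) (Int.ofNat_le.2 hk₂))
    push_cast at h1'
    refine le_of_mul_le_mul_left ?_ hH
    linarith
  · have hz : ∀ v ∈ OddChar.CycTI.offSet W₁ W₂, θ v = 0 := by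
      intro v hv
      obtain ⟨hv, -, hv2⟩ := OddChar.CycTI.mem_offSet.1 hv
      have hcomm := hS.data.selfNormalizing.2.2.2.1
      obtain ⟨x, hx, y, hy, rfl⟩ := Coprime.exists_mul_of_mem_sup
        (Coprime.le_normalizer_of_conj_mem fun b hb a ha => by
          rw [← hcomm a ha b hb, mul_inv_cancel_right]; exact ha : W₂ ≤ normalizer (W₁ : Set G)) hv
      refine CharInd.indFun_eq_zero_of_forall_notMem _ _ fun z hm => hv2 ?_
      have h3 : (z⁻¹ * (x * y) * z) ^ Nat.card (fittingOf S) = 1 :=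
        congrArg Subtype.val (pow_card_eq_one' (x := (⟨_, hm⟩ : fittingOf S)))
      have h4 : (x * y) ^ Nat.card (fittingOf S) = 1 := by
        have := congrArg (fun t => z * t * z⁻¹) h3
        simp only [mul_one, mul_inv_cancel] at this
        rw [← this, ← conj_pow]
        congr 1
        group
      rw [(show Commute x y from hcomm x hx y hy).mul_pow] at h4
      have h5 : x ^ Nat.card (fittingOf S) = 1 := by
        refine mem_bot.1 (hS.data.selfNormalizing.2.2.1.le (mem_inf.2 ⟨pow_mem hx _, ?_⟩))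
        rw [eq_inv_of_mul_eq_one_left h4]
        exact inv_mem (pow_mem hy _)
      have h6 : x ^ q = 1 := by
        rw [← hS.card_W₁]
        exact congrArg Subtype.val (pow_card_eq_one' (x := (⟨x, hx⟩ : W₁)))
      have h7 : x = 1 := orderOf_eq_one_iff.1 (Nat.eq_one_of_dvd_coprimes (hD.coprime_q hS)
        (orderOf_dvd_of_pow_eq_one h6) (orderOf_dvd_of_pow_eq_one h5))
      rwa [h7, one_mul]
    have h := hE.additive θ (CharInd.isClassFunction_indFun _ _) hz φ ψ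
    simp only [hcoef] at h
    norm_cast at h
    rw [h, hd0 _ h1, hd0 _ h2]
    ring

variable {lam : (↥W₂ →* ℂˣ) → (↥(fittingOf S) →* ℂˣ)}
  (hlam : ∀ ψ (b : W₂), lam ψ ⟨b, hD.W₂_le hS b.2⟩ = ψ b)
  (hfix : ∀ ψ (w : G) (hw : w ∈ W₁), hD.act hS (hS.W₁_le_S hw) (lam ψ) = lam ψ)
  (hclass : ∀ ω (w : G) (hw : w ∈ W₁), w ≠ 1 → hD.act hS (hS.W₁_le_S hw) ω = ω → ∃ ψ, ω = lam ψ)
  (hinv : ∀ φ ψ ω (g : normalizer (fittingOf S : Set G)), d φ ψ (actCh _ g ω) = d φ ψ ω)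
include hlam hfix hclass hinv

/-- The congruence at the elements of `W₂`. -/
theorem congr_lam [DecidableEq (↥W₂ →* ℂˣ)] (φ : ↥W₁ →* ℂˣ) (ψ j k : ↥W₂ →* ℂˣ) :
    (q : ℤ) ∣ (d φ ψ (lam j) - if j = ψ then 1 else 0) - (d φ ψ (lam k) - if k = ψ then 1 else 0) := by
  classical
  haveI := Fintype.ofFinite W₂
  haveI := PF14.hom_finite (P := ↥(fittingOf S)) (fun x y => hS.fitting_comm.is_comm.comm x y)
  haveI := Fintype.ofFinite (↥(fittingOf S) →* ℂˣ)
  haveI : Finite (↥W₂ →* ℂˣ) := Finite.of_injective lam (hD.lam_injective hS hlam)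
  haveI := Fintype.ofFinite (↥W₂ →* ℂˣ)
  obtain ⟨w, hw, hw1⟩ := (Subgroup.bot_or_exists_ne_one W₁).resolve_left hS.data.W₁_ne
  obtain ⟨a₀, ha₀⟩ : ∃ a : W₁, a ≠ 1 := ⟨⟨w, hw⟩, fun e => hw1 (congrArg Subtype.val e)⟩
  set ζ : ℂ := Complex.exp (2 * Real.pi * Complex.I / q) with hζdef
  have hζ : IsPrimitiveRoot ζ q := Complex.isPrimitiveRoot_exp q hS.hq.ne_zero
  haveI : NeZero q := ⟨hS.hq.ne_zero⟩
  have hζi : IsIntegral ℤ ζ := hζ.isIntegral hS.hq.pos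
  -- multiples of `1 - ζ`
  have hgeom : ∀ i : ℕ, ∃ μ : ℂ, IsIntegral ℤ μ ∧ 1 - ζ ^ i = (1 - ζ) * μ := fun i =>
    ⟨∑ j ∈ Finset.range i, ζ ^ j, IsIntegral.sum _ fun j _ => hζi.pow j, (mul_neg_geom_sum ζ i).symm⟩
  obtain ⟨μ, hμ, hqμ⟩ : ∃ μ : ℂ, IsIntegral ℤ μ ∧ (q : ℂ) = (1 - ζ) * μ := by
    choose μ hμ hμe using hgeom
    refine ⟨∑ i ∈ Finset.range q, μ i, IsIntegral.sum _ fun i _ => hμ i, ?_⟩
    rw [Finset.mul_sum, ← Finset.sum_congr rfl fun i _ => hμe i, Finset.sum_sub_distrib,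
      hζ.geom_sum_eq_zero hS.hq.one_lt]
    simp
  have hkey : ∀ b : W₂, b ≠ 1 → ∃ r : ℂ, IsIntegral ℤ r ∧
      (∑ l : ↥W₂ →* ℂˣ, (d φ ψ (lam l) : ℂ) * (l b : ℂ)) - (ψ b : ℂ) = (1 - ζ) * r := by
    intro b hb
    have hbH : (b : G) ∈ fittingOf S := hD.W₂_le hS b.2
    set σ : (↥(fittingOf S) →* ℂˣ) → (↥(fittingOf S) →* ℂˣ) := hD.act hS (hS.W₁_le_S hw) with hσ
    have hit : ∀ (i : ℕ) ω, σ^[i] ω = hD.act hS (hS.W₁_le_S (pow_mem hw i)) ω := by
      intro i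
      induction i with
      | zero => exact fun ω => (hD.act_id hS _ (by simp) ω).symm
      | succ i ih =>
        intro ω
        rw [Function.iterate_succ_apply', ih, hσ, hD.act_act hS (hS.W₁_le_S (pow_mem hw i)) (hS.W₁_le_S hw)]
        exact hD.act_congr hS _ _ (pow_succ w i).symm ω
    have hσq : ∀ ω, σ^[q] ω = ω := fun ω => by
      rw [hit]
      refine hD.act_id hS _ ?_ ω
      rw [← hS.card_W₁, show w ^ Nat.card W₁ = 1 from
        congrArg Subtype.val (pow_card_eq_one' (x := (⟨w, hw⟩ : W₁)))]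
      exact one_mem _
    obtain ⟨r₁, hr₁, e₁⟩ := sum_congr_fixed hS.hq σ hσq
      (fun ω => (d φ ψ ω : ℂ) * (ω ⟨b, hbH⟩ : ℂ))
      (fun ω => isIntegral_algebraMap.mul (isIntegral_hom ω _)) (fun ω => by
        rw [show d φ ψ (σ ω) = d φ ψ ω from hinv φ ψ ω _,
          hD.act_eq hS (hS.W₁_le_S hw) ω ⟨b, hbH⟩ ⟨b, hbH⟩ (by
            rw [hS.data.selfNormalizing.2.2.2.1 w hw b b.2, mul_inv_cancel_right])])
    have hfixset : (Finset.univ.filter fun ω => σ ω = ω) = Finset.univ.image lam := by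
      ext ω
      simp only [Finset.mem_filter, Finset.mem_univ, true_and, Finset.mem_image]
      exact ⟨fun h => (hclass ω w hw hw1 h).imp fun _ h' => h'.symm,
        fun ⟨l, hl⟩ => hl ▸ hfix l w hw⟩
    rw [hfixset, Finset.sum_image (fun x _ y _ e => hD.lam_injective hS hlam e)] at e₁
    simp only [hlam] at e₁
    have e₂ := PF14.eq_sum_coeff (fun x y => hS.fitting_comm.is_comm.comm x y)
      (onSub (fittingOf S) (η φ ψ)) ⟨b, hbH⟩
    simp only [hd] at e₂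
    rw [← e₂] at e₁
    -- the value at `b`
    have ha : ((a₀ : G)) ^ q = 1 := by
      rw [← hS.card_W₁]; exact congrArg Subtype.val (pow_card_eq_one' (x := a₀))
    obtain ⟨r₂, hr₂, e₃⟩ := OddChar.isGeneralizedCharacter_mul_congr (hE.gen φ ψ) hS.hq.ne_zero
      (x := (a₀ : G)) (y := (b : G)) ha (hS.data.selfNormalizing.2.2.2.1 a₀ a₀.2 b b.2) hζ
    rw [hE.eq_on φ ψ a₀ b ha₀ hb] at e₃
    obtain ⟨i, -, hi⟩ := hζ.eq_pow_of_pow_eq_one (ξ := ((φ a₀ : ℂˣ) : ℂ)) (by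
      rw [← Units.val_pow_eq_pow_val, ← map_pow, ← hS.card_W₁, pow_card_eq_one', map_one,
        Units.val_one])
    obtain ⟨r₃, hr₃, e₄⟩ := hgeom i
    refine ⟨-r₂ - (ψ b : ℂ) * r₃ - μ * r₁,
      (hr₂.neg.sub ((isIntegral_hom ψ b).mul hr₃)).sub (hμ.mul hr₁), ?_⟩
    simp only [onSub] at e₁
    rw [hi] at e₄
    linear_combination -e₁ - e₃ - (ψ b : ℂ) * e₄ - r₁ * hqμ
  set e : (↥W₂ →* ℂˣ) → ℤ := fun l => d φ ψ (lam l) - if l = ψ then 1 else 0 with he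
  have hx : ∀ b : W₂, ∃ r : ℂ, IsIntegral ℤ r ∧
      (∑ l : ↥W₂ →* ℂˣ, (e l : ℂ) * (l b : ℂ)) * (conj (j b : ℂ) - conj (k b : ℂ)) = (1 - ζ) * r := by
    intro b
    by_cases hb : b = 1
    · exact ⟨0, isIntegral_zero, by simp [hb]⟩
    obtain ⟨r, hr, h⟩ := hkey b hb
    refine ⟨r * (conj (j b : ℂ) - conj (k b : ℂ)), hr.mul (((isIntegral_hom j b).map
      (RingHom.toIntAlgHom (starRingEnd ℂ))).sub ((isIntegral_hom k b).map
      (RingHom.toIntAlgHom (starRingEnd ℂ)))), ?_⟩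
    rw [← mul_assoc, ← h]
    simp only [he, Int.cast_sub, Int.cast_ite, Int.cast_one, Int.cast_zero, sub_mul,
      Finset.sum_sub_distrib, ite_mul, one_mul, zero_mul, Finset.sum_ite_eq', Finset.mem_univ,
      if_true]
  choose r hr hre using hx
  have hsum : ((((p : ℤ) * (e j - e k)) : ℤ) : ℂ) = (1 - ζ) * ∑ b, r b := by
    rw [Finset.mul_sum, ← Finset.sum_congr rfl fun b _ => hre b]
    simp only [Finset.sum_mul, mul_sub, Finset.sum_sub_distrib]
    rw [Finset.sum_comm, Finset.sum_comm (γ := W₂)]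
    simp only [mul_assoc, ← Finset.mul_sum, sum_hom_mul_conj, mul_ite, mul_one, mul_zero,
      Finset.sum_ite_eq', Finset.mem_univ, if_true, hS.card_W₂]
    push_cast
    ring
  have h := dvd_of_eq_one_sub_mul hS.hq (Side.odd_q hS hE) hζ
    (IsIntegral.sum _ fun b _ => hr b) hsum
  refine (Int.Prime.dvd_mul' hS.hq h).resolve_left fun hpq => ?_
  exact hS.ne ((Nat.prime_dvd_prime_iff_eq hS.hq hS.hp).1 (by exact_mod_cast hpq)).symm

end Cfsg.Agent.PF13.Reg
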