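import Cfsg.Agent.PF14.Coeff
import Cfsg.Agent.Lib.CharInd.Basic
import Cfsg.Agent.Coherence.Inner
import Cfsg.Agent.BlkChar.IntCongr
import Cfsg.Prelude.Def_OddOrderLocal

/-!
# Tools for the coefficients of the family `η` on an abelian TI subgroup

Inner products of functions induced from an abelian TI subgroup, congruences modulo `1 - ζ`,
and the arithmetic of a small additive grid.
-/

set_option autoImplicit false
set_option linter.unusedVariables false
set_option linter.unusedSectionVars false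

namespace Cfsg.Agent.PF13.Reg

open Cfsg Subgroup
open scoped ComplexConjugate

universe u

variable {G : Type u} [Group G]

/-- Conjugation by an element of the normaliser as an endomorphism of `H`. -/
def cjH (H : Subgroup G) (g : G) (hg : g ∈ normalizer (H : Set G)) : ↥H →* ↥H where
  toFun x := ⟨g * x * g⁻¹, (mem_normalizer_iff.1 hg x).1 x.2⟩
  map_one' := Subtype.ext (by simp)
  map_mul' x y := Subtype.ext (by simp [mul_assoc])

@[simp] theorem coe_cjH {H : Subgroup G} {g : G} (hg : g ∈ normalizer (H : Set G)) (x : H) :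
    (cjH H g hg x : G) = g * x * g⁻¹ := rfl

/-- The conjugate of a linear character of `H`. -/
def actCh (H : Subgroup G) (g : normalizer (H : Set G)) (ω : ↥H →* ℂˣ) : ↥H →* ℂˣ :=
  ω.comp (cjH H g g.2)

theorem actCh_apply {H : Subgroup G} (g : normalizer (H : Set G)) (ω : ↥H →* ℂˣ) (x : H) :
    actCh H g ω x = ω ⟨(g : G) * x * (g : G)⁻¹, (mem_normalizer_iff.1 g.2 x).1 x.2⟩ := rfl

@[simp] theorem actCh_one {H : Subgroup G} (ω : ↥H →* ℂˣ) : actCh H 1 ω = ω := by
  refine MonoidHom.ext fun x => congrArg ω (Subtype.ext ?_)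
  simp

theorem actCh_mul {H : Subgroup G} (g h : normalizer (H : Set G)) (ω : ↥H →* ℂˣ) :
    actCh H (g * h) ω = actCh H h (actCh H g ω) := by
  refine MonoidHom.ext fun x => congrArg ω (Subtype.ext ?_)
  show _ = (g : G) * ((h : G) * x * (h : G)⁻¹) * (g : G)⁻¹
  simp [mul_assoc]

theorem actCh_injective {H : Subgroup G} (g : normalizer (H : Set G)) :
    Function.Injective (actCh H g) := by
  intro a b e
  have := congrArg (actCh H g⁻¹) e
  simpa [← actCh_mul] using this

theorem classInner_hom {A : Type*} [Group A] [Fintype A] (a b : A →* ℂˣ) [Decidable (a = b)] :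
    classInner (fun x => (a x : ℂ)) (fun x => (b x : ℂ)) = if a = b then 1 else 0 := by
  classical
  have ha := CharCore.isIrrCharacter_hom a
  have hb := CharCore.isIrrCharacter_hom b
  split_ifs with h
  · subst h
    exact CharCore.classInner_irr_self ⟨_, ha⟩
  · refine CharCore.classInner_irr_of_ne (χ := ⟨_, ha⟩) (ψ := ⟨_, hb⟩) fun e => h ?_
    exact MonoidHom.ext fun x => Units.ext (congrFun (congrArg Subtype.val e) x)

variable [Fintype G]

/-- The norm of a function induced from a TI subgroup and vanishing at `1`. -/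
theorem norm_ind_ti {H : Subgroup G} [Fintype H] [Fintype (normalizer (H : Set G))]
    (hTI : IsTISubset (H : Set G)) {a : ↥H → ℂ} (ha : a 1 = 0) :
    (Nat.card H : ℂ) * classInner (indFun H a) (indFun H a) =
      ∑ g : normalizer (H : Set G), classInner a (fun x => a (cjH H g g.2 x)) := by
  classical
  rw [CharInd.classInner_indFun_left _ _ (CharInd.isClassFunction_indFun _ a)]
  have key : ∀ x : H, a x * conj (indFun H a x) =
      a x * conj ((Nat.card H : ℂ)⁻¹ * ∑ g : normalizer (H : Set G), a (cjH H g g.2 x)) := by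
    intro x
    by_cases hx : x = 1
    · rw [hx, ha, zero_mul, zero_mul]
    congr 2
    rw [CharInd.indFun_apply]
    congr 1
    have h1 : ∀ g : G, g ∉ normalizer (H : Set G) → extendByZero H a (g⁻¹ * x * g) = 0 := by
      intro g hg
      refine CharInd.extendByZero_notMem a fun hm => hx (Subtype.ext ?_)
      exact hTI g⁻¹ (fun h => hg (inv_mem_iff.mp h)) x x.2 (by simpa using hm)
    rw [← Finset.sum_filter_of_ne (p := fun g => g ∈ normalizer (H : Set G))
      (fun g _ hne => by_contra fun hg => hne (h1 g hg)),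
      Finset.sum_subtype (Finset.univ.filter fun g => g ∈ normalizer (H : Set G))
      (p := fun g => g ∈ normalizer (H : Set G)) (by simp)]
    refine Fintype.sum_equiv (Equiv.inv _) _ _ fun g => ?_
    have hm : (g : G)⁻¹ * x * (g : G) ∈ H := by
      have := (mem_normalizer_iff.1 (inv_mem g.2) x).1 x.2
      simpa using this
    rw [CharInd.extendByZero_mem a hm]
    exact congrArg a (Subtype.ext (by simp))
  have hne : (Nat.card H : ℂ) ≠ 0 := Nat.cast_ne_zero.2 Nat.card_pos.ne'
  simp only [classInner]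
  rw [Finset.sum_congr rfl fun x _ => key x]
  simp only [map_mul, map_inv₀, map_natCast, map_sum, Finset.mul_sum]
  rw [Finset.sum_comm]
  refine Finset.sum_congr rfl fun g _ => Finset.sum_congr rfl fun x _ => ?_
  field_simp

open Classical in
/-- The norm of the difference of two linear characters induced from an abelian TI subgroup. -/
theorem norm_ind_sub_le {H : Subgroup G} [Fintype H] [Fintype (normalizer (H : Set G))]
    (hTI : IsTISubset (H : Set G)) (ω₁ ω₂ : ↥H →* ℂˣ) {m : ℤ}
    (hm : classInner (indFun H fun x => (ω₁ x : ℂ) - (ω₂ x : ℂ))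
      (indFun H fun x => (ω₁ x : ℂ) - (ω₂ x : ℂ)) = (m : ℂ)) :
    (Nat.card H : ℤ) * m ≤
      ((Finset.univ.filter fun g : normalizer (H : Set G) => actCh H g ω₁ = ω₁).card : ℤ) +
      (Finset.univ.filter fun g : normalizer (H : Set G) => actCh H g ω₂ = ω₂).card := by
  have h := norm_ind_ti hTI (a := fun x => (ω₁ x : ℂ) - (ω₂ x : ℂ)) (by simp)
  rw [hm] at h
  have e : ∀ g : normalizer (H : Set G), classInner (fun x => (ω₁ x : ℂ) - (ω₂ x : ℂ))
      (fun x => (ω₁ (cjH H g g.2 x) : ℂ) - (ω₂ (cjH H g g.2 x) : ℂ)) =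
      (((if actCh H g ω₁ = ω₁ then 1 else 0) + (if actCh H g ω₂ = ω₂ then 1 else 0)
        - (if ω₁ = actCh H g ω₂ then 1 else 0) - (if ω₂ = actCh H g ω₁ then 1 else 0) : ℤ) : ℂ) := by
    intro g
    have e1 : (fun x => (ω₁ x : ℂ) - (ω₂ x : ℂ)) =
        (fun x => (ω₁ x : ℂ)) - fun x => (ω₂ x : ℂ) := rfl
    have e2 : (fun x => (ω₁ (cjH H g g.2 x) : ℂ) - (ω₂ (cjH H g g.2 x) : ℂ)) =
        (fun x => (actCh H g ω₁ x : ℂ)) - fun x => (actCh H g ω₂ x : ℂ) := rfl
    rw [e1, e2, Coherence.inner_sub_left, Coherence.inner_sub_right, Coherence.inner_sub_right,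
      classInner_hom, classInner_hom, classInner_hom, classInner_hom]
    push_cast
    simp only [eq_comm (a := ω₁) (b := actCh H g ω₁), eq_comm (a := ω₂) (b := actCh H g ω₂)]
    ring
  simp only [e] at h
  rw [← Int.cast_sum] at h
  have h2 : (Nat.card H : ℤ) * m = ∑ g : normalizer (H : Set G),
      ((if actCh H g ω₁ = ω₁ then 1 else 0) + (if actCh H g ω₂ = ω₂ then 1 else 0)
        - (if ω₁ = actCh H g ω₂ then 1 else 0) - (if ω₂ = actCh H g ω₁ then (1 : ℤ) else 0)) := by
    exact_mod_cast h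
  rw [h2, Finset.card_filter, Finset.card_filter]
  push_cast
  rw [← Finset.sum_add_distrib]
  refine Finset.sum_le_sum fun g _ => ?_
  split_ifs <;> norm_num

/-- A rational integer divisible by `1 - ζ`, `ζ` a primitive root of odd prime order `q`, is
divisible by `q`. -/
theorem dvd_of_eq_one_sub_mul {z : ℤ} {q : ℕ} (hq : q.Prime) (hodd : Odd q) {ζ ω : ℂ}
    (hζ : IsPrimitiveRoot ζ q) (hω : IsIntegral ℤ ω) (h : (z : ℂ) = (1 - ζ) * ω) :
    (q : ℤ) ∣ z := by
  have hζi : IsIntegral ℤ ζ := hζ.isIntegral hq.pos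
  obtain ⟨r, hr, e⟩ := BlkChar.sum_pow_prime_congr (Finset.univ : Finset (Fin 2)) ![1, -ζ]
    (fun i => by fin_cases i <;> simp [isIntegral_one, hζi.neg]) hq
  simp only [Fin.sum_univ_two, Matrix.cons_val_zero, Matrix.cons_val_one] at e
  rw [one_pow, hodd.neg_pow, hζ.pow_eq_one, ← sub_eq_add_neg] at e
  have h1 : (q : ℤ) ∣ z ^ q := by
    refine BlkChar.int_dvd_of_eq_mul (r := r * ω ^ q) hq.ne_zero (hr.mul (hω.pow _)) ?_
    rw [Int.cast_pow, h, mul_pow]
    linear_combination ω ^ q * e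
  exact Int.Prime.dvd_pow' hq h1

section Grid

variable {J : Type*} [Fintype J] [DecidableEq J]

/-- With `r ≠ 0` a small additive grid has all columns equal to `-r`. -/
theorem grid_col {q : ℤ} (hq : 3 ≤ q) (j₀ : J) (hJ : 3 ≤ Fintype.card J) (r : ℤ) (hr : r ≠ 0)
    (s : J → ℤ) (hs : s j₀ = 0)
    (h : (q - 1) * ∑ j, (r + s j) ^ 2 + ∑ j, s j ^ 2 ≤ q + 1) :
    ∀ j, j ≠ j₀ → s j = -r := by
  intro j hj
  by_contra hne
  have hr2 : 1 ≤ r ^ 2 := by nlinarith [sq_nonneg r, Int.one_le_abs hr, abs_mul_abs_self r]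
  have hrs : 1 ≤ (r + s j) ^ 2 := by
    have : r + s j ≠ 0 := fun e => hne (by omega)
    nlinarith [Int.one_le_abs this, abs_mul_abs_self (r + s j)]
  obtain ⟨k, hk⟩ := Finset.exists_mem_notMem_of_card_lt_card (s := ({j₀, j} : Finset J)) (t := Finset.univ)
    (lt_of_le_of_lt Finset.card_le_two (by rw [Finset.card_univ]; omega))
  have hkj : k ≠ j₀ ∧ k ≠ j := by simpa using hk.2
  have h1 : (r + s j₀) ^ 2 + (r + s j) ^ 2 + (r + s k) ^ 2 ≤ ∑ i, (r + s i) ^ 2 := by
    have := Finset.sum_le_sum_of_subset_of_nonneg (f := fun i => (r + s i) ^ 2)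
      (Finset.subset_univ ({j₀, j, k} : Finset J)) (fun i _ _ => sq_nonneg _)
    rw [Finset.sum_insert (by simp [hj.symm, hkj.1.symm]), Finset.sum_pair hkj.2.symm] at this
    linarith
  have h2 : s j ^ 2 + s k ^ 2 ≤ ∑ i, s i ^ 2 := by
    have := Finset.sum_le_sum_of_subset_of_nonneg (f := fun i => s i ^ 2)
      (Finset.subset_univ ({j, k} : Finset J)) (fun i _ _ => sq_nonneg _)
    rwa [Finset.sum_pair hkj.2.symm] at this
  rw [hs, add_zero] at h1
  by_cases hsk : r + s k = 0
  · have : s k ^ 2 = r ^ 2 := by rw [show s k = -r by omega]; ring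
    nlinarith
  · have : 1 ≤ (r + s k) ^ 2 := by
      nlinarith [Int.one_le_abs hsk, abs_mul_abs_self (r + s k)]
    nlinarith [sq_nonneg (s j), sq_nonneg (s k)]

/-- Vectors at distance one from every basis vector. -/
theorem shift_cases (j₀ : J) (hJ : 3 ≤ Fintype.card J) (e : J → ℤ) (he : e j₀ = 0)
    (h : ∀ k, k ≠ j₀ → ∑ j, ((if k = j then 1 else 0) + e j) ^ 2 ≤ 1) :
    (∀ j, e j = 0) ∨ (Fintype.card J = 3 ∧ ∀ j, j ≠ j₀ → e j = -1) := by
  by_cases h0 : ∀ j, e j = 0
  · exact Or.inl h0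
  push Not at h0
  obtain ⟨a, ha⟩ := h0
  have haj : a ≠ j₀ := fun e' => ha (e' ▸ he)
  have key : ∀ a, a ≠ j₀ → e a ≠ 0 → ∀ k, k ≠ j₀ → k ≠ a → e k = -1 ∧ (e a = 1 ∨ e a = -1) := by
    intro a _ ha k hk hka
    have h1 := Finset.sum_le_sum_of_subset_of_nonneg
      (f := fun i => ((if k = i then (1 : ℤ) else 0) + e i) ^ 2)
      (Finset.subset_univ ({a, k} : Finset J)) (fun i _ _ => sq_nonneg _)
    rw [Finset.sum_pair hka.symm, if_neg hka, if_pos rfl, zero_add] at h1
    have h2 := h k hk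
    have ha2 : 1 ≤ e a ^ 2 := by nlinarith [Int.one_le_abs ha, abs_mul_abs_self (e a)]
    refine ⟨?_, ?_⟩
    · have : (1 + e k) ^ 2 = 0 := by nlinarith [sq_nonneg (1 + e k)]
      have := (pow_eq_zero_iff (by norm_num)).1 this
      omega
    · have h3 : e a ^ 2 = 1 := by nlinarith [sq_nonneg (1 + e k)]
      exact sq_eq_one_iff.1 h3
  obtain ⟨k, hk⟩ := Finset.exists_mem_notMem_of_card_lt_card (s := ({j₀, a} : Finset J)) (t := Finset.univ)
    (lt_of_le_of_lt Finset.card_le_two (by rw [Finset.card_univ]; omega))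
  obtain ⟨hk0, hka⟩ : k ≠ j₀ ∧ k ≠ a := by simpa using hk.2
  have hek := (key a haj ha k hk0 hka).1
  have hea := (key k hk0 (by omega) a haj hka.symm).1
  refine Or.inr ⟨?_, fun j hj => ?_⟩
  · by_contra hcard
    obtain ⟨l, hl⟩ := Finset.exists_mem_notMem_of_card_lt_card (s := ({j₀, a, k} : Finset J))
      (t := Finset.univ) (lt_of_le_of_lt Finset.card_le_three (by rw [Finset.card_univ]; omega))
    obtain ⟨hl0, hla, hlk⟩ : l ≠ j₀ ∧ l ≠ a ∧ l ≠ k := by simpa using hl.2
    have h1 := Finset.sum_le_sum_of_subset_of_nonneg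
      (f := fun i => ((if l = i then (1 : ℤ) else 0) + e i) ^ 2)
      (Finset.subset_univ ({a, k} : Finset J)) (fun i _ _ => sq_nonneg _)
    rw [Finset.sum_pair hka.symm, if_neg hla, if_neg hlk, hea, hek] at h1
    have := h l hl0
    norm_num at h1
    omega
  · by_cases hja : j = a
    · exact hja ▸ hea
    · exact (key a haj ha j hj hja).1

end Grid

end Cfsg.Agent.PF13.Reg
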