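import Cfsg.Agent.PF13.Reg.Defs
import Cfsg.Agent.PF13.Reg.GapBase
import Cfsg.Agent.PF13.Structure
import Cfsg.Agent.OddChar.Congruence
import Mathlib.Dynamics.PeriodicPts.Lemmas

/-!
# The action of `U W₁` on the linear characters of `F(S)`

The `W₁`-fixed characters, their orbits and stabilisers; orbit sums modulo a prime.
-/

set_option autoImplicit false
set_option linter.unusedVariables false
set_option linter.unusedSectionVars false

namespace Cfsg.Agent.PF13.Reg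

open Cfsg Subgroup

universe u

/-- A sum of an invariant function is congruent to the sum over the fixed points. -/
theorem sum_congr_fixed {A : Type*} [Fintype A] [DecidableEq A] {q : ℕ} (hq : q.Prime) (σ : A → A)
    (hσ : ∀ a, σ^[q] a = a) (F : A → ℂ) (hint : ∀ a, IsIntegral ℤ (F a))
    (hF : ∀ a, F (σ a) = F a) :
    ∃ r : ℂ, IsIntegral ℤ r ∧
      ∑ a, F a - ∑ a ∈ Finset.univ.filter (fun a => σ a = a), F a = (q : ℂ) * r := by
  suffices h : ∀ s : Finset A, (∀ a ∈ s, σ a ∈ s) → (∀ a ∈ s, σ a ≠ a) →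
      ∃ r : ℂ, IsIntegral ℤ r ∧ ∑ a ∈ s, F a = (q : ℂ) * r by
    have hinj : Function.Injective σ := by
      intro x y hxy
      rw [← hσ x, ← hσ y, show q = q - 1 + 1 from (Nat.succ_pred_eq_of_pos hq.pos).symm,
        Function.iterate_succ_apply, Function.iterate_succ_apply, hxy]
    obtain ⟨r, hr, e⟩ := h (Finset.univ.filter fun a => σ a ≠ a)
      (fun a ha => Finset.mem_filter.2 ⟨Finset.mem_univ _,
        fun e => (Finset.mem_filter.1 ha).2 (hinj e)⟩)
      (fun a ha => (Finset.mem_filter.1 ha).2)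
    refine ⟨r, hr, ?_⟩
    rw [← e, ← Finset.sum_filter_add_sum_filter_not Finset.univ (fun a => σ a = a) F]
    simp
  intro s
  induction s using Finset.strongInduction with
  | H s ih =>
    intro hs hne
    rcases s.eq_empty_or_nonempty with rfl | ⟨a, ha⟩
    · exact ⟨0, isIntegral_zero, by simp⟩
    set O := (Finset.range q).image fun i => σ^[i] a with hO
    have hper : Function.IsPeriodicPt σ q a := hσ a
    have hmin : Function.minimalPeriod σ a = q := by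
      rcases hq.eq_one_or_self_of_dvd _ hper.minimalPeriod_dvd with h1 | h1
      · exact absurd (Function.minimalPeriod_eq_one_iff_isFixedPt.1 h1) (hne a ha)
      · exact h1
    have hcard : O.card = q := by
      rw [hO, Finset.card_image_of_injOn, Finset.card_range]
      intro i hi j hj e
      exact Function.iterate_injOn_Iio_minimalPeriod (by simpa [hmin] using hi)
        (by simpa [hmin] using hj) e
    have hmem : ∀ i, σ^[i] a ∈ s := by
      intro i
      induction i with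
      | zero => exact ha
      | succ i hi => rw [Function.iterate_succ_apply']; exact hs _ hi
    have hOs : O ⊆ s := fun x hx => by
      obtain ⟨i, -, rfl⟩ := Finset.mem_image.1 hx
      exact hmem i
    have hback : ∀ x, σ x ∈ O → x ∈ O := by
      intro x hx
      obtain ⟨i, -, e⟩ := Finset.mem_image.1 hx
      have h2 : x = σ^[i + (q - 1)] a := by
        rw [add_comm, Function.iterate_add_apply, e, ← Function.iterate_succ_apply,
          Nat.succ_eq_add_one, Nat.sub_add_cancel hq.one_le, hσ]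
      rw [h2, ← hper.iterate_mod_apply]
      exact Finset.mem_image.2 ⟨_, Finset.mem_range.2 (Nat.mod_lt _ hq.pos), rfl⟩
    have hlt : s \ O ⊂ s := Finset.sdiff_ssubset hOs (Finset.card_pos.1 (hcard ▸ hq.pos))
    obtain ⟨r, hr, e⟩ := ih (s \ O) hlt
      (fun x hx => Finset.mem_sdiff.2 ⟨hs x (Finset.mem_sdiff.1 hx).1,
        fun h => (Finset.mem_sdiff.1 hx).2 (hback x h)⟩)
      (fun x hx => hne x (Finset.mem_sdiff.1 hx).1)
    refine ⟨r + F a, hr.add (hint a), ?_⟩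
    rw [← Finset.sum_sdiff hOs, e, Finset.sum_congr rfl (fun x hx => show F x = F a by
      obtain ⟨i, -, rfl⟩ := Finset.mem_image.1 hx
      clear hx
      induction i with
      | zero => rfl
      | succ i hi => rw [Function.iterate_succ_apply', hF, hi]), Finset.sum_const, hcard,
      nsmul_eq_mul]
    ring

variable {G : Type u} [Group G] [Fintype G] {S W₁ U W₂ : Subgroup G} {p q : ℕ}
  (hS : Side S W₁ U W₂ p q)
include hS

theorem Side.W₁_le_S : W₁ ≤ S := hS.data.W₁_compl.2.1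

theorem Side.derived_le_S : ⁅S, S⁆ ≤ S := hS.data.W₁_compl.1

theorem Side.U_le_S : U ≤ S := hS.data.U_compl.2.1.trans hS.derived_le_S

theorem Side.fpf_U {w : G} (hw : w ∈ W₁) (hw1 : w ≠ 1) {u : G} (hu : u ∈ U) (h : w * u = u * w) :
    u = 1 := by
  have h1 : u ∈ W₂ := by
    rw [← hS.data.W₂_centralizer w hw hw1]
    exact ⟨hS.data.U_compl.2.1 hu, mem_centralizer_singleton_iff.mpr h.symm⟩
  exact Subgroup.mem_bot.mp (hS.data.U_compl.2.2.1.le ⟨(hS.data.W₂_le h1).1, hu⟩)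

theorem Side.mem_W₁_zpow {w : G} (hw : w ∈ W₁) (hw1 : w ≠ 1) {a : G} (ha : a ∈ W₁) :
    ∃ i : ℕ, w ^ i = a := by
  haveI : Fact q.Prime := ⟨hS.hq⟩
  obtain ⟨i, hi⟩ := (mem_powers_of_prime_card hS.card_W₁
    (g := (⟨w, hw⟩ : W₁)) (g' := ⟨a, ha⟩) fun e => hw1 (congrArg Subtype.val e))
  exact ⟨i, congrArg Subtype.val hi⟩

/-- An invariant subgroup of the core meeting `W₂` trivially is trivial. -/
theorem Side.inv_eq_bot {M : Subgroup G} (hM : M ≤ fittingHallOf S)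
    (hU : ∀ v ∈ U, ∀ y ∈ M, v * y * v⁻¹ ∈ M) (hW : ∀ w ∈ W₁, ∀ y ∈ M, w * y * w⁻¹ ∈ M)
    (hMW : M ⊓ W₂ = ⊥) : M = ⊥ := by
  have hP := hS.data
  have hUW : U ⊓ W₁ = ⊥ :=
    le_bot_iff.mp ((inf_le_inf_right W₁ hP.U_compl.2.1).trans hP.W₁_compl.2.2.1.le)
  have hUn : ∀ e ∈ W₁, ∀ u ∈ U, e * u * e⁻¹ ∈ U := fun e he u hu =>
    (mem_normalizer_iff.mp (hP.U_normal he) u).mp hu
  have hcop : (Nat.card (fittingHallOf S)).Coprime (Nat.card ↥(U ⊔ W₁)) := by
    have hc : Nat.card ↥(U ⊔ W₁) = Nat.card U * Nat.card W₁ := by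
      have h1 := Thompson.card_sup_mul_card_inf hP.U_normal
      rw [hUW, Subgroup.card_bot, mul_one] at h1
      exact h1
    rw [hc]
    refine (BGSummary.fittingHallOf_relIndex_coprime S).coprime_dvd_right (Dvd.intro 1 ?_)
    rw [mul_one, ← typePWith_card_derived hS.minSimple hP,
      ← BGSummary.card_eq_of_complIn hP.W₁_compl (Coprime.le_normalizer_commutator_left S S),
      Subgroup.relIndex_mul_relIndex _ _ _ hP.U_compl.1 hS.derived_le_S]
  have hsupn : U ⊔ W₁ ≤ normalizer (M : Set G) :=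
    sup_le (Coprime.le_normalizer_of_conj_mem hU) (Coprime.le_normalizer_of_conj_mem hW)
  have hcU : M ⊓ centralizer (U : Set G) = ⊥ :=
    le_bot_iff.mp ((inf_le_inf_right _ hM).trans hS.fix_U.le)
  have hcUW : M ⊓ centralizer ((U ⊔ W₁ : Subgroup G) : Set G) = ⊥ :=
    le_bot_iff.mp ((inf_le_inf_left _
      (centralizer_le (SetLike.coe_subset_coe.mpr le_sup_left))).trans hcU.le)
  have hcW : M ⊓ centralizer (W₁ : Set G) = ⊥ := by
    obtain ⟨e, he, he1⟩ := (Subgroup.bot_or_exists_ne_one W₁).resolve_left hP.W₁_ne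
    refine le_bot_iff.mp fun y hy => hMW.le ⟨hy.1, ?_⟩
    rw [← hP.W₂_centralizer e he he1]
    exact ⟨hP.U_compl.1 (hM hy.1),
      mem_centralizer_singleton_iff.mpr (mem_centralizer_iff.mp hy.2 e he).symm⟩
  have h := S1545.result U W₁ M hS.U_ne hP.W₁_ne hUW hUn (fun e he he1 u hu h => hS.fpf_U he he1 hu h)
    (fun x hx y hy => (mem_normalizer_iff.mp (hsupn hx) y).mp hy)
    (inf_eq_bot_of_coprime (hcop.coprime_dvd_left (card_dvd_of_le hM)))
    (Coprime.solvable_of_le (hM.trans (BGUniq.fittingHallOf_le S))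
      (BGSigma.coatom_isSolvable hS.minSimple hS.coatom))
    (hcop.coprime_dvd_left (card_dvd_of_le hM))
  rw [hcUW, hcW, hcU, Subgroup.card_bot, one_pow, one_mul, one_mul] at h
  exact card_eq_one.mp h

variable (hD : Dich S W₁ U W₂ p q)
include hD

theorem Dich.core_le : fittingHallOf S ≤ fittingOf S := hD.fitting_eq ▸ le_sup_left

theorem Dich.cU_le : cU S U ≤ fittingOf S := hD.fitting_eq ▸ le_sup_right

theorem Dich.W₂_le : W₂ ≤ fittingOf S := (hS.data.W₂_le.trans inf_le_left).trans (hD.core_le hS)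

theorem Dich.coprime_q : q.Coprime (Nat.card (fittingOf S)) := by
  rw [hS.hq.coprime_iff_not_dvd, hD.card_fitting, hS.hq.dvd_mul, not_or]
  refine ⟨fun h => hS.ne ((Nat.prime_dvd_prime_iff_eq hS.hq hS.hp).1
    (hS.hq.dvd_of_dvd_pow h)).symm, fun h => ?_⟩
  have h1 : q ∣ q - 1 := (dvd_mul_left q 2).trans (hD.modEq_prime q hS.hq h)
  have := Nat.le_of_dvd (Nat.sub_pos_of_lt hS.hq.one_lt) h1
  have := hS.hq.pos
  omega

theorem Dich.S_le : S ≤ normalizer (fittingOf S : Set G) := hS.fitting_normalizer.ge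

/-- Conjugation of characters of `F(S)` by an element of `S`. -/
def Dich.act {g : G} (hg : g ∈ S) (ω : ↥(fittingOf S) →* ℂˣ) : ↥(fittingOf S) →* ℂˣ :=
  actCh (fittingOf S) ⟨g, hD.S_le hS hg⟩ ω

theorem Dich.act_eq {g : G} (hg : g ∈ S) (ω : ↥(fittingOf S) →* ℂˣ) (x y : fittingOf S)
    (h : (y : G) = g * x * g⁻¹) : hD.act hS hg ω x = ω y :=
  congrArg ω (Subtype.ext h.symm)

theorem Dich.act_act {g h : G} (hg : g ∈ S) (hh : h ∈ S) (ω : ↥(fittingOf S) →* ℂˣ) :
    hD.act hS hh (hD.act hS hg ω) = hD.act hS (mul_mem hg hh) ω :=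
  (actCh_mul _ _ ω).symm

theorem Dich.act_congr {g h : G} (hg : g ∈ S) (hh : h ∈ S) (e : g = h)
    (ω : ↥(fittingOf S) →* ℂˣ) : hD.act hS hg ω = hD.act hS hh ω := by
  subst e; rfl

theorem Dich.act_id {g : G} (hg : g ∈ S) (hgF : g ∈ fittingOf S) (ω : ↥(fittingOf S) →* ℂˣ) :
    hD.act hS hg ω = ω := by
  refine MonoidHom.ext fun x => hD.act_eq hS hg ω x x ?_
  have h := congrArg Subtype.val (hS.fitting_comm.is_comm.comm (⟨g, hgF⟩ : fittingOf S) x)
  simp only [coe_mul] at h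
  rw [h, mul_inv_cancel_right]

theorem Dich.act_inj {g : G} (hg : g ∈ S) : Function.Injective (hD.act hS hg) :=
  actCh_injective _

theorem Dich.act_inv_act {g : G} (hg : g ∈ S) (ω : ↥(fittingOf S) →* ℂˣ) :
    hD.act hS (inv_mem hg) (hD.act hS hg ω) = ω := by
  rw [hD.act_act hS hg (inv_mem hg), hD.act_id hS (mul_mem hg (inv_mem hg)) (by simp)]

/-- `W₁`-fixed characters: one for each character of `W₂`. -/
theorem Dich.exists_lam :
    ∃ lam : (↥W₂ →* ℂˣ) → (↥(fittingOf S) →* ℂˣ),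
      (∀ ψ (b : W₂), lam ψ ⟨b, hD.W₂_le hS b.2⟩ = ψ b) ∧
      lam 1 = 1 ∧
      (∀ ψ (w : G) (hw : w ∈ W₁), hD.act hS (hS.W₁_le_S hw) (lam ψ) = lam ψ) ∧
      (∀ ω (w : G) (hw : w ∈ W₁), w ≠ 1 → hD.act hS (hS.W₁_le_S hw) ω = ω → ∃ ψ, ω = lam ψ) := by
  classical
  haveI := hS.fitting_comm
  letI : CommGroup ↥(fittingOf S) :=
    { (inferInstance : Group ↥(fittingOf S)) with mul_comm := hS.fitting_comm.is_comm.comm }
  let c : W₁ → (↥(fittingOf S) →* ↥(fittingOf S)) := fun w =>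
    cjH (fittingOf S) w (hD.S_le hS (hS.W₁_le_S w.2))
  let N : ↥(fittingOf S) →* ↥(fittingOf S) := ∏ w : W₁, c w
  have hN : ∀ x, N x = ∏ w : W₁, c w x := fun x => by simp [N]
  have hcc : ∀ (a w : W₁) (x), c a (c w x) = c (a * w) x := fun a w x =>
    Subtype.ext (by simp [c, mul_assoc])
  have hfix : ∀ (a : W₁) (x), c a (N x) = N x := by
    intro a x
    rw [hN, map_prod]
    exact Fintype.prod_equiv (Equiv.mulLeft a) _ _ fun w => hcc a w x
  obtain ⟨e, he, he1⟩ := (Subgroup.bot_or_exists_ne_one W₁).resolve_left hS.data.W₁_ne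
  have hNW : ∀ x, (N x : G) ∈ W₂ := by
    intro x
    rw [← hS.data.W₂_centralizer e he he1]
    refine ⟨hS.data.fitting_le (N x).2, mem_centralizer_singleton_iff.mpr ?_⟩
    have h := congrArg Subtype.val (hfix ⟨e, he⟩ x)
    simp only [c, coe_cjH] at h
    conv_lhs => rw [← h]
    simp
  have hcb : ∀ (b : W₂) (w : W₁), c w ⟨b, hD.W₂_le hS b.2⟩ = ⟨b, hD.W₂_le hS b.2⟩ := by
    intro b w
    refine Subtype.ext ?_
    show (w : G) * b * (w : G)⁻¹ = b
    rw [hS.data.selfNormalizing.2.2.2.1 w w.2 b b.2, mul_inv_cancel_right]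
  have hNb : ∀ b : W₂, N ⟨b, hD.W₂_le hS b.2⟩ = ⟨b, hD.W₂_le hS b.2⟩ ^ q := by
    intro b
    simp only [hN, hcb, Finset.prod_const, Finset.card_univ, ← Nat.card_eq_fintype_card, hS.card_W₁]
  obtain ⟨k, hk⟩ : ∃ k, q * k % p = 1 := by
    obtain ⟨k, -, hk⟩ := Nat.exists_mul_mod_eq_one_of_coprime
      ((Nat.coprime_primes hS.hq hS.hp).2 hS.ne.symm) hS.hp.one_lt
    exact ⟨k, hk⟩
  let N' : ↥(fittingOf S) →* ↥W₂ :=
    { toFun := fun x => ⟨N x, hNW x⟩
      map_one' := Subtype.ext (by simp)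
      map_mul' := fun x y => Subtype.ext (by simp) }
  refine ⟨fun ψ => ψ.comp N' ^ k, fun ψ b => ?_, ?_, fun ψ w hw => ?_, fun ω w hw hw1 hfx => ?_⟩
  · show ψ (N' _) ^ k = ψ b
    have h1 : N' ⟨b, hD.W₂_le hS b.2⟩ = b ^ q := Subtype.ext (by simp [N', hNb])
    rw [h1, map_pow, ← pow_mul]
    have h2 : ψ b ^ p = 1 := by
      rw [← map_pow, ← hS.card_W₂, pow_card_eq_one', map_one]
    rw [pow_eq_pow_mod _ h2, hk, pow_one]
  · exact MonoidHom.ext fun x => by simp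
  · refine MonoidHom.ext fun x => ?_
    show ψ (N' (c ⟨w, hw⟩ x)) ^ k = ψ (N' x) ^ k
    have hcom : N (c ⟨w, hw⟩ x) = N x := by
      rw [hN, hN]
      refine Fintype.prod_equiv (Equiv.mulRight ⟨w, hw⟩) _ _ fun v => ?_
      rw [Equiv.coe_mulRight]
      exact hcc v ⟨w, hw⟩ x
    rw [show N' (c ⟨w, hw⟩ x) = N' x from
      Subtype.ext (show (N (c ⟨w, hw⟩ x) : G) = N x from congrArg Subtype.val hcom)]
  · refine ⟨ω.comp (Subgroup.inclusion (hD.W₂_le hS)), MonoidHom.ext fun x => ?_⟩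
    have hall : ∀ (v : W₁) y, ω (c v y) = ω y := by
      intro v
      obtain ⟨i, hi⟩ := hS.mem_W₁_zpow hw hw1 v.2
      have : ∀ (j : ℕ) (hj : w ^ j ∈ W₁) y, ω (c ⟨w ^ j, hj⟩ y) = ω y := by
        intro j
        induction j with
        | zero => exact fun _ y => congrArg ω (Subtype.ext (by simp [c]))
        | succ j ih =>
          intro hj y
          have e1 : (⟨w ^ (j + 1), hj⟩ : W₁) = ⟨w, hw⟩ * ⟨w ^ j, pow_mem hw j⟩ :=
            Subtype.ext (pow_succ' w j)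
          rw [e1, ← hcc]
          exact (DFunLike.congr_fun hfx _).trans (ih (pow_mem hw j) y)
      intro y
      have e2 : v = ⟨w ^ i, hi ▸ v.2⟩ := Subtype.ext hi.symm
      rw [e2]
      exact this i _ y
    have h1 : ∀ y, ω (N y) = ω y ^ q := by
      intro y
      rw [hN, map_prod]
      simp only [hall, Finset.prod_const, Finset.card_univ, ← Nat.card_eq_fintype_card, hS.card_W₁]
    have h2 : ω (N x) ^ p = 1 := by
      rw [← map_pow]
      convert map_one ω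
      refine Subtype.ext ?_
      show ((N x : fittingOf S) : G) ^ p = 1
      rw [← hS.card_W₂]
      exact congrArg Subtype.val (pow_card_eq_one' (x := (⟨N x, hNW x⟩ : W₂)))
    show ω x = ω (N x) ^ k
    -- both sides have the same `q`-th power and order prime to `q`
    obtain ⟨y, rfl⟩ : ∃ y, y ^ q = x := (powCoprime (n := q) (G := ↥(fittingOf S))
      (hD.coprime_q hS).symm).surjective x
    have h3 : ω (N y) ^ p = 1 := by
      rw [← map_pow]
      convert map_one ω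
      refine Subtype.ext ?_
      show ((N y : fittingOf S) : G) ^ p = 1
      rw [← hS.card_W₂]
      exact congrArg Subtype.val (pow_card_eq_one' (x := (⟨N y, hNW y⟩ : W₂)))
    rw [map_pow, ← h1, map_pow, map_pow, ← pow_mul, pow_eq_pow_mod _ h3, hk, pow_one]

variable {lam : (↥W₂ →* ℂˣ) → (↥(fittingOf S) →* ℂˣ)}
  (hlam : ∀ ψ (b : W₂), lam ψ ⟨b, hD.W₂_le hS b.2⟩ = ψ b)
  (hfix : ∀ ψ (w : G) (hw : w ∈ W₁), hD.act hS (hS.W₁_le_S hw) (lam ψ) = lam ψ)
include hlam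

theorem Dich.lam_injective : Function.Injective lam := fun a b e =>
  MonoidHom.ext fun x => by rw [← hlam a x, e, hlam b x]

theorem Dich.lam_onCore {ψ : ↥W₂ →* ℂˣ} (hψ : ψ ≠ 1) : OnCore S (lam ψ) := by
  obtain ⟨b, hb⟩ : ∃ b, ψ b ≠ 1 := by
    by_contra h
    push Not at h
    exact hψ (MonoidHom.ext h)
  exact ⟨⟨b, hD.W₂_le hS b.2⟩, (hS.data.W₂_le b.2).1, by rwa [hlam]⟩

include hfix

/-- The characters `lam ψ`, `ψ ≠ 1`, are fixed on the core only by `C`. -/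
theorem Dich.lam_good {ψ : ↥W₂ →* ℂˣ} (hψ : ψ ≠ 1) : Good S U (lam ψ) := by
  refine ⟨hD.lam_onCore hS hlam hψ, fun u hu h => ⟨hu, ?_⟩⟩
  have hUP : ∀ v ∈ U, ∀ z ∈ fittingHallOf S, v * z * v⁻¹ ∈ fittingHallOf S := fun v hv z hz =>
    (mem_normalizer_iff.mp (BGSummary.le_normalizer_fittingHallOf S (hS.U_le_S hv)) z).mp hz
  have hWP : ∀ v ∈ W₁, ∀ z ∈ fittingHallOf S, v * z * v⁻¹ ∈ fittingHallOf S := fun v hv z hz =>
    (mem_normalizer_iff.mp (BGSummary.le_normalizer_fittingHallOf S (hS.W₁_le_S hv)) z).mp hz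
  let cu : ∀ v ∈ U, ↥(fittingOf S) →* ℂˣ := fun v hv => hD.act hS (hS.U_le_S hv) (lam ψ)
  let M : Subgroup G :=
    { carrier := {z | ∃ hz : z ∈ fittingHallOf S, ∀ v (hv : v ∈ U), cu v hv ⟨z, hD.core_le hS hz⟩ = 1}
      one_mem' := ⟨one_mem _, fun v hv => (congrArg (cu v hv) (Subtype.ext rfl)).trans (map_one _)⟩
      mul_mem' := by
        rintro a b ⟨ha, ha'⟩ ⟨hb, hb'⟩
        refine ⟨mul_mem ha hb, fun v hv => ?_⟩
        show cu v hv (⟨a, hD.core_le hS ha⟩ * ⟨b, hD.core_le hS hb⟩) = 1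
        rw [map_mul, ha' v hv, hb' v hv, one_mul]
      inv_mem' := by
        rintro a ⟨ha, ha'⟩
        refine ⟨inv_mem ha, fun v hv => ?_⟩
        show cu v hv (⟨a, hD.core_le hS ha⟩)⁻¹ = 1
        rw [map_inv, ha' v hv, inv_one] }
  have hM : M = ⊥ := by
    refine hS.inv_eq_bot (fun z hz => hz.1) ?_ ?_ (le_bot_iff.mp ?_)
    · rintro v hv z ⟨hz, hz'⟩
      refine ⟨hUP v hv z hz, fun t ht => ?_⟩
      rw [← hz' (t * v) (mul_mem ht hv)]
      exact congrArg (lam ψ) (Subtype.ext (by simp [mul_assoc]))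
    · rintro v hv z ⟨hz, hz'⟩
      refine ⟨hWP v hv z hz, fun t ht => ?_⟩
      have ht' : v⁻¹ * t * v ∈ U := by
        simpa using (mem_normalizer_iff.mp (inv_mem (hS.data.U_normal hv)) t).mp ht
      have h1 := hz' _ ht'
      simp only [cu] at h1 ⊢
      rw [← h1]
      conv_rhs => rw [← hfix ψ v hv]
      exact congrArg (lam ψ) (Subtype.ext (by simp [mul_assoc]))
    · rintro z ⟨⟨hz, hz'⟩, hzW⟩
      by_contra hz1
      refine hψ (MonoidHom.ext fun b => ?_)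
      haveI : Fact p.Prime := ⟨hS.hp⟩
      obtain ⟨i, rfl⟩ := (mem_powers_of_prime_card hS.card_W₂ (g := (⟨z, hzW⟩ : W₂)) (g' := b)
        fun e => hz1 (mem_bot.2 (congrArg Subtype.val e)))
      have h1 : ψ ⟨z, hzW⟩ = 1 := by
        rw [← hlam ψ ⟨z, hzW⟩, ← hz' 1 (one_mem _)]
        exact congrArg (lam ψ) (Subtype.ext (by simp))
      rw [map_pow, h1, one_pow, MonoidHom.one_apply]
  refine mem_centralizer_iff.mpr fun x hx => ?_
  have hxy : u * x * u⁻¹ * x⁻¹ ∈ M := by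
    refine ⟨mul_mem (hUP u hu x hx) (inv_mem hx), fun v hv => ?_⟩
    haveI := hS.U_comm
    have hvu : v * u = u * v := congrArg Subtype.val (hS.U_comm.is_comm.comm (⟨v, hv⟩ : U) ⟨u, hu⟩)
    have h1 := h ⟨v * x * v⁻¹, hD.core_le hS (hUP v hv x hx)⟩
      ⟨u * (v * x * v⁻¹) * u⁻¹, hD.core_le hS (hUP u hu _ (hUP v hv x hx))⟩ (hUP v hv x hx) rfl
    show lam ψ _ = 1
    rw [show cjH (fittingOf S) v _ ⟨u * x * u⁻¹ * x⁻¹, _⟩ =
      (⟨u * (v * x * v⁻¹) * u⁻¹, hD.core_le hS (hUP u hu _ (hUP v hv x hx))⟩ : fittingOf S) *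
        (⟨v * x * v⁻¹, hD.core_le hS (hUP v hv x hx)⟩ : fittingOf S)⁻¹ from Subtype.ext (by
          show v * (u * x * u⁻¹ * x⁻¹) * v⁻¹ = u * (v * x * v⁻¹) * u⁻¹ * (v * x * v⁻¹)⁻¹
          have : v * (u * x * u⁻¹ * x⁻¹) * v⁻¹ = (v * u) * x * (v * u)⁻¹ * (v * x * v⁻¹)⁻¹ := by
            group
          rw [this, hvu]
          group), map_mul, map_inv, h1, mul_inv_cancel]
  rw [hM, mem_bot, mul_inv_eq_one, mul_inv_eq_iff_eq_mul] at hxy
  exact hxy.symm

omit hlam hfix in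
theorem Dich.good_act {ω : ↥(fittingOf S) →* ℂˣ} (hω : Good S U ω) {v : G} (hv : v ∈ U) :
    Good S U (hD.act hS (hS.U_le_S hv) ω) := by
  have hP := BGSummary.le_normalizer_fittingHallOf S (hS.U_le_S hv)
  refine ⟨?_, fun u hu h => hω.2 u hu fun x y hx hy => ?_⟩
  · obtain ⟨x, hx, hx1⟩ := hω.1
    refine ⟨⟨v⁻¹ * x * v, hD.core_le hS ?_⟩, ?_, ?_⟩
    · simpa using (mem_normalizer_iff.mp (inv_mem hP) x).mp hx
    · simpa using (mem_normalizer_iff.mp (inv_mem hP) x).mp hx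
    · rwa [hD.act_eq hS _ _ _ x (by simp [mul_assoc])]
  · have hx' : v⁻¹ * x * v ∈ fittingHallOf S := by
      simpa using (mem_normalizer_iff.mp (inv_mem hP) x).mp hx
    have hy' : u * (v⁻¹ * x * v) * u⁻¹ ∈ fittingHallOf S :=
      (mem_normalizer_iff.mp (BGSummary.le_normalizer_fittingHallOf S (hS.U_le_S hu)) _).mp hx'
    have h1 := h ⟨_, hD.core_le hS hx'⟩ ⟨_, hD.core_le hS hy'⟩ hx' rfl
    have hvu : v * u = u * v := congrArg Subtype.val (hS.U_comm.is_comm.comm (⟨v, hv⟩ : U) ⟨u, hu⟩)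
    rwa [hD.act_eq hS _ ω _ y, hD.act_eq hS _ ω _ x] at h1
    · simp [mul_assoc]
    · show (y : G) = v * (u * (v⁻¹ * x * v) * u⁻¹) * v⁻¹
      have : v * (u * (v⁻¹ * x * v) * u⁻¹) * v⁻¹ = (v * u) * v⁻¹ * x * v * (v * u)⁻¹ := by group
      rw [this, hvu, hy]
      group

/-- An element of `U` carrying one fixed character to another lies in `C`. -/
theorem Dich.lam_orbit {ψ ψ' : ↥W₂ →* ℂˣ} (hψ : ψ ≠ 1) {u : G} (hu : u ∈ U)
    (h : hD.act hS (hS.U_le_S hu) (lam ψ) = lam ψ') : u ∈ cU S U ∧ ψ = ψ' := by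
  classical
  haveI := hS.U_comm
  have hgood := hD.lam_good hS hlam hfix hψ
  obtain ⟨w, hw, hw1⟩ := (Subgroup.bot_or_exists_ne_one W₁).resolve_left hS.data.W₁_ne
  have hwU : ∀ v ∈ U, w * v * w⁻¹ ∈ U := fun v hv =>
    (mem_normalizer_iff.mp (hS.data.U_normal hw) v).mp hv
  have hy : w * u * w⁻¹ * u⁻¹ ∈ U := mul_mem (hwU u hu) (inv_mem hu)
  have hact : hD.act hS (hS.U_le_S hy) (lam ψ) = lam ψ := by
    have hwS := hS.W₁_le_S hw
    have huS := hS.U_le_S hu
    rw [← hD.act_congr hS (mul_mem (mul_mem (mul_mem hwS huS) (inv_mem hwS)) (inv_mem huS))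
      (hS.U_le_S hy) rfl, ← hD.act_act hS (mul_mem (mul_mem hwS huS) (inv_mem hwS)) (inv_mem huS),
      ← hD.act_act hS (mul_mem hwS huS) (inv_mem hwS), ← hD.act_act hS hwS huS, hfix ψ w hw, h,
      ← hD.act_congr hS (hS.W₁_le_S (inv_mem hw)) (inv_mem hwS) rfl, hfix ψ' w⁻¹ (inv_mem hw), ← h,
      hD.act_inv_act hS huS]
  have hyC : w * u * w⁻¹ * u⁻¹ ∈ cU S U := hgood.2 _ hy fun x z hx hz => by
    rw [← hD.act_eq hS (hS.U_le_S hy) _ x z hz, hact]
  have hwC : ∀ v ∈ cU S U, w * v * w⁻¹ ∈ cU S U := fun v hv =>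
    ⟨hwU v hv.1, mem_centralizer_iff.mpr fun z hz => by
      have h1 : w⁻¹ * z * w ∈ fittingHallOf S := by
        simpa using (mem_normalizer_iff.mp
          (inv_mem (BGSummary.le_normalizer_fittingHallOf S (hS.W₁_le_S hw))) z).mp hz
      have h2 := congrArg (fun t => w * t * w⁻¹) (mem_centralizer_iff.mp hv.2 _ h1)
      simpa [mul_assoc] using h2⟩
  have cm : ∀ a ∈ U, ∀ b ∈ U, a * b = b * a := fun a ha b hb =>
    congrArg Subtype.val (hS.U_comm.is_comm.comm (⟨a, ha⟩ : U) ⟨b, hb⟩)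
  let φ : cU S U → cU S U := fun c =>
    ⟨w * c * w⁻¹ * (c : G)⁻¹, mul_mem (hwC c c.2) (inv_mem c.2)⟩
  have hφ : ∀ a b : G, a ∈ U → b ∈ U → w * a * w⁻¹ * a⁻¹ = w * b * w⁻¹ * b⁻¹ → a = b := by
    intro a b ha hb e
    refine (inv_mul_eq_one.1 (hS.fpf_U hw hw1 (mul_mem (inv_mem hb) ha) ?_)).symm
    rw [mul_inv_eq_iff_eq_mul] at e
    rw [← mul_inv_eq_iff_eq_mul]
    calc w * (b⁻¹ * a) * w⁻¹ = (w * b * w⁻¹)⁻¹ * (w * a * w⁻¹) := by group
      _ = (w * b * w⁻¹)⁻¹ * (w * b * w⁻¹ * b⁻¹ * a) := by rw [e]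
      _ = b⁻¹ * a := by group
  obtain ⟨c, hc⟩ := Finite.surjective_of_injective (f := φ)
    (fun a b e => Subtype.ext (hφ a b a.2.1 b.2.1 (congrArg Subtype.val e))) ⟨_, hyC⟩
  have huC : u ∈ cU S U := by
    rw [hφ u c hu c.2.1 (congrArg Subtype.val hc).symm]
    exact c.2
  refine ⟨huC, hD.lam_injective hS hlam ?_⟩
  rw [← h, hD.act_id hS _ (hD.cU_le hS huC)]

omit hlam hfix in
/-- `S = F(S) U W₁`. -/
theorem Dich.exists_decomp {g : G} (hg : g ∈ S) :
    ∃ a ∈ fittingOf S, ∃ u ∈ U, ∃ w ∈ W₁, g = a * u * w := by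
  obtain ⟨d, hd, w, hw, rfl⟩ := hS.data.W₁_compl.2.2.2 g hg
  obtain ⟨a, ha, u, hu, rfl⟩ := hS.data.U_compl.2.2.2 d hd
  exact ⟨a, hD.core_le hS ha, u, hu, w, hw, rfl⟩

open Classical in
/-- The stabiliser of a fixed character has at most `q |F(S)|` elements. -/
theorem Dich.card_stab_lam {ψ : ↥W₂ →* ℂˣ} (hψ : ψ ≠ 1)
    [Fintype (normalizer (fittingOf S : Set G))] :
    (Finset.univ.filter fun g : normalizer (fittingOf S : Set G) =>
      actCh _ g (lam ψ) = lam ψ).card ≤ Nat.card (fittingOf S) * q := by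
  rw [← hS.card_W₁, Nat.card_eq_fintype_card, Nat.card_eq_fintype_card, ← Fintype.card_prod,
    ← Finset.card_univ]
  refine Finset.card_le_card_of_surjOn (fun aw =>
    (⟨(aw.1 : G) * aw.2, hD.S_le hS (mul_mem (hS.fitting_normalizer.le (le_normalizer aw.1.2))
      (hS.W₁_le_S aw.2.2))⟩ : normalizer (fittingOf S : Set G))) ?_
  intro g hg
  simp only [Finset.coe_filter, Finset.mem_univ, true_and, Set.mem_setOf_eq] at hg
  have hgS : (g : G) ∈ S := hS.fitting_normalizer.le g.2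
  obtain ⟨a, ha, u, hu, w, hw, e⟩ := hD.exists_decomp hS hgS
  have haS : a ∈ S := hS.fitting_normalizer.le (le_normalizer ha)
  have huS := hS.U_le_S hu
  have h1 : hD.act hS (mul_mem (mul_mem haS huS) (hS.W₁_le_S hw)) (lam ψ) = lam ψ := by
    rw [← hD.act_congr hS hgS _ e]; exact hg
  rw [← hD.act_act hS (mul_mem haS huS) (hS.W₁_le_S hw), ← hD.act_act hS haS huS,
    hD.act_id hS haS ha] at h1
  have h2 := hD.act_inj hS (hS.W₁_le_S hw) (h1.trans (hfix ψ w hw).symm)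
  have huC := (hD.lam_orbit hS hlam hfix hψ hu h2).1
  exact ⟨(⟨a * u, mul_mem ha (hD.cU_le hS huC)⟩, ⟨w, hw⟩), Finset.mem_coe.2 (Finset.mem_univ _),
    Subtype.ext e.symm⟩

omit hlam hfix in
open Classical in
/-- A good character outside the orbits of the fixed ones has stabiliser `F(S)`. -/
theorem Dich.card_stab_free {ω : ↥(fittingOf S) →* ℂˣ} (hω : Good S U ω)
    (hclass : ∀ ω (w : G) (hw : w ∈ W₁), w ≠ 1 → hD.act hS (hS.W₁_le_S hw) ω = ω → ∃ ψ, ω = lam ψ)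
    (hone : lam 1 = 1)
    (hfree : ∀ ψ : ↥W₂ →* ℂˣ, ψ ≠ 1 → ∀ v (hv : v ∈ U), hD.act hS (hS.U_le_S hv) (lam ψ) ≠ ω)
    [Fintype (normalizer (fittingOf S : Set G))] :
    (Finset.univ.filter fun g : normalizer (fittingOf S : Set G) => actCh _ g ω = ω).card ≤
      Nat.card (fittingOf S) := by
  haveI := hS.U_comm
  rw [Nat.card_eq_fintype_card, ← Finset.card_univ]
  refine Finset.card_le_card_of_surjOn (fun a : fittingOf S =>
    (⟨a, le_normalizer a.2⟩ : normalizer (fittingOf S : Set G))) ?_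
  intro g hg
  simp only [Finset.coe_filter, Finset.mem_univ, true_and, Set.mem_setOf_eq] at hg
  have hgS : (g : G) ∈ S := hS.fitting_normalizer.le g.2
  obtain ⟨a, ha, u, hu, w, hw, e⟩ := hD.exists_decomp hS hgS
  have haS : a ∈ S := hS.fitting_normalizer.le (le_normalizer ha)
  have huS := hS.U_le_S hu
  have hwS := hS.W₁_le_S hw
  have h1 : hD.act hS hwS (hD.act hS huS ω) = ω := by
    have h2 : hD.act hS (mul_mem (mul_mem haS huS) hwS) ω = ω := by
      rw [← hD.act_congr hS hgS _ e]; exact hg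
    rwa [← hD.act_act hS (mul_mem haS huS) hwS, ← hD.act_act hS haS huS, hD.act_id hS haS ha] at h2
  by_cases hw1 : w = 1
  · subst hw1
    rw [hD.act_id hS hwS (one_mem _)] at h1
    have huC : u ∈ cU S U := hω.2 u hu fun x y _ hy => by
      rw [← hD.act_eq hS huS ω x y hy, h1]
    exact ⟨⟨a * u, mul_mem ha (hD.cU_le hS huC)⟩, Finset.mem_coe.2 (Finset.mem_univ _),
      Subtype.ext (by simpa using e.symm)⟩
  exfalso
  have hwU : ∀ v ∈ U, w * v⁻¹ * w⁻¹ ∈ U := fun v hv =>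
    (mem_normalizer_iff.mp (hS.data.U_normal hw) _).mp (inv_mem hv)
  let φ : U → U := fun v => ⟨(v : G) * (w * (v : G)⁻¹ * w⁻¹), mul_mem v.2 (hwU v v.2)⟩
  have hφ : Function.Injective φ := by
    intro c d e'
    have e2 : (c : G) * (w * (c : G)⁻¹ * w⁻¹) = d * (w * (d : G)⁻¹ * w⁻¹) :=
      congrArg Subtype.val e'
    refine Subtype.ext (inv_mul_eq_one.1 (hS.fpf_U hw hw1 (mul_mem (inv_mem d.2) c.2) ?_)).symm
    calc w * ((d : G)⁻¹ * c) = (d : G)⁻¹ * (d * (w * (d : G)⁻¹ * w⁻¹)) * (w * c) := by group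
      _ = (d : G)⁻¹ * c * w := by rw [← e2]; group
  obtain ⟨v, hv⟩ := Finite.surjective_of_injective hφ ⟨u, hu⟩
  have hv' : (v : G) * (w * (v : G)⁻¹ * w⁻¹) = u := congrArg Subtype.val hv
  have hvS := hS.U_le_S v.2
  have h3 : hD.act hS hwS (hD.act hS hvS ω) = hD.act hS hvS ω := by
    refine hD.act_inj hS (inv_mem hvS) ?_
    rw [hD.act_inv_act hS]
    conv_rhs => rw [← h1]
    rw [hD.act_act hS, hD.act_act hS, hD.act_act hS]
    exact hD.act_congr hS _ _ (by rw [← hv']; group) ω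
  obtain ⟨ψ, hψ⟩ := hclass _ w hw hw1 h3
  have hinv := hD.act_inv_act hS hvS ω
  rw [hψ] at hinv
  by_cases hψ1 : ψ = 1
  · obtain ⟨x, hx, hx1⟩ := hω.1
    subst hψ1
    rw [hone] at hinv
    exact hx1 (by rw [← hinv]; rfl)
  · exact hfree ψ hψ1 _ (inv_mem v.2) hinv

omit hlam in
open Classical in
/-- The orbit of a fixed character under `U` has `n` elements. -/
theorem Dich.card_orbit (hlam : ∀ ψ (b : W₂), lam ψ ⟨b, hD.W₂_le hS b.2⟩ = ψ b)
    {ψ : ↥W₂ →* ℂˣ} (hψ : ψ ≠ 1) [Fintype U] :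
    ((Finset.univ : Finset U).image fun v => hD.act hS (hS.U_le_S v.2) (lam ψ)).card = nU S U := by
  set C := (cU S U).subgroupOf U
  set f : U → (↥(fittingOf S) →* ℂˣ) := fun v => hD.act hS (hS.U_le_S v.2) (lam ψ) with hf
  have key : ∀ a b : U, f a = f b ↔ a⁻¹ * b ∈ C := by
    intro a b
    have hba : hD.act hS (hS.U_le_S (mul_mem b.2 (inv_mem a.2))) (lam ψ) =
        hD.act hS (inv_mem (hS.U_le_S a.2)) (f b) := by
      rw [hf, hD.act_act hS]
    have hcomm : (a : G)⁻¹ * b = (b : G) * (a : G)⁻¹ := by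
      haveI := hS.U_comm
      exact congrArg Subtype.val (hS.U_comm.is_comm.comm a⁻¹ b)
    rw [mem_subgroupOf, coe_mul, coe_inv, hcomm]
    constructor
    · intro h
      refine (hD.lam_orbit hS hlam hfix hψ (mul_mem b.2 (inv_mem a.2)) (ψ' := ψ) ?_).1
      rw [hba, ← h, hD.act_inv_act hS]
    · intro h
      have h1 := hD.act_id hS (hS.U_le_S (mul_mem b.2 (inv_mem a.2))) (hD.cU_le hS h) (lam ψ)
      rw [hba] at h1
      refine hD.act_inj hS (inv_mem (hS.U_le_S a.2)) ?_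
      rw [h1, hD.act_inv_act hS]
  let F : U ⧸ C → (↥(fittingOf S) →* ℂˣ) :=
    Quotient.lift f fun a b h => (key a b).2 (QuotientGroup.leftRel_apply.1 h)
  have hF : Function.Injective F := fun a b h => by
    induction a using QuotientGroup.induction_on with | H a => ?_
    induction b using QuotientGroup.induction_on with | H b => ?_
    exact QuotientGroup.eq.2 ((key a b).1 h)
  haveI := Fintype.ofFinite (U ⧸ C)
  have himg : (Finset.univ : Finset U).image f = (Finset.univ : Finset (U ⧸ C)).image F := by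
    ext z
    simp only [Finset.mem_image, Finset.mem_univ, true_and]
    exact ⟨fun ⟨a, ha⟩ => ⟨(a : U ⧸ C), ha⟩, fun ⟨a, ha⟩ => by
      induction a using QuotientGroup.induction_on with | H a => exact ⟨a, ha⟩⟩
  rw [himg, Finset.card_image_of_injective _ hF, Finset.card_univ, ← Nat.card_eq_fintype_card]
  rfl

end Cfsg.Agent.PF13.Reg
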