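import Cfsg.Agent.PF13.Reg.Step2
import Cfsg.Agent.PF13.Reg.Defs

/-!
# Peterfalvi (13.10)–(13.12): the `Side`s and the family `η` of a pair
-/

set_option autoImplicit false
set_option linter.unusedSectionVars false

namespace Cfsg.Agent.PF13.Reg

open Cfsg Subgroup

universe u

variable {G : Type u} [Group G] [Fintype G] (hG : IsMinSimpleOddOrder G) (h34 : Shape34 G)
  (hV : NoV G)
include hG h34 hV

omit h34 hV [Fintype G] in
/-- `F(S) = S_F C` for type P data. -/
theorem fittingOf_eq_sup {S W₁ U W₂ : Subgroup G} (hP : IsTypePWith S W₁ U W₂)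
    (hab : IsMulCommutative (fittingHallOf S)) :
    fittingOf S = fittingHallOf S ⊔ cU S U := by
  have hUS : U ≤ S := hP.U_compl.2.1.trans hP.W₁_compl.1
  refine le_antisymm ?_ ?_
  · rw [← hP.fitting_eq]
    refine sup_le le_sup_left fun x hx => ?_
    have hxd : x ∈ ⁅S, S⁆ := hP.fitting_le (hP.fitting_eq.le (mem_sup_right hx))
    obtain ⟨f, hf, v, hv, rfl⟩ := hP.U_compl.2.2.2 x hxd
    refine mul_mem_sup hf ⟨hv, ?_⟩
    have hfc : f ∈ centralizer (fittingHallOf S : Set G) := mem_centralizer_iff.mpr fun y hy => by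
      haveI := hab
      exact congrArg (fun t : fittingHallOf S => (t : G))
        (mul_comm' (⟨y, hy⟩ : fittingHallOf S) ⟨f, hf⟩)
    simpa using mul_mem (inv_mem hfc) hx.2
  · rw [← hP.fitting_eq]
    exact sup_le le_sup_left fun x hx => mem_sup_right ⟨hUS hx.1, hx.2⟩

omit hG h34 hV [Fintype G] in
theorem isMulCommutative_sup {A B : Subgroup G} (hA : IsMulCommutative A) (hB : IsMulCommutative B)
    (hAB : B ≤ centralizer (A : Set G)) : IsMulCommutative ↥(A ⊔ B) := by
  have h : ∀ C : Subgroup G, A ≤ centralizer (C : Set G) → B ≤ centralizer (C : Set G) →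
      A ⊔ B ≤ centralizer (C : Set G) := fun _ h1 h2 => sup_le h1 h2
  have self : ∀ C : Subgroup G, IsMulCommutative C → C ≤ centralizer (C : Set G) := fun C hC x hx =>
    mem_centralizer_iff.mpr fun y hy => by
      haveI := hC
      exact congrArg (fun t : C => (t : G)) (mul_comm' (⟨y, hy⟩ : C) ⟨x, hx⟩)
  have hBA : A ≤ centralizer (B : Set G) := Subgroup.le_centralizer_iff.mp hAB
  have hle : A ⊔ B ≤ centralizer ((A ⊔ B : Subgroup G) : Set G) := by
    refine Subgroup.le_centralizer_iff.mp (sup_le ?_ ?_)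
    · exact Subgroup.le_centralizer_iff.mp (h A (self A hA) hAB)
    · exact Subgroup.le_centralizer_iff.mp (h B hBA (self B hB))
  exact ⟨⟨fun a b => Subtype.ext (mem_centralizer_iff.mp (hle b.2) a a.2)⟩⟩

omit hV in
/-- In Type III `C_U(S_F) = 1`. -/
theorem cU_eq_bot_of_typeIII {S W₁ U W₂ : Subgroup G} (hS : IsCoatom S)
    (hP : IsTypePWith S W₁ U W₂) (hIII : IsOfTypeIII S) : cU S U = ⊥ := by
  obtain ⟨w, hw, hw1⟩ :=
    (Subgroup.bot_or_exists_ne_one W₂).resolve_left hP.selfNormalizing.2.1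
  refine le_bot_iff.mp fun v hv => Subgroup.mem_bot.mpr (by_contra fun hv1 => hw1 ?_)
  have hwF : w ∈ fittingHallOf S := (hP.W₂_le.trans inf_le_left) hw
  exact (h34 S W₁ U W₂ hS hP (Or.inl hIII)).2.2.2.2.1 v hv.1 hv1 w hwF
    (mem_centralizer_iff.mp hv.2 w hwF).symm

/-- The facts used about one member of a pair. -/
theorem side_of_pair {S T W₁ W₂ U V : Subgroup G} (d : FT.Pair S T W₁ W₂ U V) :
    Side S W₁ U W₂ (Nat.card W₂) (Nat.card W₁) := by
  obtain ⟨hcases, -, hel, hcard, hTI, hN⟩ := member_stmt hG h34 hV d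
  obtain ⟨hTcases, -⟩ := member_stmt hG h34 hV d.symm
  have hS := d.coatomS
  have hP := d.typeS
  have hp := PF8.prime_W₁ hG d.coatomT d.typeT (hTcases.imp id Or.inl)
  have hq := PF8.prime_W₁ hG hS hP (hcases.imp id Or.inl)
  have hne : Nat.card W₂ ≠ Nat.card W₁ :=
    (PF14.card_ne_of_selfNormalizing hP.selfNormalizing).symm
  have hU : U ≠ ⊥ ∧ IsMulCommutative U ∧ fittingHallOf S ⊓ centralizer (U : Set G) = ⊥ := by
    rcases hcases with h2 | h3
    · exact ⟨(typeII_complement hG hS hP h2).1, (typeII_complement hG hS hP h2).2.1,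
        (inf_centralizer_eq_bot hG hS hP h2).2⟩
    · obtain ⟨hcyc, -, -, -, hreg, -⟩ := h34 S W₁ U W₂ hS hP (Or.inl h3)
      haveI : Fintype S := Fintype.ofFinite _
      have hU1 : U ≠ ⊥ := fun h0 => (system_of_34 hG hS hP (Or.inl h3)).1 (by
        rw [h0, Subgroup.bot_subgroupOf])
      haveI := hcyc
      refine ⟨hU1, inferInstance, le_bot_iff.mp fun x hx => ?_⟩
      obtain ⟨v, hv, hv1⟩ := (Subgroup.bot_or_exists_ne_one U).resolve_left hU1
      exact Subgroup.mem_bot.mpr (hreg v hv hv1 x hx.1 (mem_centralizer_iff.mp hx.2 v hv))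
  obtain ⟨hU1, hUc, hfix⟩ := hU
  have hFit := fittingOf_eq_sup hG hP hel.1
  have hFne : fittingOf S ≠ ⊥ := fun h0 => hP.selfNormalizing.2.1 (le_bot_iff.mp
    ((hP.W₂_le.trans inf_le_left).trans
      ((le_sup_left.trans hFit.ge).trans h0.le)))
  refine ⟨hG, hS, hP, hq, hp, hne, rfl, rfl, hel, hcard, hUc, hU1, hfix, ?_, ?_,
    BGSigma.normalizer_eq_coatom hG hS (BGUniq.fittingOf_le S) hFne
      (BGUniq.le_normalizer_fittingOf S)⟩
  · rw [hFit]
    refine isMulCommutative_sup hel.1 ⟨⟨fun a b => Subtype.ext ?_⟩⟩ inf_le_right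
    haveI := hUc
    exact congrArg (fun t : U => (t : G)) (mul_comm' (⟨a, a.2.1⟩ : U) ⟨b, b.2.1⟩)
  · rcases hcases with h2 | h3
    · exact (PF8.typeII_of_typePWith hG hS hP h2).2
    · rw [hFit, cU_eq_bot_of_typeIII hG h34 hS hP h3, sup_bot_eq]
      have hA : ∀ x ∈ fittingHallOf S, x ≠ 1 → x ∈ typeA0 S := by
        intro x hx hx1
        refine Or.inl ?_
        have hxd : x ∈ ⁅S, S⁆ := hP.U_compl.1 hx
        rw [typeA, if_neg (PF8.not_typeI hG hS hP)]
        refine ⟨hxd, hx1, x, ?_, hx1, rfl⟩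
        rw [typeCore]
        split_ifs
        · exact hxd
        · exact hx
      have hF1 : fittingHallOf S ≠ ⊥ := fun h0 => hP.selfNormalizing.2.1
        (le_bot_iff.mp ((hP.W₂_le.trans inf_le_left).trans h0.le))
      have hcoreN := BGSigma.normalizer_eq_coatom hG hS (BGUniq.fittingHallOf_le S) hF1
        (BGSummary.le_normalizer_fittingHallOf S)
      intro g hg x hx hgx
      by_contra hx1
      refine hx1 (hTI g (fun hgN => hg (hcoreN.ge (hN.le hgN))) x (hA x hx hx1) (hA _ hgx ?_))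
      exact fun h0 => hx1 (conj_eq_one_iff.mp h0)

omit h34 hV in
/-- The family `η` of a pair. -/
theorem exists_eta {S T W₁ W₂ U V : Subgroup G} (d : FT.Pair S T W₁ W₂ U V)
    (hq : (Nat.card W₁).Prime) (hp : (Nat.card W₂).Prime) : ∃ η, PF14.EtaArr W₁ W₂ η :=
  PF14.exists_etaArr W₁ W₂ d.typeS.selfNormalizing (BGSigma.odd_card_subgroup hG _) hq hp

/-- `FaithII` from the statement for the Type II members of pairs. -/
theorem faithII_of_pairs
    (h : ∀ S T W₁ W₂ U V : Subgroup G, FT.Pair S T W₁ W₂ U V → IsOfTypeII S → cU S U = ⊥) :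
    FaithII G := fun S W₁ U W₂ hS hP hII => by
  obtain ⟨T, V, d⟩ := exists_pair_of hG hS hP
  exact h S T W₁ W₂ U V d hII

end Cfsg.Agent.PF13.Reg
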