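import Cfsg.Agent.PF13.Reg.Member
import Cfsg.Agent.PF13.Reg.Arith
import Cfsg.Agent.PF13.Reg.Gap
import Cfsg.Agent.PF13.Reg.Dich
import Cfsg.Agent.PF13.Reg.DichIII
import Cfsg.Agent.PF13.Reg.SideOfPair
import Cfsg.Agent.PF14.Values

/-!
# Peterfalvi (13.10)–(13.12): `C_U(S_F) = 1`
-/

set_option autoImplicit false
set_option linter.unusedVariables false
set_option linter.unusedSectionVars false

namespace Cfsg.Agent.PF13.Reg

open Cfsg OddChar OddChar.CycTI Subgroup
open Cfsg.Agent.PF14 (EtaArr mass share conjSet mass_nonneg mass_union mass_univ share_univ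
  share_conjSet)

universe u

variable {G : Type u} [Group G] [Fintype G]
variable {S W₁ U W₂ T V : Subgroup G} {p q : ℕ}

/-- The linear characters of a group of prime order. -/
theorem dual_card_prime {A : Subgroup G} (hA : (Nat.card A).Prime) [Fintype (↥A →* ℂˣ)] :
    Fintype.card (↥A →* ℂˣ) = Nat.card A := by
  haveI : Fintype A := Fintype.ofFinite _
  haveI := Fact.mk hA
  haveI : IsCyclic A := isCyclic_of_prime_card rfl
  haveI : IsMulCommutative A := IsCyclic.isMulCommutative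
  rw [PF14.card_hom fun x y => mul_comm' x y, Nat.card_eq_fintype_card]

theorem conjSet_disjoint {A B : Set G} (h : ∀ b ∈ B, ∀ g : G, g * b * g⁻¹ ∉ A) :
    Disjoint (conjSet A) (conjSet B) := by
  refine Set.disjoint_left.2 ?_
  rintro g ⟨a, ha, x, hx⟩ ⟨b, hb, y, hy⟩
  refine h b hb (x * y⁻¹) ?_
  have e : x * y⁻¹ * b * (x * y⁻¹)⁻¹ = a := by rw [← hx, ← hy]; group
  rwa [e]

/-- The number `|t|` of good characters. -/
noncomputable def numGood (S U : Subgroup G) : ℕ :=
  Nat.card {ω : ↥(fittingOf S) →* ℂˣ // Good S U ω}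

theorem numGood_eq [Fintype (↥(fittingOf S) →* ℂˣ)] [DecidablePred (Good S U)] :
    ((Finset.univ.filter (Good S U)).card) = numGood S U := by
  rw [numGood, Nat.card_eq_fintype_card, Fintype.card_subtype]

open Classical in
/-- `|t| ≥ c (p^q - 1)`, or `U/C` is reducible and at most `c q (p-1)` are missing. -/
theorem numGood_ge (h : Side S W₁ U W₂ p q) (d : Dich S W₁ U W₂ p q) :
    ((Nat.card (cU S U) : ℝ) * ((p : ℝ) ^ q - 1) ≤ numGood S U) ∨
      (4 * nU S U ≤ (p - 1) ^ 2 ∧ (Nat.card (cU S U) : ℝ) *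
        ((p : ℝ) ^ q - 1 - q * ((p : ℝ) - 1)) ≤ numGood S U) := by
  haveI : Fintype (fittingOf S) := Fintype.ofFinite _
  have hcomm := fitting_mul_comm h
  haveI := PF14.hom_finite (P := fittingOf S) hcomm
  haveI := Fintype.ofFinite (↥(fittingOf S) →* ℂˣ)
  set P' := (fittingHallOf S).subgroupOf (fittingOf S) with hP'
  haveI : Fintype P' := Fintype.ofFinite _
  set c := Nat.card (cU S U)
  set A := (Finset.univ : Finset (↥(fittingOf S) →* ℂˣ)).filter fun l => ∀ x ∈ P', l x = 1 with hA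
  set B := (Finset.univ : Finset (↥(fittingOf S) →* ℂˣ)).filter (OnCore S) with hB
  have hpq : (0 : ℝ) < (p : ℝ) ^ q := pow_pos (by exact_mod_cast h.hp.pos) q
  have hA1 : (A.card : ℝ) = c := by
    have e := card_trivial_on P' hcomm
    rw [hP', card_core_subgroupOf h, h.card_core, d.card_fitting] at e
    push_cast at e
    have e' : (A.card : ℝ) * (p : ℝ) ^ q = (c : ℝ) * (p : ℝ) ^ q := by
      rw [mul_comm (c : ℝ)]
      convert e using 4
    exact mul_right_cancel₀ hpq.ne' e'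
  have hAB : B = Finset.univ.filter fun l => ¬ ∀ x ∈ P', l x = 1 := by
    refine Finset.filter_congr fun l _ => ?_
    simp only [OnCore, hP', mem_subgroupOf]
    constructor
    · rintro ⟨x, hx, hne⟩ hall
      exact hne (hall x hx)
    · intro hn
      push Not at hn
      exact hn
  have htot : (B.card : ℝ) = (c : ℝ) * ((p : ℝ) ^ q - 1) := by
    have e := Finset.card_filter_add_card_filter_not
      (s := (Finset.univ : Finset (↥(fittingOf S) →* ℂˣ))) (fun l => ∀ x ∈ P', l x = 1)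
    rw [← hA, ← hAB, Finset.card_univ, PF14.card_hom hcomm, ← Nat.card_eq_fintype_card,
      d.card_fitting] at e
    have e' : (A.card : ℝ) + B.card = (p : ℝ) ^ q * c := by exact_mod_cast e
    rw [hA1] at e'
    linarith
  rcases d.dich with hall | ⟨h4, hbad⟩
  · left
    rw [← htot, ← numGood_eq]
    exact_mod_cast Finset.card_le_card fun ω hω =>
      Finset.mem_filter.2 ⟨Finset.mem_univ _, hall ω (Finset.mem_filter.1 hω).2⟩
  · refine Or.inr ⟨h4, ?_⟩
    have e : B.card ≤ (Finset.univ.filter (Good S U)).card + c * (q * (p - 1)) := by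
      refine le_trans ?_ (Nat.add_le_add_left hbad _)
      rw [Nat.card_eq_fintype_card, Fintype.card_subtype, ← Finset.card_union_of_disjoint]
      · refine Finset.card_le_card fun ω hω => ?_
        by_cases hg : Good S U ω
        · exact Finset.mem_union_left _ (Finset.mem_filter.2 ⟨Finset.mem_univ _, hg⟩)
        · exact Finset.mem_union_right _
            (Finset.mem_filter.2 ⟨Finset.mem_univ _, (Finset.mem_filter.1 hω).2, hg⟩)
      · exact Finset.disjoint_filter.2 fun ω _ hg hn => hn.2 hg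
    rw [numGood_eq] at e
    have e' : (B.card : ℝ) ≤ (numGood S U : ℝ) + (c : ℝ) * ((q : ℝ) * ((p : ℝ) - 1)) := by
      have := (Nat.cast_le (α := ℝ)).2 e
      push_cast [Nat.cast_sub h.hp.one_le] at this
      linarith
    rw [htot] at e'
    linarith

/-- The numerical facts about a member. -/
theorem tnum (h : Side S W₁ U W₂ p q) (d : Dich S W₁ U W₂ p q) (hp : 3 ≤ p) (hq : 3 ≤ q) :
    TNum q p (nU S U) (numGood S U : ℝ) := by
  refine ⟨?_, ?_⟩
  · have := Nat.le_of_dvd (Nat.sub_pos_of_lt d.one_lt_n) d.modEq_n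
    omega
  · have hc : (1 : ℝ) ≤ Nat.card (cU S U) := by exact_mod_cast Nat.card_pos
    have hp' : (3 : ℝ) ≤ p := by exact_mod_cast hp
    rcases numGood_ge h d with h1 | ⟨h4, h1⟩
    · have : (0 : ℝ) ≤ (p : ℝ) ^ q - 1 := sub_nonneg.2 (one_le_pow₀ (by linarith))
      exact Or.inl ⟨d.lines_le, le_trans (le_mul_of_one_le_left this hc) h1⟩
    · have h2 := bound_cube hp hq
      have : (0 : ℝ) ≤ (p : ℝ) ^ q - 1 - q * ((p : ℝ) - 1) :=
        le_trans (by positivity) h2
      exact Or.inr ⟨h4, le_trans (le_mul_of_one_le_left this hc) h1⟩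

open Classical in
/-- The main inequality. -/
theorem main_ineq (hS : Side S W₁ U W₂ p q) (dS : Dich S W₁ U W₂ p q)
    (hT : Side T W₂ V W₁ q p) (dT : Dich T W₂ V W₁ q p)
    {η : (↥W₁ →* ℂˣ) → (↥W₂ →* ℂˣ) → G → ℂ} (E : EtaArr W₁ W₂ η) :
    1 - (nU T V : ℝ) / numGood T V - 1 / nU T V ≤
      (p : ℝ) * q * nU S U / numGood S U := by
  haveI : Fintype (fittingOf S) := Fintype.ofFinite _
  haveI : Fintype (fittingOf T) := Fintype.ofFinite _
  haveI := PF14.hom_finite (P := fittingOf S) (fitting_mul_comm hS)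
  haveI := PF14.hom_finite (P := fittingOf T) (fitting_mul_comm hT)
  haveI := Fintype.ofFinite (↥(fittingOf S) →* ℂˣ)
  haveI := Fintype.ofFinite (↥(fittingOf T) →* ℂˣ)
  haveI : Finite (↥W₁ →* ℂˣ) := by
    haveI := Fact.mk E.prime₁
    haveI : IsCyclic W₁ := isCyclic_of_prime_card rfl
    haveI : IsMulCommutative W₁ := IsCyclic.isMulCommutative
    haveI : Fintype W₁ := Fintype.ofFinite _
    exact PF14.hom_finite fun x y => mul_comm' x y
  haveI : Finite (↥W₂ →* ℂˣ) := by
    haveI := Fact.mk E.prime₂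
    haveI : IsCyclic W₂ := isCyclic_of_prime_card rfl
    haveI : IsMulCommutative W₂ := IsCyclic.isMulCommutative
    haveI : Fintype W₂ := Fintype.ofFinite _
    exact PF14.hom_finite fun x y => mul_comm' x y
  haveI := Fintype.ofFinite (↥W₁ →* ℂˣ)
  haveI := Fintype.ofFinite (↥W₂ →* ℂˣ)
  have hc₁ : Fintype.card (↥W₁ →* ℂˣ) = q := by rw [dual_card_prime E.prime₁, hS.card_W₁]
  have hc₂ : Fintype.card (↥W₂ →* ℂˣ) = p := by rw [dual_card_prime E.prime₂, hS.card_W₂]
  set X := conjSet ((fittingOf S : Set G) \ {1}) with hX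
  set Y := conjSet ((fittingOf T : Set G) \ {1}) with hY
  set Z := conjSet (offSet W₁ W₂) with hZ
  set R := (Z ∪ X ∪ Y)ᶜ with hR
  have dZX : Disjoint Z X := conjSet_disjoint fun b hb g hm =>
    hS.not_offSet dS hb.1 g⁻¹ (by rwa [inv_inv])
  have dZY : Disjoint Z Y := conjSet_disjoint fun b hb g hm =>
    hT.not_offSet dT hb.1 g⁻¹ (by rw [inv_inv, PF14.offSet_swap]; exact hm)
  have dXY : Disjoint X Y := (conjSet_disjoint fun b hb g hm =>
    hb.2 (hS.not_conj_fitting dS hT dT hb.1 g hm.1)).symm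
  have hsplit : ∀ f : G → ℂ,
      (classInner f f).re = mass f Z + mass f X + mass f Y + mass f R := fun f => by
    rw [← mass_univ, ← mass_union f dZX, ← mass_union f (Set.disjoint_union_left.2 ⟨dZY, dXY⟩),
      ← mass_union f disjoint_compl_right, Set.union_compl_self]
  -- the rows and the columns
  set t₁ := (Finset.univ : Finset (↥W₁ →* ℂˣ)).erase 1 with ht₁d
  set t₂ := (Finset.univ : Finset (↥W₂ →* ℂˣ)).erase 1 with ht₂d
  set Ψ : (↥W₂ →* ℂˣ) → G → ℂ := fun ψ g => ∑ φ, η φ ψ g with hΨ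
  have hΨnorm : ∀ ψ, (classInner (Ψ ψ) (Ψ ψ)).re = q := fun ψ => by
    have e : Ψ ψ = ∑ φ : ↥W₁ →* ℂˣ, η φ ψ := by
      ext g
      rw [Finset.sum_apply]
    rw [e, CharCore.classInner_sum_left,
      Finset.sum_congr rfl fun φ _ => by
        rw [CharCore.classInner_sum_right, Finset.sum_eq_single φ
          (fun φ' _ hne => E.orth φ ψ φ' ψ fun h => hne (Prod.ext_iff.1 h).1.symm)
          (fun h => absurd (Finset.mem_univ _) h), E.norm_one]]
    rw [Finset.sum_const, Finset.card_univ, hc₁, nsmul_eq_mul, mul_one]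
    simp
  have ht₁ : (0 : ℝ) < t₁.card := by
    rw [ht₁d, Finset.card_erase_of_mem (Finset.mem_univ _), Finset.card_univ, hc₁]
    exact_mod_cast Nat.sub_pos_of_lt hS.hq.one_lt
  have ht₂ : (0 : ℝ) < t₂.card := by
    rw [ht₂d, Finset.card_erase_of_mem (Finset.mem_univ _), Finset.card_univ, hc₂]
    exact_mod_cast Nat.sub_pos_of_lt hS.hp.one_lt
  set LY := (1 / (p : ℝ)) * (1 - (nU T V : ℝ) / numGood T V)
  have hYrow : ∀ φ ∈ t₁, LY ≤ mass (η φ 1) Y := fun φ hφ => by
    have := right_mass hT dT E.swap (gap hT dT E.swap) (Finset.ne_of_mem_erase hφ)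
    rwa [numGood_eq] at this
  have hrow : (share Z : ℝ) + LY +
      (∑ φ ∈ t₁, (mass (η φ 1) X + mass (η φ 1) R)) / t₁.card ≤ 1 := by
    have e : ∀ φ ∈ t₁, share Z + LY + (mass (η φ 1) X + mass (η φ 1) R) ≤ 1 := fun φ hφ => by
      have h1 := hsplit (η φ 1)
      rw [E.norm_one, Complex.one_re, hZ, E.mass_offSet, ← hZ] at h1
      linarith [hYrow φ hφ]
    have h2 := Finset.sum_le_sum e
    rw [Finset.sum_add_distrib, Finset.sum_const, Finset.sum_const, nsmul_eq_mul, nsmul_eq_mul,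
      mul_one] at h2
    rw [← le_sub_iff_add_le', div_le_iff₀ ht₁]
    linarith
  have hcol : (∑ ψ ∈ t₂, (mass (Ψ ψ) X + mass (Ψ ψ) R)) / t₂.card ≤ q := by
    rw [div_le_iff₀ ht₂, mul_comm, ← nsmul_eq_mul, ← Finset.sum_const]
    refine Finset.sum_le_sum fun ψ _ => ?_
    linarith [hsplit (Ψ ψ), hΨnorm ψ, mass_nonneg (Ψ ψ) Z, mass_nonneg (Ψ ψ) Y]
  have hXb := both_mass hS dS E (gap hS dS E) hc₁ hc₂
  rw [numGood_eq] at hXb
  -- away from all three sets
  have hRb : share R ≤ (∑ φ ∈ t₁, mass (η φ 1) R) / t₁.card +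
      (∑ ψ ∈ t₂, mass (Ψ ψ) R) / t₂.card := by
    unfold share mass
    rw [← Finset.mul_sum, ← Finset.mul_sum, mul_div_assoc, mul_div_assoc, ← mul_add,
      Finset.sum_comm (s := t₁), Finset.sum_comm (s := t₂), Finset.sum_div, Finset.sum_div,
      ← Finset.sum_add_distrib]
    refine mul_le_mul_of_nonneg_left (Finset.sum_le_sum fun g hg => ?_)
      (inv_nonneg.2 (Nat.cast_nonneg _))
    have hgR : g ∈ R := by simpa using hg
    have hoff : ∀ x : G, x⁻¹ * g * x ∉ offSet W₁ W₂ := fun x hx =>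
      hgR (Or.inl (Or.inl ⟨_, hx, x⁻¹, by rw [inv_inv]⟩))
    have main := one_le_avg E.prime₁ E.prime₂ (hc₁.trans hS.card_W₁.symm) (vals_apply E hoff)
    simp only [norm_one, one_pow]
    refine le_trans main (le_of_eq ?_)
    simp only [ht₁d, ht₂d, Ψ]
    congr!
  -- the share of the conjugates of `F(T)`
  have hYs : share Y ≤ 1 / ((nU T V : ℝ) * p) := by
    rw [hY, share_conjSet hT.dade, Nat.card_coe_set_eq,
      Set.ncard_sdiff_singleton_of_mem (fittingOf T).one_mem, ← Nat.card_coe_set_eq]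
    have hle : ((Nat.card ↥(fittingOf T : Set G) - 1 : ℕ) : ℝ) ≤ Nat.card (fittingOf T) := by
      exact_mod_cast Nat.sub_le _ _
    refine le_trans (div_le_div_of_nonneg_right hle (Nat.cast_nonneg _)) (le_of_eq ?_)
    have hc : (Nat.card (cU T V) : ℝ) ≠ 0 := Nat.cast_ne_zero.2 Nat.card_pos.ne'
    have hq0 : (q : ℝ) ^ p ≠ 0 := pow_ne_zero _ (Nat.cast_ne_zero.2 hS.hq.ne_zero)
    have hn : (nU T V : ℝ) ≠ 0 :=
      Nat.cast_ne_zero.2 (lt_trans zero_lt_one dT.one_lt_n).ne'
    rw [dT.card_S, dT.card_fitting, dT.card_U]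
    push_cast
    field_simp
  have hshare : share Z + share X + share Y + share R = 1 := by
    unfold share
    rw [← hsplit, ← mass_univ]
    exact share_univ
  rw [Finset.sum_add_distrib, add_div] at hrow hcol
  have key : LY ≤ share Y + (q : ℝ) * (nU S U : ℝ) / numGood S U := by
    rw [mul_div_assoc]
    have e : (q : ℝ) * (1 - (nU S U : ℝ) / numGood S U) =
        q - q * ((nU S U : ℝ) / numGood S U) := by ring
    linarith
  have hp0 : (0 : ℝ) < p := by exact_mod_cast hS.hp.pos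
  have h3 := mul_le_mul_of_nonneg_left (key.trans (add_le_add hYs le_rfl)) hp0.le
  rw [show (p : ℝ) * LY = 1 - (nU T V : ℝ) / numGood T V by
    simp only [LY]; field_simp, mul_add] at h3
  rw [show (p : ℝ) * (1 / ((nU T V : ℝ) * p)) = 1 / nU T V by field_simp,
    ← mul_div_assoc, ← mul_assoc] at h3
  linarith

/-- Peterfalvi (13.10)–(13.12): `C = 1`. -/
theorem cU_eq_bot (hS : Side S W₁ U W₂ p q) (dS : Dich S W₁ U W₂ p q)
    (hT : Side T W₂ V W₁ q p) (dT : Dich T W₂ V W₁ q p)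
    {η : (↥W₁ →* ℂˣ) → (↥W₂ →* ℂˣ) → G → ℂ} (E : EtaArr W₁ W₂ η)
    (hr : ∀ r : ℕ, r.Prime → r ∣ Nat.card (cU S U) → r ∣ nU S U) : cU S U = ⊥ := by
  have h3 : ∀ (A : Subgroup G) (r : ℕ), r.Prime → Nat.card A = r → 3 ≤ r := fun A r hr hA => by
    have h1 : Odd r := hA ▸ BGSigma.odd_card_subgroup hS.minSimple A
    have h2 := hr.two_le
    obtain ⟨k, rfl⟩ := h1
    omega
  have hp3 := h3 W₂ p hS.hp hS.card_W₂
  have hq3 := h3 W₁ q hS.hq hS.card_W₁
  refine Subgroup.card_eq_one.1 ?_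
  exact eq_one hS.hp hS.hq hp3 hq3 hS.ne (tnum hT dT hq3 hp3) Nat.card_pos dS.modEq_n
    dS.one_lt_n dS.lines_le (fun r hp' hd => ⟨dS.modEq_prime r hp' hd, hr r hp' hd⟩)
    (numGood_ge hS dS) (main_ineq hS dS hT dT E)

/-- `C = 1` in Type II. -/
theorem faithII (hG : IsMinSimpleOddOrder G) (h34 : Shape34 G) (hV : NoV G) : FaithII G := by
  refine faithII_of_pairs hG h34 hV fun S T W₁ W₂ U V d hII => ?_
  have hS := side_of_pair hG h34 hV d
  have hT := side_of_pair hG h34 hV d.symm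
  obtain ⟨hTcases, -⟩ := member_stmt hG h34 hV d.symm
  obtain ⟨η, hη⟩ := exists_eta hG d hS.hq hS.hp
  have dT : Dich T W₂ V W₁ (Nat.card W₁) (Nat.card W₂) := by
    rcases hTcases with h2 | h3
    · exact hT.dich h2
    · exact dich_of_typeIII h34 hT h3
  exact cU_eq_bot hS (hS.dich hII) hT dT hη fun r hr hd => hS.prime_dvd_n hII hr hd

end Cfsg.Agent.PF13.Reg
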