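import Cfsg.Agent.PF14.Mass

/-!
# The pointwise inequality of Peterfalvi (13.9)

A Galois-stable family of non-zero algebraic integers has mean square at least `1`; hence, away
from the conjugates of `W₁W₂ \ (W₁ ∪ W₂)`, the row `η φ 1` and the columns `∑ φ, η φ ψ` cannot
both be small.
-/

set_option autoImplicit false
set_option linter.unusedSectionVars false

namespace Cfsg.Agent.PF13.Reg

open Cfsg OddChar OddChar.CycTI
open Cfsg.Agent.PF14 (mapCh mapCh_one exists_ringHom_move one_le_norm_of_int EtaArr)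

theorem card_le_sum_normSq {ι : Type*} [Fintype ι] (v : ι → ℂ) (hint : ∀ i, IsIntegral ℤ (v i))
    (hperm : ∀ σ : ℂ →+* ℂ, ∃ e : ι ≃ ι, ∀ i, σ (v i) = v (e i)) (hne : ∀ i, v i ≠ 0) :
    (Fintype.card ι : ℝ) ≤ ∑ i, ‖v i‖ ^ 2 := by
  obtain ⟨k, hk⟩ := CharClifford.exists_int_of_fixed (z := ∏ i, v i)
    (IsIntegral.prod _ fun i _ => hint i) (fun σ => by
      obtain ⟨e, he⟩ := hperm σ
      rw [map_prod, Finset.prod_congr rfl fun i _ => he i]
      exact Equiv.prod_comp e v)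
  have hk0 : k ≠ 0 := by
    rintro rfl
    rw [Int.cast_zero, Finset.prod_eq_zero_iff] at hk
    obtain ⟨i, -, hi⟩ := hk
    exact hne i hi
  have h1 : (1 : ℝ) ≤ ∏ i, ‖v i‖ ^ 2 := by
    rw [Finset.prod_pow, ← norm_prod, hk]
    nlinarith [one_le_norm_of_int hk0]
  have hpos : ∀ i, 0 < ‖v i‖ ^ 2 := fun i => pow_pos (norm_pos_iff.2 (hne i)) 2
  have h2 : 0 ≤ ∑ i, Real.log (‖v i‖ ^ 2) := by
    rw [← Real.log_prod fun i _ => (hpos i).ne']
    exact Real.log_nonneg h1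
  have h3 := Finset.sum_le_sum (s := Finset.univ) fun i _ => Real.log_le_sub_one_of_pos (hpos i)
  simp only [Finset.sum_sub_distrib, Finset.sum_const, nsmul_eq_mul, mul_one,
    Finset.card_univ] at h3
  linarith

variable {G : Type*} [Group G] [Finite G] {W₁ W₂ : Subgroup G}
  [Fintype (↥W₁ →* ℂˣ)] [Fintype (↥W₂ →* ℂˣ)]

/-- The values, at one place, of an array with the properties of `η`. -/
structure Vals (W₁ W₂ : Subgroup G) (val : (↥W₁ →* ℂˣ) → (↥W₂ →* ℂˣ) → ℂ) : Prop where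
  int : ∀ φ ψ, IsIntegral ℤ (val φ ψ)
  galois : ∀ (σ : ℂ →+* ℂ) φ ψ, σ (val φ ψ) = val (mapCh σ φ) (mapCh σ ψ)
  one : val 1 1 = 1
  off : ∀ φ ψ, val φ ψ = val φ 1 + val 1 ψ - 1

theorem mapCh_injective {A : Type*} [Group A] (σ : ℂ →+* ℂ) :
    Function.Injective (mapCh (A := A) σ) := fun φ φ' h => MonoidHom.ext fun a => Units.ext
  (σ.injective (by simpa using congrArg (fun f : A →* ℂˣ => ((f a : ℂˣ) : ℂ)) h))

theorem mapCh_eq_one {A : Type*} [Group A] (σ : ℂ →+* ℂ) (φ : A →* ℂˣ) :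
    mapCh σ φ = 1 ↔ φ = 1 := by
  refine ⟨fun h => mapCh_injective σ (h.trans (mapCh_one σ).symm), ?_⟩
  rintro rfl
  exact mapCh_one σ

open Classical in
/-- A Galois equivariant function on the non-trivial characters of a group of prime order is
either identically zero there or has mean square at least `1`. -/
theorem family_cases {A : Type*} [Group A] [Finite A] [Fintype (A →* ℂˣ)]
    (hA : (Nat.card A).Prime) (v : (A →* ℂˣ) → ℂ) (hint : ∀ φ, IsIntegral ℤ (v φ))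
    (hgal : ∀ (σ : ℂ →+* ℂ) φ, σ (v φ) = v (mapCh σ φ)) :
    (∀ φ : A →* ℂˣ, φ ≠ 1 → v φ = 0) ∨
      (((Finset.univ : Finset (A →* ℂˣ)).erase 1).card : ℝ) ≤
        ∑ φ ∈ (Finset.univ : Finset (A →* ℂˣ)).erase 1, ‖v φ‖ ^ 2 := by
  by_cases h : ∀ φ : A →* ℂˣ, φ ≠ 1 → v φ = 0
  · exact Or.inl h
  push Not at h
  obtain ⟨φ₀, hφ₀, hv⟩ := h
  refine Or.inr ?_
  have hne : ∀ φ : A →* ℂˣ, φ ≠ 1 → v φ ≠ 0 := fun φ hφ h0 => by
    obtain ⟨σ, hσ, -⟩ := exists_ringHom_move hA hφ hφ₀ one_ne_zero (Nat.coprime_one_left _)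
    exact hv (by rw [← hσ, ← hgal, h0, map_zero])
  let T := {φ : A →* ℂˣ // φ ≠ 1}
  have key := card_le_sum_normSq (ι := T) (fun φ => v φ.1) (fun φ => hint _) (fun σ =>
    ⟨Equiv.ofBijective (fun φ : T => ⟨mapCh σ φ.1, fun e => φ.2 ((mapCh_eq_one σ φ.1).1 e)⟩)
      (Finite.injective_iff_bijective.1 fun a b e =>
        Subtype.ext (mapCh_injective σ (congrArg Subtype.val e))),
      fun φ => hgal σ φ.1⟩) fun φ => hne φ.1 φ.2
  rw [← Finset.sum_subtype (p := fun φ : A →* ℂˣ => φ ≠ 1) ((Finset.univ).erase 1)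
    (fun x => by simp) fun φ => ‖v φ‖ ^ 2] at key
  rw [Fintype.card_subtype, Finset.filter_ne'] at key
  exact key

open Classical in
/-- The pointwise inequality. -/
theorem one_le_avg (hq : (Nat.card W₁).Prime) (hp : (Nat.card W₂).Prime)
    (hcard : Fintype.card (↥W₁ →* ℂˣ) = Nat.card W₁)
    {val : (↥W₁ →* ℂˣ) → (↥W₂ →* ℂˣ) → ℂ} (V : Vals W₁ W₂ val) :
    (1 : ℝ) ≤
      (∑ φ ∈ (Finset.univ : Finset (↥W₁ →* ℂˣ)).erase 1, ‖val φ 1‖ ^ 2) /
        (((Finset.univ : Finset (↥W₁ →* ℂˣ)).erase 1).card : ℝ) +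
      (∑ ψ ∈ (Finset.univ : Finset (↥W₂ →* ℂˣ)).erase 1, ‖∑ φ, val φ ψ‖ ^ 2) /
        (((Finset.univ : Finset (↥W₂ →* ℂˣ)).erase 1).card : ℝ) := by
  set t₁ := (Finset.univ : Finset (↥W₁ →* ℂˣ)).erase 1
  set t₂ := (Finset.univ : Finset (↥W₂ →* ℂˣ)).erase 1
  have h0₁ : (0 : ℝ) ≤ (∑ φ ∈ t₁, ‖val φ 1‖ ^ 2) / (t₁.card : ℝ) := by positivity
  have h0₂ : (0 : ℝ) ≤ (∑ ψ ∈ t₂, ‖∑ φ, val φ ψ‖ ^ 2) / (t₂.card : ℝ) := by positivity
  have hpos₁ : (0 : ℝ) < t₁.card := by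
    rw [Finset.card_erase_of_mem (Finset.mem_univ _), Finset.card_univ, hcard]
    exact_mod_cast Nat.sub_pos_of_lt hq.one_lt
  rcases family_cases hq (fun φ => val φ 1) (fun φ => V.int φ 1)
    (fun σ φ => by rw [V.galois, mapCh_one]) with hz | hA
  swap
  · have : 1 ≤ (∑ φ ∈ t₁, ‖val φ 1‖ ^ 2) / (t₁.card : ℝ) := by
      rw [le_div_iff₀ hpos₁, one_mul]; exact hA
    linarith
  -- the row vanishes, so the columns are `q b - (q - 1)`
  have hcol : ∀ ψ : ↥W₂ →* ℂˣ, ∑ φ, val φ ψ =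
      (Nat.card W₁ : ℂ) * val 1 ψ - ((Nat.card W₁ : ℂ) - 1) := by
    intro ψ
    rw [Finset.sum_congr rfl fun φ _ => V.off φ ψ, Finset.sum_sub_distrib, Finset.sum_add_distrib,
      ← Finset.add_sum_erase _ _ (Finset.mem_univ (1 : ↥W₁ →* ℂˣ)),
      Finset.sum_eq_zero (s := t₁) fun φ hφ => hz φ (Finset.ne_of_mem_erase hφ), V.one]
    simp only [add_zero, Finset.sum_const, Finset.card_univ, hcard, nsmul_eq_mul, mul_one]
    ring
  have hgal : ∀ (σ : ℂ →+* ℂ) (ψ : ↥W₂ →* ℂˣ), σ (∑ φ, val φ ψ) = ∑ φ, val φ (mapCh σ ψ) := by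
    intro σ ψ
    rw [map_sum, Finset.sum_congr rfl fun φ _ => V.galois σ φ ψ]
    exact Fintype.sum_bijective (mapCh σ) (Finite.injective_iff_bijective.1 (mapCh_injective σ))
      _ _ fun φ => rfl
  rcases family_cases hp (fun ψ => ∑ φ, val φ ψ) (fun ψ => IsIntegral.sum _ fun φ _ => V.int φ ψ)
    hgal with hz₂ | hB
  · exfalso
    obtain ⟨ψ, hψ⟩ : ∃ ψ : ↥W₂ →* ℂˣ, ψ ≠ 1 := by
      haveI : Fact (Nat.card W₂).Prime := ⟨hp⟩
      haveI := isCyclic_of_prime_card (α := W₂) rfl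
      letI := IsCyclic.commGroup (α := W₂)
      haveI : Nontrivial W₂ := Finite.one_lt_card_iff_nontrivial.1 hp.one_lt
      obtain ⟨b, hb⟩ := exists_ne (1 : W₂)
      obtain ⟨ψ, hψ⟩ := CommGroup.exists_apply_ne_one_of_hasEnoughRootsOfUnity W₂ ℂ hb
      exact ⟨ψ, fun e => hψ (by rw [e, MonoidHom.one_apply])⟩
    have h := hz₂ ψ hψ
    rw [hcol ψ, sub_eq_zero] at h
    -- `b = (q - 1) / q` is integral
    obtain ⟨k, hk⟩ := CharClifford.exists_int_of_fixed (V.int 1 ψ) fun σ => by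
      have h2 := congrArg σ h
      rw [map_mul, map_sub, map_natCast, map_one] at h2
      exact mul_left_cancel₀ (Nat.cast_ne_zero.2 hq.ne_zero) (h2.trans h.symm)
    rw [hk] at h
    have h3 : (Nat.card W₁ : ℤ) * k = (Nat.card W₁ : ℤ) - 1 := by exact_mod_cast h
    have h4 : (Nat.card W₁ : ℤ) ∣ 1 := ⟨1 - k, by rw [mul_sub, h3]; ring⟩
    exact hq.not_dvd_one (by exact_mod_cast h4)
  · have hpos₂ : (0 : ℝ) < t₂.card := by
      rcases t₂.eq_empty_or_nonempty with he | hne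
      · exfalso
        haveI : Fact (Nat.card W₂).Prime := ⟨hp⟩
        haveI := isCyclic_of_prime_card (α := W₂) rfl
        letI := IsCyclic.commGroup (α := W₂)
        haveI : Nontrivial W₂ := Finite.one_lt_card_iff_nontrivial.1 hp.one_lt
        obtain ⟨b, hb⟩ := exists_ne (1 : W₂)
        obtain ⟨ψ, hψ⟩ := CommGroup.exists_apply_ne_one_of_hasEnoughRootsOfUnity W₂ ℂ hb
        have hm : ψ ∈ t₂ :=
          Finset.mem_erase.2 ⟨fun e => hψ (by rw [e, MonoidHom.one_apply]), Finset.mem_univ _⟩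
        rw [he] at hm
        exact Finset.notMem_empty _ hm
      · exact_mod_cast hne.card_pos
    have : 1 ≤ (∑ ψ ∈ t₂, ‖∑ φ, val φ ψ‖ ^ 2) / (t₂.card : ℝ) := by
      rw [le_div_iff₀ hpos₂, one_mul]; exact hB
    linarith

variable [Fintype G]

/-- The values of `η` at an element outside the conjugates of `offSet W₁ W₂`. -/
theorem vals_apply {η : (↥W₁ →* ℂˣ) → (↥W₂ →* ℂˣ) → G → ℂ} (E : EtaArr W₁ W₂ η) {g : G}
    (hg : ∀ x : G, x⁻¹ * g * x ∉ offSet W₁ W₂) : Vals W₁ W₂ (fun φ ψ => η φ ψ g) where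
  int φ ψ := CharClifford.isIntegral_of_isGeneralizedCharacter (E.gen φ ψ) g
  galois σ φ ψ := E.galois σ φ ψ g
  one := congrFun E.one g
  off φ ψ := E.off φ ψ g hg

end Cfsg.Agent.PF13.Reg
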