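import Cfsg.Agent.PF13.Reg.Defs
import Cfsg.Agent.PF13.Reg.Fourier
import Cfsg.Agent.PF13.Reg.Pointwise
import Cfsg.Agent.BGSummary.TypeCore
import Cfsg.Agent.BGUniq.FittingOf
import Mathlib.RingTheory.RootsOfUnity.Lemmas

/-!
# Peterfalvi (13.9): the masses of `η` over the conjugates of `F(S)`
-/

set_option autoImplicit false
set_option linter.unusedVariables false
set_option linter.unusedSectionVars false

namespace Cfsg.Agent.PF13.Reg

open Cfsg OddChar OddChar.CycTI Subgroup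
open Cfsg.Agent.PF14 (EtaArr coeff conjSet mass share mass_conjSet share_conjSet dade_of_TI
  sum_subgroup_ne_one coeff_int hom_finite eq_sum_coeff)
open scoped ComplexConjugate

variable {G : Type*} [Group G] [Fintype G] {S W₁ U W₂ : Subgroup G} {p q : ℕ}

theorem one_ne_one_sub_mul {q : ℕ} (hq : q.Prime) {ζ : ℂ} (hζ : IsPrimitiveRoot ζ q) {ω : ℂ}
    (hω : IsIntegral ℤ ω) : (1 - ζ) * ω ≠ 1 := by
  intro h
  obtain ⟨n, rfl⟩ : ∃ n, q = n + 1 := ⟨q - 1, by have := hq.pos; omega⟩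
  haveI : NeZero (n + 1) := ⟨n.succ_ne_zero⟩
  have hinv : ∀ k ∈ Finset.range n, ∃ z : ℂ, IsIntegral ℤ z ∧ (1 - ζ ^ (k + 1)) * z = 1 := by
    intro k hk
    have hkn : k + 1 < n + 1 := by rw [Finset.mem_range] at hk; omega
    have hprim : IsPrimitiveRoot (ζ ^ (k + 1)) (n + 1) := hζ.pow_of_coprime _
      ((Nat.coprime_comm.1 (hq.coprime_iff_not_dvd.2 fun hd => by
        have := Nat.le_of_dvd (Nat.succ_pos _) hd; omega)))
    obtain ⟨j, -, hj⟩ := hprim.eq_pow_of_pow_eq_one hζ.pow_eq_one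
    refine ⟨(∑ i ∈ Finset.range j, (ζ ^ (k + 1)) ^ i) * ω, IsIntegral.mul
      (IsIntegral.sum _ fun i _ => (IsIntegral.pow (IsIntegral.pow
        (hζ.isIntegral (Nat.succ_pos n)) _) _)) hω, ?_⟩
    rw [← mul_assoc, mul_neg_geom_sum, hj, h]
  choose! z hz hz1 using hinv
  have hprod := congrArg (· * ∏ k ∈ Finset.range n, z k) hζ.prod_one_sub_pow_eq_order
  rw [← Finset.prod_mul_distrib, Finset.prod_congr rfl hz1, Finset.prod_const_one] at hprod
  have hint : IsIntegral ℤ (∏ k ∈ Finset.range n, z k) := IsIntegral.prod _ hz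
  obtain ⟨m, hm⟩ := CharClifford.exists_int_of_fixed hint fun σ => by
    have h2 := congrArg σ hprod
    rw [map_one, map_mul, map_add, map_natCast, map_one] at h2
    exact mul_left_cancel₀ (by exact_mod_cast n.succ_ne_zero) (h2.symm.trans hprod)
  rw [hm] at hprod
  have h3 : (1 : ℤ) = (n + 1) * m := by exact_mod_cast hprod
  have h4 : ((n + 1 : ℕ) : ℤ) ∣ 1 := ⟨m, by push_cast; exact h3⟩
  exact hq.not_dvd_one (by exact_mod_cast h4)

/-- The row characters are non-zero on `W₂`. -/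
theorem eta_left_ne_zero {η : (↥W₁ →* ℂˣ) → (↥W₂ →* ℂˣ) → G → ℂ} (E : EtaArr W₁ W₂ η)
    (φ : ↥W₁ →* ℂˣ) {b : W₂} (hb : b ≠ 1) : η φ 1 b ≠ 0 := by
  intro h0
  obtain ⟨a, ha⟩ : ∃ a : W₁, a ≠ 1 := by
    haveI : Nontrivial W₁ := Finite.one_lt_card_iff_nontrivial.1 E.prime₁.one_lt
    exact exists_ne 1
  haveI : NeZero (Nat.card W₁) := ⟨E.prime₁.ne_zero⟩
  have hζ := Complex.isPrimitiveRoot_exp (Nat.card W₁) E.prime₁.ne_zero
  obtain ⟨ω, hω, e⟩ := isGeneralizedCharacter_mul_congr (E.gen φ 1) E.prime₁.ne_zero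
    (x := (a : G)) (y := (b : G))
    (congrArg Subtype.val (pow_card_eq_one' (G := W₁) (x := a)))
    (E.selfNorm.2.2.2.1 a a.2 b b.2) hζ
  rw [E.eq_on φ 1 a b ha hb, h0, sub_zero] at e
  simp only [MonoidHom.one_apply, Units.val_one, mul_one] at e
  refine one_ne_one_sub_mul E.prime₁ hζ (ω := ω * ((φ a⁻¹ : ℂˣ) : ℂ))
    (hω.mul (IsIntegral.of_pow (n := Nat.card W₁) Nat.card_pos ?_)) ?_
  · rw [← Units.val_pow_eq_pow_val, ← map_pow, pow_card_eq_one', map_one, Units.val_one]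
    exact isIntegral_one
  · rw [← mul_assoc, ← e, ← Units.val_mul, ← map_mul, mul_inv_cancel, map_one, Units.val_one]

namespace Side

variable (h : Side S W₁ U W₂ p q)
include h

theorem fitting_le : fittingOf S ≤ S := BGUniq.fittingOf_le S

theorem core_le_fit : fittingHallOf S ≤ fittingOf S :=
  BGSummary.TypeCore.fittingHallOf_le_fittingOf S

theorem dade : DadeHypothesis ((fittingOf S : Set G) \ {1}) S (fun _ => (⊥ : Subgroup G)) := by
  have hn : S ≤ normalizer (fittingOf S : Set G) := h.fitting_normalizer.ge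
  refine dade_of_TI (fun h0 => h0.2 rfl) (fun a ha => h.fitting_le ha.1)
    (fun x hx a ha => ⟨(mem_normalizer_iff.mp (hn hx) a).mp ha.1, fun h0 => ha.2 ?_⟩)
    fun a ha g hg => ?_
  · exact conj_eq_one_iff.mp h0
  · by_contra hgS
    exact ha.2 (h.fitting_TI g (fun h0 => hgS (h.fitting_normalizer.le h0)) a ha.1 hg.1)

theorem W₂_le_hall : W₂ ≤ fittingHallOf S := h.data.W₂_le.trans inf_le_left

theorem coprime_fitting (d : Dich S W₁ U W₂ p q) : (Nat.card (fittingOf S)).Coprime q := by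
  rw [d.card_fitting]
  refine Nat.Coprime.mul_left (Nat.Coprime.pow_left q ((Nat.coprime_primes h.hp h.hq).2 h.ne)) ?_
  refine Nat.coprime_of_dvd fun r hr hd hd' => ?_
  have hrq := (Nat.prime_dvd_prime_iff_eq hr h.hq).1 hd'
  subst hrq
  have h2 : 2 * r ≤ r - 1 := Nat.le_of_dvd (Nat.sub_pos_of_lt hr.one_lt) (d.modEq_prime r hr hd)
  have := hr.two_le
  omega

/-- No element of `F(S)` is conjugate into `W₁W₂ \ (W₁ ∪ W₂)`. -/
theorem not_offSet (d : Dich S W₁ U W₂ p q) {z : G} (hz : z ∈ fittingOf S) (x : G) :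
    x⁻¹ * z * x ∉ offSet W₁ W₂ := by
  intro hm
  obtain ⟨hW, hW₁, hW₂⟩ := mem_offSet.1 hm
  obtain ⟨-, -, hdisj, hcomm, -, -⟩ := h.data.selfNormalizing
  obtain ⟨ab, hab⟩ := (prodHom_bijective W₁ W₂ hdisj hcomm).2 ⟨_, hW⟩
  have hval : ((ab.1 : G) * ab.2) = x⁻¹ * z * x := congrArg Subtype.val hab
  set m := Nat.card (fittingOf S)
  have hzm : z ^ m = 1 :=
    congrArg Subtype.val (pow_card_eq_one' (x := (⟨z, hz⟩ : fittingOf S)))
  have hpow : (ab.1 : G) ^ m * (ab.2 : G) ^ m = 1 := by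
    rw [← Commute.mul_pow (hcomm ab.1 ab.1.2 ab.2 ab.2.2), hval,
      show x⁻¹ * z * x = x⁻¹ * z * x⁻¹⁻¹ by rw [inv_inv], conj_pow, hzm, mul_one,
      mul_inv_cancel]
  have ha : (ab.1 : G) ^ m ∈ W₁ ⊓ W₂ := ⟨W₁.pow_mem ab.1.2 _, by
    rw [eq_inv_of_mul_eq_one_left hpow]
    exact W₂.inv_mem (W₂.pow_mem ab.2.2 _)⟩
  rw [hdisj, mem_bot] at ha
  have hq1 : (ab.1 : G) ^ q = 1 := by
    rw [← h.card_W₁]
    exact congrArg Subtype.val (pow_card_eq_one' (x := ab.1))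
  have ha1 : (ab.1 : G) = 1 := by
    have h2 : orderOf (ab.1 : G) ∣ Nat.gcd m q :=
      Nat.dvd_gcd (orderOf_dvd_of_pow_eq_one ha) (orderOf_dvd_of_pow_eq_one hq1)
    rw [h.coprime_fitting d, Nat.dvd_one] at h2
    exact orderOf_eq_one_iff.1 h2
  rw [ha1, one_mul] at hval
  exact hW₂ (hval ▸ ab.2.2)

/-- No non-identity element of `F(S)` is conjugate into `F(T)`, for a second member `T`. -/
theorem not_conj_fitting (d : Dich S W₁ U W₂ p q) {T W V W' : Subgroup G}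
    (hT : Side T W V W' q p) (dT : Dich T W V W' q p) {z : G} (hz : z ∈ fittingOf S) (g : G)
    (hgz : g * z * g⁻¹ ∈ fittingOf T) : z = 1 := by
  by_contra hz1
  have hgz1 : g * z * g⁻¹ ≠ 1 := fun h0 => hz1 (conj_eq_one_iff.mp h0)
  haveI := h.fitting_comm
  have hle : (fittingHallOf S).map (MulAut.conj g).toMonoidHom ≤ T := by
    rintro _ ⟨x, hx, rfl⟩
    have hc : x * z = z * x := congrArg Subtype.val
      (mul_comm' (⟨x, h.core_le_fit hx⟩ : fittingOf S) ⟨z, hz⟩)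
    have hcc : (g * x * g⁻¹) * (g * z * g⁻¹) * (g * x * g⁻¹)⁻¹ = g * z * g⁻¹ := by
      calc (g * x * g⁻¹) * (g * z * g⁻¹) * (g * x * g⁻¹)⁻¹
          = g * (x * z) * x⁻¹ * g⁻¹ := by group
        _ = g * (z * x) * x⁻¹ * g⁻¹ := by rw [hc]
        _ = g * z * g⁻¹ := by group
    show g * x * g⁻¹ ∈ T
    by_contra hT'
    exact hgz1 (hT.fitting_TI _ (fun h0 => hT' (hT.fitting_normalizer.le h0)) _ hgz
      (by rw [hcc]; exact hgz))
  have hdvd := Subgroup.card_dvd_of_le hle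
  rw [card_map_of_injective (f := (MulAut.conj g).toMonoidHom) (MulAut.conj g).injective,
    h.card_core, dT.card_S, dT.card_U] at hdvd
  have hp_n : ¬ p ∣ nU T V := fun hd => by
    have h1 : p ∣ nU T V - 1 := (Nat.dvd_mul_left p 2).trans dT.modEq_n
    have h2 := Nat.dvd_sub hd h1
    rw [Nat.sub_sub_self (le_of_lt dT.one_lt_n)] at h2
    exact h.hp.not_dvd_one h2
  have hp_c : ¬ p ∣ Nat.card (cU T V) := fun hd => by
    have h2 : 2 * p ≤ p - 1 :=
      Nat.le_of_dvd (Nat.sub_pos_of_lt h.hp.one_lt) (dT.modEq_prime p h.hp hd)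
    have := h.hp.two_le
    omega
  have hp_q : ¬ p ∣ q ^ p := fun hd =>
    h.ne ((Nat.prime_dvd_prime_iff_eq h.hp h.hq).1 (h.hp.dvd_of_dvd_pow hd))
  have hcop : (p ^ q).Coprime (q ^ p * (nU T V * Nat.card (cU T V))) := by
    refine Nat.Coprime.pow_left q (h.hp.coprime_iff_not_dvd.2 ?_)
    exact h.hp.not_dvd_mul hp_q (h.hp.not_dvd_mul hp_n hp_c)
  have hle' := Nat.le_of_dvd h.hp.pos (hcop.dvd_of_dvd_mul_left hdvd)
  exact absurd hle' (not_le.2 (by
    calc p = p ^ 1 := (pow_one p).symm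
      _ < p ^ q := Nat.pow_lt_pow_right h.hp.one_lt h.hq.one_lt))

end Side

section Coefficients

variable {H : Type*} [Group H] [Fintype H]

theorem coeff_sum {ι : Type*} (s : Finset ι) (f : ι → H → ℂ) (l : H →* ℂˣ) :
    coeff (fun z => ∑ i ∈ s, f i z) l = ∑ i ∈ s, coeff (f i) l := by
  unfold coeff
  rw [show (fun z => ∑ i ∈ s, f i z) = ∑ i ∈ s, f i by ext z; rw [Finset.sum_apply],
    CharCore.classInner_sum_left]

end Coefficients

variable [Fintype (fittingOf S)]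

theorem onSub_gen {η : (↥W₁ →* ℂˣ) → (↥W₂ →* ℂˣ) → G → ℂ} (E : EtaArr W₁ W₂ η)
    (φ : ↥W₁ →* ℂˣ) (ψ : ↥W₂ →* ℂˣ) :
    IsGeneralizedCharacter (fittingOf S) (onSub (fittingOf S) (η φ ψ)) :=
  CharCore.isGeneralized_restrict (E.gen φ ψ) (fittingOf S)

open Classical in
theorem mass_conj_fitting (h : Side S W₁ U W₂ p q) {f : G → ℂ} (hf : IsClassFunction G f) :
    mass f (conjSet ((fittingOf S : Set G) \ {1})) =
      (Nat.card S : ℝ)⁻¹ * ∑ x ∈ Finset.univ.erase (1 : fittingOf S), ‖f x‖ ^ 2 := by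
  classical
  rw [mass_conjSet h.dade hf]
  congr 1
  convert sum_subgroup_ne_one (fittingOf S) (fun g => ‖f g‖ ^ 2) using 3 <;> exact Finset.ext fun _ => by simp

open Classical in
/-- A column of `η` has mass at least `(1/q)(1 - n/|t|)` over the conjugates of `F(S)`. -/
theorem right_mass (h : Side S W₁ U W₂ p q) (d : Dich S W₁ U W₂ p q)
    {η : (↥W₁ →* ℂˣ) → (↥W₂ →* ℂˣ) → G → ℂ} (E : EtaArr W₁ W₂ η) (gp : Gap S U η)
    [Fintype (↥(fittingOf S) →* ℂˣ)] {ψ : ↥W₂ →* ℂˣ} (hψ : ψ ≠ 1) :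
    (1 / (q : ℝ)) * (1 - (nU S U : ℝ) /
        ((Finset.univ.filter (Good S U)).card : ℝ)) ≤
      mass (η 1 ψ) (conjSet ((fittingOf S : Set G) \ {1})) := by
  set P' := (fittingHallOf S).subgroupOf (fittingOf S) with hP'
  have hcomm : ∀ x y : fittingOf S, x * y = y * x := fun x y => by
    haveI := h.fitting_comm; exact mul_comm' x y
  obtain ⟨s, ε, hs, hsg, hε, hgap⟩ := gp.line ψ hψ
  set t := Finset.univ.filter (Good S U)
  have hst : s ⊆ t := fun ω hω => Finset.mem_filter.2 ⟨Finset.mem_univ _, hsg ω hω⟩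
  have hn : 0 < nU S U := lt_trans zero_lt_one d.one_lt_n
  have htne : t.Nonempty := by
    obtain ⟨ω, hω⟩ := Finset.card_pos.1 (hs ▸ hn)
    exact ⟨ω, hst hω⟩
  choose dd hd using coeff_int (onSub_gen (S := S) E 1 ψ)
  have hP1 : 1 < Nat.card P' := by
    rw [hP', Nat.card_congr (subgroupOfEquivOfLe h.core_le_fit).toEquiv, h.card_core]
    exact Nat.one_lt_pow h.hq.ne_zero h.hp.one_lt
  haveI : Fintype P' := Fintype.ofFinite _
  have key := sum_sq_ge P' hcomm hP1 _ dd hd t s hst (fun ω hω => by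
    obtain ⟨x, hx, hne⟩ := (Finset.mem_filter.1 hω).2.1
    exact ⟨x, mem_subgroupOf.2 hx, hne⟩) htne 1 (fun i hi j hj hjs => by
      have hij := hgap 1 i j hi (Finset.mem_filter.1 hj).2 hjs
      rw [hd, hd] at hij
      rcases hε with rfl | rfl
      · have : dd i - dd j = 1 := by exact_mod_cast hij
        have h2 : ((dd i : ℝ) - dd j) = 1 := by exact_mod_cast this
        rw [h2]; norm_num
      · have : dd i - dd j = -1 := by exact_mod_cast hij
        have h2 : ((dd i : ℝ) - dd j) = -1 := by exact_mod_cast this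
        rw [h2]; norm_num)
  rw [hs, one_mul] at key
  rw [mass_conj_fitting h (E.classFun 1 ψ)]
  have h0 : (0 : ℝ) ≤ ∑ z ∈ Finset.univ.filter (fun z : fittingOf S => z ∉ P'),
      ‖proj P' (onSub (fittingOf S) (η 1 ψ)) z‖ ^ 2 := Finset.sum_nonneg fun _ _ => sq_nonneg _
  have hS : (Nat.card S : ℝ) = (Nat.card (fittingOf S) : ℝ) * (nU S U) * q := by
    rw [d.card_S, d.card_fitting, d.card_U]; push_cast; ring
  have hpos : (0 : ℝ) < Nat.card (fittingOf S) := by exact_mod_cast Nat.card_pos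
  have hn' : (0 : ℝ) < nU S U := by exact_mod_cast hn
  have hq' : (0 : ℝ) < q := by exact_mod_cast h.hq.pos
  have ht : (0 : ℝ) < t.card := by exact_mod_cast htne.card_pos
  rw [hS]
  calc (1 / (q : ℝ)) * (1 - (nU S U : ℝ) / t.card)
      = ((Nat.card (fittingOf S) : ℝ) * (nU S U) * q)⁻¹ *
          ((Nat.card (fittingOf S) : ℝ) *
            ((nU S U : ℝ) * ((t.card : ℝ) - nU S U)) / t.card) := by
        field_simp
    _ ≤ _ := by
        refine mul_le_mul_of_nonneg_left ?_ (by positivity)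
        convert le_trans (le_add_of_nonneg_left h0) key using 2
        all_goals first | rfl | (congr! <;> rfl)

theorem fitting_mul_comm (h : Side S W₁ U W₂ p q) (x y : fittingOf S) : x * y = y * x := by
  haveI := h.fitting_comm; exact mul_comm' x y

theorem card_core_subgroupOf (h : Side S W₁ U W₂ p q) :
    Nat.card ((fittingHallOf S).subgroupOf (fittingOf S)) = Nat.card (fittingHallOf S) :=
  Nat.card_congr (subgroupOfEquivOfLe h.core_le_fit).toEquiv

open Classical in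
/-- On a coset of `S_F` in `F(S)` outside `S_F`. -/
theorem point_le (h : Side S W₁ U W₂ p q) (d : Dich S W₁ U W₂ p q)
    {η : (↥W₁ →* ℂˣ) → (↥W₂ →* ℂˣ) → G → ℂ} (E : EtaArr W₁ W₂ η)
    [Fintype (↥(fittingOf S) →* ℂˣ)] [Fintype (↥W₁ →* ℂˣ)] [Fintype (↥W₂ →* ℂˣ)]
    (P' : Subgroup (fittingOf S)) [Fintype P']
    (hc₁ : Fintype.card (↥W₁ →* ℂˣ) = q) (z : fittingOf S) :
    (1 : ℝ) ≤ (∑ φ ∈ (Finset.univ : Finset (↥W₁ →* ℂˣ)).erase 1,
        ‖proj P' (onSub (fittingOf S) (η φ 1)) z‖ ^ 2) /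
          (((Finset.univ : Finset (↥W₁ →* ℂˣ)).erase 1).card : ℝ) +
      (∑ ψ ∈ (Finset.univ : Finset (↥W₂ →* ℂˣ)).erase 1,
        ‖∑ φ, proj P' (onSub (fittingOf S) (η φ ψ)) z‖ ^ 2) /
          (((Finset.univ : Finset (↥W₂ →* ℂˣ)).erase 1).card : ℝ) := by
  have hcomm := fitting_mul_comm h
  suffices hV : Vals W₁ W₂ fun φ ψ => proj P' (onSub (fittingOf S) (η φ ψ)) z by
    have main := one_le_avg E.prime₁ E.prime₂ (hc₁.trans h.card_W₁.symm) hV
    generalize proj P' = F at main ⊢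
    convert main using 5 <;> exact Finset.ext fun _ => by simp
  refine ⟨fun φ ψ => ?_, fun σ φ ψ => ?_, ?_, fun φ ψ => ?_⟩
  · choose d' hd' using coeff_int (onSub_gen (S := S) E φ ψ)
    show IsIntegral ℤ (proj P' (onSub (fittingOf S) (η φ ψ)) z)
    rw [eq_sum_coeff hcomm (proj P' _) z]
    refine IsIntegral.sum _ fun l _ => IsIntegral.mul ?_ ?_
    · rw [coeff_proj]
      split_ifs
      · rw [hd']; exact isIntegral_intCast _
      · exact isIntegral_zero
    · refine IsIntegral.of_pow (n := Fintype.card (fittingOf S)) Fintype.card_pos ?_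
      rw [← Units.val_pow_eq_pow_val, ← map_pow, pow_card_eq_one, map_one, Units.val_one]
      exact isIntegral_one
  · simp only [proj, onSub, map_mul, map_inv₀, map_natCast, map_sum, E.galois]
  · simp only [proj, onSub, E.one, Finset.sum_const, Finset.card_univ, nsmul_eq_mul,
      mul_one, ← Nat.card_eq_fintype_card]
    exact inv_mul_cancel₀ (Nat.cast_ne_zero.2 Nat.card_pos.ne')
  · have he : ∀ x : P', η φ ψ ((z * x : fittingOf S) : G) =
        η φ 1 ((z * x : fittingOf S) : G) + η 1 ψ ((z * x : fittingOf S) : G) - 1 := fun x =>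
      E.off φ ψ _ fun y => h.not_offSet d (z * x : fittingOf S).2 y
    simp only [proj, onSub]
    rw [Finset.sum_congr rfl fun x _ => he x, Finset.sum_sub_distrib, Finset.sum_add_distrib,
      Finset.sum_const, Finset.card_univ, ← Nat.card_eq_fintype_card, nsmul_eq_mul, mul_one,
      mul_sub, mul_add, inv_mul_cancel₀ (Nat.cast_ne_zero.2 Nat.card_pos.ne')]

open Classical in
/-- A row of `η` on `F(S)`. -/
theorem row_le (h : Side S W₁ U W₂ p q) {η : (↥W₁ →* ℂˣ) → (↥W₂ →* ℂˣ) → G → ℂ}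
    (E : EtaArr W₁ W₂ η) (P' : Subgroup (fittingOf S)) (hP' : P' = (fittingHallOf S).subgroupOf (fittingOf S)) [Fintype P']
    (φ : ↥W₁ →* ℂˣ) :
    (∑ z ∈ Finset.univ.filter
        (fun z : fittingOf S => z ∉ P'),
        ‖proj P' (onSub (fittingOf S) (η φ 1)) z‖ ^ 2) +
      ((Nat.card P' : ℝ) - 1) ≤
      ∑ x ∈ Finset.univ.erase (1 : fittingOf S), ‖η φ 1 x‖ ^ 2 := by
  have hcomm := fitting_mul_comm h
  set out := Finset.univ.filter (fun z : fittingOf S => z ∉ P') with hout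
  have hmem : ∀ (y : P') (z : fittingOf S), z ∈ out ↔ z * y ∈ out := fun y z => by
    simp only [hout, Finset.mem_filter, Finset.mem_univ, true_and]
    exact (not_congr (P'.mul_mem_cancel_right y.2)).symm
  have hsp := sum_split P' (onSub (fittingOf S) (η φ 1)) out hmem
  have h1 : (∑ z ∈ out, ‖proj P' (onSub (fittingOf S) (η φ 1)) z‖ ^ 2) ≤ ∑ z ∈ out, ‖η φ 1 z‖ ^ 2 := by
    have h2 : (0 : ℝ) ≤ ∑ z ∈ out, ‖onSub (fittingOf S) (η φ 1) z -
        proj P' (onSub (fittingOf S) (η φ 1)) z‖ ^ 2 := Finset.sum_nonneg fun _ _ => sq_nonneg _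
    show (∑ z ∈ out, ‖proj P' (onSub (fittingOf S) (η φ 1)) z‖ ^ 2) ≤
      ∑ z ∈ out, ‖onSub (fittingOf S) (η φ 1) z‖ ^ 2
    linarith
  obtain ⟨b, hb⟩ : ∃ b : W₂, b ≠ 1 := by
    haveI : Nontrivial W₂ := Finite.one_lt_card_iff_nontrivial.1 E.prime₂.one_lt
    exact exists_ne 1
  haveI := hom_finite (P := P') fun x y => Subtype.ext (hcomm x y)
  haveI := Fintype.ofFinite (P' →* ℂˣ)
  choose d' hd' using coeff_int (CharCore.isGeneralized_restrict
    (onSub_gen (S := S) E φ 1) P')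
  have hb' : (⟨⟨b, h.core_le_fit (h.W₂_le_hall b.2)⟩, hP' ▸ mem_subgroupOf.2 (h.W₂_le_hall b.2)⟩ : P') ≠ 1 :=
    fun e => hb (Subtype.ext (congrArg (fun x : P' => ((x : fittingOf S) : G)) e))
  have h3 := sum_sq_ge_card (H := P') (fun x y => Subtype.ext (hcomm x y))
    (fun x : P' => η φ 1 ((x : fittingOf S) : G)) d' hd' hb' (eta_left_ne_zero E φ hb)
  have h4 : ∑ x ∈ Finset.univ.erase (1 : P'), ‖η φ 1 ((x : fittingOf S) : G)‖ ^ 2 =
      ∑ x ∈ (Finset.univ.erase (1 : fittingOf S)).filter (fun z => z ∈ P'), ‖η φ 1 x‖ ^ 2 := by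
    refine Finset.sum_bij (fun x _ => (x : fittingOf S)) (fun x hx => ?_)
      (fun x _ y _ e => Subtype.ext e) (fun z hz => ?_) fun x _ => rfl
    · exact Finset.mem_filter.2 ⟨Finset.mem_erase.2
        ⟨fun e => Finset.ne_of_mem_erase hx (Subtype.ext e), Finset.mem_univ _⟩, x.2⟩
    · obtain ⟨hz1, hz2⟩ := Finset.mem_filter.1 hz
      exact ⟨⟨z, hz2⟩, Finset.mem_erase.2 ⟨fun e => Finset.ne_of_mem_erase hz1
        (congrArg Subtype.val e), Finset.mem_univ _⟩, rfl⟩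
  have h5 : out = (Finset.univ.erase (1 : fittingOf S)).filter (fun z => z ∉ P') := by
    ext z
    simp only [hout, Finset.mem_filter, Finset.mem_univ, true_and, Finset.mem_erase, and_true]
    exact ⟨fun hz => ⟨fun e => hz (e ▸ P'.one_mem), hz⟩, fun hz => hz.2⟩
  rw [← Finset.sum_filter_add_sum_filter_not (Finset.univ.erase (1 : fittingOf S))
    (fun z => z ∈ P'), ← h4, ← h5]
  refine le_trans (add_le_add h1 h3) (le_of_eq ?_)
  rw [add_comm]
  congr! 3

open Classical in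
/-- A column of `η` on `F(S)`. -/
theorem col_le (h : Side S W₁ U W₂ p q) (d : Dich S W₁ U W₂ p q)
    {η : (↥W₁ →* ℂˣ) → (↥W₂ →* ℂˣ) → G → ℂ} (E : EtaArr W₁ W₂ η) (gp : Gap S U η)
    [Fintype (↥(fittingOf S) →* ℂˣ)] [Fintype (↥W₁ →* ℂˣ)]
    (P' : Subgroup (fittingOf S)) (hP' : P' = (fittingHallOf S).subgroupOf (fittingOf S)) [Fintype P']
    (hc₁ : Fintype.card (↥W₁ →* ℂˣ) = q) {ψ : ↥W₂ →* ℂˣ} (hψ : ψ ≠ 1) :
    (∑ z ∈ Finset.univ.filter
        (fun z : fittingOf S => z ∉ P'),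
        ‖∑ φ, proj P'
          (onSub (fittingOf S) (η φ ψ)) z‖ ^ 2) +
      (Nat.card (fittingOf S) : ℝ) * ((q : ℝ) ^ 2 * ((nU S U : ℝ) *
        (((Finset.univ.filter (Good S U)).card : ℝ) - nU S U))) /
          (Finset.univ.filter (Good S U)).card ≤
      ∑ x ∈ Finset.univ.erase (1 : fittingOf S), ‖∑ φ, η φ ψ x‖ ^ 2 := by
  have hcomm := fitting_mul_comm h
  have hP'card : Nat.card P' = Nat.card (fittingHallOf S) := by
    rw [hP']; exact card_core_subgroupOf h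
  set t := Finset.univ.filter (Good S U)
  obtain ⟨s, ε, hs, hsg, hε, hgap⟩ := gp.line ψ hψ
  have hst : s ⊆ t := fun ω hω => Finset.mem_filter.2 ⟨Finset.mem_univ _, hsg ω hω⟩
  have htne : t.Nonempty := by
    obtain ⟨ω, hω⟩ := Finset.card_pos.1 (hs ▸ lt_trans zero_lt_one d.one_lt_n)
    exact ⟨ω, hst hω⟩
  choose dd hd using fun φ => coeff_int (onSub_gen (S := S) E φ ψ)
  have hP1 : 1 < Nat.card P' := by
    rw [hP'card, h.card_core]
    exact Nat.one_lt_pow h.hq.ne_zero h.hp.one_lt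
  have key := sum_sq_ge P' hcomm hP1 (fun z => ∑ φ, onSub (fittingOf S) (η φ ψ) z)
    (fun l => ∑ φ, dd φ l) (fun l => by rw [coeff_sum]; push_cast; simp only [hd]) t s hst
    (fun ω hω => by
      obtain ⟨x, hx, hne⟩ := (Finset.mem_filter.1 hω).2.1
      exact ⟨x, hP' ▸ mem_subgroupOf.2 hx, hne⟩) htne ((q : ℝ) ^ 2) (fun i hi j hj hjs => by
      have hij : ∀ φ : ↥W₁ →* ℂˣ, ((dd φ i : ℝ) - dd φ j : ℝ) = ε.re := fun φ => by
        have := congrArg Complex.re (hgap φ i j hi (Finset.mem_filter.1 hj).2 hjs)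
        rw [hd, hd] at this
        simpa using this
      push_cast
      rw [← Finset.sum_sub_distrib, Finset.sum_congr rfl fun φ _ => hij φ, Finset.sum_const,
        Finset.card_univ, hc₁, nsmul_eq_mul, mul_pow]
      rcases hε with rfl | rfl <;> simp)
  rw [hs] at key
  simp only [proj_linear_sum] at key
  convert key using 3
  congr!

open Classical in
/-- Over the conjugates of `F(S)`: the mean masses of the rows and of the columns together exceed
the share of this set by `q (1 - n/|t|)`. -/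
theorem both_mass (h : Side S W₁ U W₂ p q) (d : Dich S W₁ U W₂ p q)
    {η : (↥W₁ →* ℂˣ) → (↥W₂ →* ℂˣ) → G → ℂ} (E : EtaArr W₁ W₂ η) (gp : Gap S U η)
    [Fintype (↥(fittingOf S) →* ℂˣ)] [Fintype (↥W₁ →* ℂˣ)] [Fintype (↥W₂ →* ℂˣ)]
    (hc₁ : Fintype.card (↥W₁ →* ℂˣ) = q) (hc₂ : Fintype.card (↥W₂ →* ℂˣ) = p) :
    share (conjSet ((fittingOf S : Set G) \ {1})) + (q : ℝ) * (1 - (nU S U : ℝ) /
        ((Finset.univ.filter (Good S U)).card : ℝ)) ≤
      (∑ φ ∈ (Finset.univ : Finset (↥W₁ →* ℂˣ)).erase 1,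
          mass (η φ 1) (conjSet ((fittingOf S : Set G) \ {1}))) /
        (((Finset.univ : Finset (↥W₁ →* ℂˣ)).erase 1).card : ℝ) +
      (∑ ψ ∈ (Finset.univ : Finset (↥W₂ →* ℂˣ)).erase 1,
          mass (fun g => ∑ φ, η φ ψ g) (conjSet ((fittingOf S : Set G) \ {1}))) /
        (((Finset.univ : Finset (↥W₂ →* ℂˣ)).erase 1).card : ℝ) := by
  set P' := (fittingHallOf S).subgroupOf (fittingOf S) with hP'
  haveI : Fintype P' := Fintype.ofFinite _
  haveI : Fintype (fittingHallOf S) := Fintype.ofFinite _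
  have hcomm : ∀ x y : fittingOf S, x * y = y * x := fun x y => by
    haveI := h.fitting_comm; exact mul_comm' x y
  set t₁ := (Finset.univ : Finset (↥W₁ →* ℂˣ)).erase 1
  set t₂ := (Finset.univ : Finset (↥W₂ →* ℂˣ)).erase 1
  set t := Finset.univ.filter (Good S U)
  set Hs := Nat.card (fittingOf S)
  set out := Finset.univ.filter (fun z : fittingOf S => z ∉ P') with hout
  set pr : (↥W₁ →* ℂˣ) → (↥W₂ →* ℂˣ) → fittingOf S → ℂ :=
    fun φ ψ z => proj P' (onSub (fittingOf S) (η φ ψ)) z with hpr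
  have ht₁ : (0 : ℝ) < t₁.card := by
    rw [Finset.card_erase_of_mem (Finset.mem_univ _), Finset.card_univ, hc₁]
    exact_mod_cast Nat.sub_pos_of_lt h.hq.one_lt
  have ht₂ : (0 : ℝ) < t₂.card := by
    rw [Finset.card_erase_of_mem (Finset.mem_univ _), Finset.card_univ, hc₂]
    exact_mod_cast Nat.sub_pos_of_lt h.hp.one_lt
  have hP'card : Nat.card P' = Nat.card (fittingHallOf S) := card_core_subgroupOf h
  have hpoint : ∀ z ∈ out, (1 : ℝ) ≤ (∑ φ ∈ t₁, ‖pr φ 1 z‖ ^ 2) / (t₁.card : ℝ) +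
      (∑ ψ ∈ t₂, ‖∑ φ, pr φ ψ z‖ ^ 2) / (t₂.card : ℝ) := fun z _ => point_le h d E P' hc₁ z
  have hrow : ∀ φ : ↥W₁ →* ℂˣ, (∑ z ∈ out, ‖pr φ 1 z‖ ^ 2) + ((Nat.card P' : ℝ) - 1) ≤
      ∑ x ∈ Finset.univ.erase (1 : fittingOf S), ‖η φ 1 x‖ ^ 2 := fun φ => row_le h E P' hP' φ
  have hcol : ∀ ψ ∈ t₂, (∑ z ∈ out, ‖∑ φ, pr φ ψ z‖ ^ 2) +
      (Hs : ℝ) * ((q : ℝ) ^ 2 * ((nU S U : ℝ) * ((t.card : ℝ) - nU S U))) / t.card ≤
      ∑ x ∈ Finset.univ.erase (1 : fittingOf S), ‖∑ φ, η φ ψ x‖ ^ 2 :=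
    fun ψ hψ => col_le h d E gp P' hP' hc₁ (Finset.ne_of_mem_erase hψ)
  -- summing up
  have hX : ∀ f : G → ℂ, IsClassFunction G f → mass f (conjSet ((fittingOf S : Set G) \ {1})) =
      (Nat.card S : ℝ)⁻¹ * ∑ x ∈ Finset.univ.erase (1 : fittingOf S), ‖f x‖ ^ 2 :=
    fun f hf => mass_conj_fitting h hf
  rw [Finset.sum_congr rfl fun φ _ => hX _ (E.classFun φ 1),
    Finset.sum_congr rfl fun ψ _ => hX _ (fun g x =>
      Finset.sum_congr rfl fun φ _ => E.classFun φ ψ g x), ← Finset.mul_sum, ← Finset.mul_sum,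
    share_conjSet h.dade, mul_div_assoc, mul_div_assoc, ← mul_add]
  have hA : ((out.card : ℝ) + ((Nat.card P' : ℝ) - 1)) +
      (Hs : ℝ) * ((q : ℝ) ^ 2 * ((nU S U : ℝ) * ((t.card : ℝ) - nU S U))) / t.card ≤
      (∑ φ ∈ t₁, ∑ x ∈ Finset.univ.erase (1 : fittingOf S), ‖η φ 1 x‖ ^ 2) / t₁.card +
      (∑ ψ ∈ t₂, ∑ x ∈ Finset.univ.erase (1 : fittingOf S), ‖∑ φ, η φ ψ x‖ ^ 2) / t₂.card := by
    have e1 : (out.card : ℝ) ≤ (∑ φ ∈ t₁, ∑ z ∈ out, ‖pr φ 1 z‖ ^ 2) / t₁.card +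
        (∑ ψ ∈ t₂, ∑ z ∈ out, ‖∑ φ, pr φ ψ z‖ ^ 2) / t₂.card := by
      rw [Finset.sum_comm (s := t₁), Finset.sum_comm (s := t₂), Finset.sum_div, Finset.sum_div,
        ← Finset.sum_add_distrib, Finset.cast_card]
      exact Finset.sum_le_sum hpoint
    have e2 := Finset.sum_le_sum (s := t₁) fun φ _ => hrow φ
    have e3 := Finset.sum_le_sum hcol
    rw [Finset.sum_add_distrib, Finset.sum_const, nsmul_eq_mul] at e2 e3
    have e2' := div_le_div_of_nonneg_right e2 ht₁.le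
    have e3' := div_le_div_of_nonneg_right e3 ht₂.le
    rw [add_div, mul_div_cancel_left₀ _ ht₁.ne'] at e2'
    rw [add_div, mul_div_cancel_left₀ _ ht₂.ne'] at e3'
    linarith
  have hcardout : (out.card : ℝ) + Nat.card P' = Hs := by
    have h1 := Finset.card_filter_add_card_filter_not (s := (Finset.univ : Finset (fittingOf S)))
      (fun z => z ∈ P')
    rw [← Fintype.card_subtype, ← Nat.card_eq_fintype_card, Finset.card_univ,
      ← Nat.card_eq_fintype_card] at h1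
    have h2 : out.card + Nat.card P' = Hs := by rw [add_comm]; exact h1
    exact_mod_cast h2
  have hcardA : (Nat.card ↥((fittingOf S : Set G) \ {1}) : ℝ) = (Hs : ℝ) - 1 := by
    rw [Nat.card_coe_set_eq, Set.ncard_diff_singleton_of_mem (fittingOf S).one_mem,
      ← Nat.card_coe_set_eq, Nat.cast_sub Nat.card_pos]
    simp [Hs]
  have hS : (Nat.card S : ℝ) = (Hs : ℝ) * (nU S U) * q := by
    simp only [Hs]
    rw [d.card_S, d.card_fitting, d.card_U]; push_cast; ring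
  have hpos : (0 : ℝ) < Hs := Nat.cast_pos.2 Nat.card_pos
  have hn' : (0 : ℝ) < nU S U := by exact_mod_cast lt_trans zero_lt_one d.one_lt_n
  have hq' : (0 : ℝ) < q := by exact_mod_cast h.hq.pos
  have ht : (0 : ℝ) < t.card := by
    obtain ⟨ψ, hψ⟩ := Finset.card_pos.1 (by exact_mod_cast ht₂ : 0 < t₂.card)
    obtain ⟨s, ε, hs, hsg, -⟩ := gp.line ψ (Finset.ne_of_mem_erase hψ)
    obtain ⟨ω, hω⟩ := Finset.card_pos.1 (hs ▸ lt_trans zero_lt_one d.one_lt_n)
    exact Nat.cast_pos.2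
      (Finset.card_pos.2 ⟨ω, Finset.mem_filter.2 ⟨Finset.mem_univ _, hsg ω hω⟩⟩)
  refine le_trans (le_of_eq ?_) (mul_le_mul_of_nonneg_left hA (by positivity))
  rw [hcardA, show (out.card : ℝ) + ((Nat.card P' : ℝ) - 1) = (Hs : ℝ) - 1 by linarith, hS]
  field_simp

end Cfsg.Agent.PF13.Reg
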