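import Cfsg.Agent.PF13.Reg.DichIII
import Cfsg.Agent.PF13.Reg.Dich
import Cfsg.Agent.PF13.Reg.Gap

/-!
# Peterfalvi (13.10)–(13.12): what is known about both members of a pair
-/

set_option autoImplicit false
set_option linter.unusedSectionVars false

namespace Cfsg.Agent.PF13.Reg

open Cfsg Subgroup

universe u

variable {G : Type u} [Group G] [Fintype G] (hG : IsMinSimpleOddOrder G) (h34 : Shape34 G)
  (hV : NoV G) {S T W₁ W₂ U V : Subgroup G} (d : FT.Pair S T W₁ W₂ U V)
include hG h34 hV d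

/-- `Dich` for either member of a pair. -/
theorem dich_of_pair : Dich S W₁ U W₂ (Nat.card W₂) (Nat.card W₁) := by
  rcases (member_stmt hG h34 hV d).1 with h2 | h3
  · exact (side_of_pair hG h34 hV d).dich h2
  · exact dich_of_typeIII h34 (side_of_pair hG h34 hV d) h3

/-- Every prime divisor of `|C|` divides `n`. -/
theorem prime_dvd_of_pair {r : ℕ} (hr : r.Prime) (hd : r ∣ Nat.card (cU S U)) : r ∣ nU S U := by
  rcases (member_stmt hG h34 hV d).1 with h2 | h3
  · exact (side_of_pair hG h34 hV d).prime_dvd_n h2 hr hd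
  · rw [cU_eq_bot_of_typeIII hG h34 d.coatomS d.typeS h3, Subgroup.card_bot] at hd
    exact absurd (Nat.dvd_one.mp hd) hr.ne_one

/-- `Gap` for either member of a pair. -/
theorem gap_of_pair [Fintype (fittingOf S)] {η : (↥W₁ →* ℂˣ) → (↥W₂ →* ℂˣ) → G → ℂ}
    (hE : PF14.EtaArr W₁ W₂ η) : Gap S U η :=
  gap (side_of_pair hG h34 hV d) (dich_of_pair hG h34 hV d) hE

end Cfsg.Agent.PF13.Reg
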