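import Cfsg.Agent.PF14.Glue
import Cfsg.Agent.S1418
import Cfsg.Agent.S1419
import Cfsg.Agent.BGSigma.Ten
import Cfsg.Agent.Lib.Transfer.Hall
import Cfsg.Agent.PF9.Galois

/-!
# Peterfalvi (13): from `C_U(S_F) = 1` to `U` fixed point free on `S_F`

For `S` of Type II suppose that some `x₀ ∈ U` of prime order `r` has fixed points on `S_F`. Then
`U` has a Sylow `r`-subgroup of `G`, `U = L_F` for the maximal subgroup `L ≥ N(U)`, some element of
order `p` normalizes `A = Ω₁(U_r)`, and `r` divides `p - 1`; but then this element centralizes `A`,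
while `C(A) = U`.
-/

set_option autoImplicit false
set_option linter.unusedSectionVars false

namespace Cfsg.Agent.PF13.Reg

open Cfsg Subgroup
open scoped IsMulCommutative

universe u

variable {G : Type u} [Group G] [Fintype G]

/-- `C_U(S_F) = 1` in every Type II maximal subgroup. -/
def FaithII (G : Type u) [Group G] : Prop :=
  ∀ S W₁ U W₂ : Subgroup G, IsCoatom S → IsTypePWith S W₁ U W₂ → IsOfTypeII S →
    U ⊓ centralizer (fittingHallOf S : Set G) = ⊥

variable (hG : IsMinSimpleOddOrder G)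
include hG

/-- Every type P maximal subgroup with given data is a member of a pair with these data. -/
theorem exists_pair_of {S W₁ U W₂ : Subgroup G} (hS : IsCoatom S) (hP : IsTypePWith S W₁ U W₂) :
    ∃ T V, FT.Pair S T W₁ W₂ U V := by
  obtain ⟨T, V, hT, hV, hinf, hor, -⟩ := PF8.exists_partner hG hS hP
  have hs := PF8.summaryInputs hG
  obtain ⟨⟨U₀, hKU⟩, -, -⟩ := PF8.decomp_of_typePWith hG hS hP
  obtain ⟨⟨V₀, hKV⟩, -, -⟩ := PF8.decomp_of_typePWith hG hT hV
  exact ⟨T, V, hS, hT, hP, hV, hinf, hor, BGSummary.typeP_cases hs hS hKU hP.W₁_ne,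
    BGSummary.typeP_cases hs hT hKV hV.W₁_ne⟩

omit hG in
theorem card_derived_part {S W₁ U W₂ : Subgroup G} (hP : IsTypePWith S W₁ U W₂) :
    (Nat.card (fittingHallOf S)).Coprime (Nat.card U * Nat.card W₁) := by
  refine (BGSummary.fittingHallOf_relIndex_coprime S).coprime_dvd_right (dvd_of_eq ?_)
  rw [← BGSummary.card_eq_of_complIn hP.U_compl
      (hP.W₁_compl.1.trans (BGSummary.le_normalizer_fittingHallOf S)),
    ← BGSummary.card_eq_of_complIn hP.W₁_compl (Coprime.le_normalizer_commutator_left S S),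
    Subgroup.relIndex_mul_relIndex _ _ _ hP.U_compl.1 hP.W₁_compl.1]

omit hG in
theorem mem_sup_iff {U W : Subgroup G} (hWU : W ≤ normalizer (U : Set G)) {x : G} :
    x ∈ U ⊔ W ↔ ∃ a ∈ U, ∃ b ∈ W, a * b = x := by
  rw [← SetLike.mem_coe, Subgroup.coe_mul_of_right_le_normalizer_left U W hWU]
  exact Set.mem_mul

omit hG in
theorem inf_W₁_eq_bot {S W₁ U W₂ : Subgroup G} (hP : IsTypePWith S W₁ U W₂) : U ⊓ W₁ = ⊥ :=
  le_bot_iff.mp ((inf_le_inf_right W₁ hP.U_compl.2.1).trans hP.W₁_compl.2.2.1.le)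

omit hG in
theorem fpf_W₁ {S W₁ U W₂ : Subgroup G} (hP : IsTypePWith S W₁ U W₂) :
    ∀ e ∈ W₁, e ≠ 1 → ∀ u ∈ U, e * u = u * e → u = 1 := by
  intro e he he1 u hu heu
  have h1 : u ∈ W₂ := by
    rw [← hP.W₂_centralizer e he he1]
    exact ⟨hP.U_compl.2.1 hu, mem_centralizer_singleton_iff.mpr heu.symm⟩
  exact Subgroup.mem_bot.mp (hP.U_compl.2.2.1.le ⟨(hP.W₂_le.trans inf_le_left) h1, hu⟩)

/-- In Type II a non-trivial subgroup of `S_F` invariant under `U W₁` is all of `S_F`. -/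
theorem invariant_eq {S W₁ U W₂ : Subgroup G} (hS : IsCoatom S) (hP : IsTypePWith S W₁ U W₂)
    (hII : IsOfTypeII S) (hp : (Nat.card W₂).Prime) {K : Subgroup G} (hKF : K ≤ fittingHallOf S)
    (hK1 : K ≠ ⊥) (hUK : U ≤ normalizer (K : Set G)) (hWK : W₁ ≤ normalizer (K : Set G)) :
    K = fittingHallOf S := by
  obtain ⟨hU1, hCU⟩ := inf_centralizer_eq_bot hG hS hP hII
  set H := fittingHallOf S with hH
  obtain ⟨-, hHc⟩ := core_of_typeII hG hS hP hII hp
  have hUn : ∀ e ∈ W₁, ∀ u ∈ U, e * u * e⁻¹ ∈ U := fun e he u hu =>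
    (mem_normalizer_iff.mp (hP.U_normal he) u).mp hu
  have hcop : (Nat.card K).Coprime (Nat.card ↥(U ⊔ W₁)) := by
    have hc : Nat.card ↥(U ⊔ W₁) = Nat.card U * Nat.card W₁ := by
      have h1 := Thompson.card_sup_mul_card_inf hP.U_normal
      rw [inf_W₁_eq_bot hP, Subgroup.card_bot, mul_one] at h1
      exact h1
    rw [hc]
    exact (card_derived_part hP).coprime_dvd_left (card_dvd_of_le hKF)
  have hcU : K ⊓ centralizer (U : Set G) = ⊥ :=
    le_bot_iff.mp ((inf_le_inf_right _ hKF).trans hCU.le)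
  have hcUW : K ⊓ centralizer ((U ⊔ W₁ : Subgroup G) : Set G) = ⊥ :=
    le_bot_iff.mp
      ((inf_le_inf_left _ (Subgroup.centralizer_le (SetLike.coe_subset_coe.mpr le_sup_left))).trans hcU.le)
  have h := S1545.result U W₁ K hU1 hP.W₁_ne (inf_W₁_eq_bot hP) hUn (fpf_W₁ hP)
    (fun x hx y hy => (mem_normalizer_iff.mp (sup_le hUK hWK hx) y).mp hy)
    (inf_eq_bot_of_coprime hcop)
    (Coprime.solvable_of_le (hKF.trans (BGUniq.fittingHallOf_le S))
      (BGSigma.coatom_isSolvable hG hS)) hcop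
  rw [hcU, hcUW, Subgroup.card_bot, one_pow, one_mul, mul_one] at h
  have h2 : Nat.card ↥(K ⊓ centralizer (W₁ : Set G)) ∣ Nat.card W₂ := by
    obtain ⟨e, he, he1⟩ := (Subgroup.bot_or_exists_ne_one W₁).resolve_left hP.W₁_ne
    refine card_dvd_of_le ?_
    rw [← hP.W₂_centralizer e he he1]
    exact le_inf (inf_le_left.trans (hKF.trans hP.U_compl.1))
      (inf_le_right.trans (Subgroup.centralizer_le (Set.singleton_subset_iff.mpr he)))
  rcases (Nat.dvd_prime hp).mp h2 with h3 | h3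
  · rw [h3, one_pow] at h
    exact absurd (card_eq_one.mp h) hK1
  · exact Subgroup.eq_of_le_of_card_ge hKF (by rw [h, h3, hHc])

/-- In a pair `V` meets `C(W₁)` trivially. -/
theorem inf_centralizer_W₁ (h34 : Shape34 G) (hV : NoV G) (hC : FaithII G)
    {S T W₁ W₂ U V : Subgroup G} (d : FT.Pair S T W₁ W₂ U V) :
    V ⊓ centralizer (W₁ : Set G) = ⊥ := by
  have hW₁F : W₁ ≤ fittingHallOf T := d.typeT.W₂_le.trans inf_le_left
  have hT := d.coatomT
  have hPT := d.typeT
  rcases (member_stmt hG h34 hV d.symm).1 with hII | hIII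
  · have hp : (Nat.card W₁).Prime := PF8.prime_W₁ hG d.coatomS d.typeS
      ((member_stmt hG h34 hV d).1.imp id Or.inl)
    obtain ⟨-, hVc, -⟩ := typeII_complement hG hT hPT hII
    set B := V ⊓ centralizer (W₁ : Set G) with hB
    set K := fittingHallOf T ⊓ centralizer (B : Set G) with hK
    have hW₁K : W₁ ≤ K := le_inf hW₁F fun w hw => mem_centralizer_iff.mpr fun b hb =>
      (mem_centralizer_iff.mp (show b ∈ centralizer (W₁ : Set G) from hb.2) w hw).symm
    have hK1 : K ≠ ⊥ := fun h0 => hPT.selfNormalizing.2.1 (le_bot_iff.mp (h0 ▸ hW₁K))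
    have hVT : V ≤ T := hPT.U_compl.2.1.trans hPT.W₁_compl.1
    have hTF := BGSummary.le_normalizer_fittingHallOf T
    have hVB : V ≤ centralizer (B : Set G) := fun v hv => mem_centralizer_iff.mpr fun b hb => by
      haveI := hVc
      exact congrArg Subtype.val (mul_comm' (⟨b, hb.1⟩ : V) ⟨v, hv⟩)
    have hVK : V ≤ normalizer (K : Set G) := Coprime.le_normalizer_inf (hVT.trans hTF)
      ((hVB.trans le_normalizer))
    have hW₂B : W₂ ≤ normalizer (B : Set G) :=
      Coprime.le_normalizer_inf hPT.U_normal (Coprime.le_normalizer_centralizer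
        (le_trans (fun w hw => mem_centralizer_iff.mpr fun z hz =>
          d.typeS.selfNormalizing.2.2.2.1 z hz w hw) (Subgroup.centralizer_le_normalizer _)))
    have hW₂K : W₂ ≤ normalizer (K : Set G) := Coprime.le_normalizer_inf
      (hPT.W₁_compl.2.1.trans hTF) (Coprime.le_normalizer_centralizer hW₂B)
    have hKT := invariant_eq hG hT hPT hII hp inf_le_left hK1 hVK hW₂K
    refine le_bot_iff.mp fun b hb => (hC T W₂ V W₁ hT hPT hII).le ⟨hb.1, ?_⟩
    refine mem_centralizer_iff.mpr fun x hx => ?_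
    have hx' : x ∈ K := hKT.ge hx
    exact (mem_centralizer_iff.mp hx'.2 b hb).symm
  · obtain ⟨w, hw, hw1⟩ := (Subgroup.bot_or_exists_ne_one W₁).resolve_left d.typeS.W₁_ne
    refine le_bot_iff.mp fun b hb => Subgroup.mem_bot.mpr (by_contra fun hb1 => hw1 ?_)
    exact (h34 T W₂ V W₁ hT hPT (Or.inl hIII)).2.2.2.2.1 b hb.1 hb1 w (hW₁F hw)
      (mem_centralizer_iff.mp hb.2 w hw).symm

/-- The maximal subgroup containing `N(U)` for `S` of Type II. -/
theorem over_normalizer (h34 : Shape34 G) (hV : NoV G) (hF : BGSummary.FrobeniusOne G)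
    (hC : FaithII G) {S T W₁ W₂ U V : Subgroup G} (d : FT.Pair S T W₁ W₂ U V)
    (hII : IsOfTypeII S) {L : Subgroup G} (hL : IsCoatom L) (hNU : normalizer (U : Set G) ≤ L) :
    U ≤ fittingHallOf L ∧ (fittingHallOf L ⊔ W₁ = L ∨
      ∃ y, fittingHallOf L ⊔ (W₁ ⊔ W₂.map (MulAut.conj y).toMonoidHom) = L) := by
  obtain ⟨hTcases, -, hel, hcard, hTI, hN⟩ := member_stmt hG h34 hV d.symm
  have hCV := inf_centralizer_W₁ hG h34 hV hC d
  have hCW := PF13.normalizer_W₁ hG d hel.1 hTI hN hCV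
  have hs := PF8.summaryInputs hG
  have hclass : ∀ M : Subgroup G, IsCoatom M → IsOfTypeI M ∨
      ∃ g : G, M = S.map (MulAut.conj g).toMonoidHom ∨ M = T.map (MulAut.conj g).toMonoidHom :=
    fun M hM => (d.kappa_empty_or_conj hG hM).imp (fun hk => by
      obtain ⟨K, X, hKX⟩ := BGSummary.exists_decomp hs hM
      exact (BGSummary.typeI_iff hs hG (BGSummary.typeICriterion_of_frobenius hG hF) hM hKX).mpr
        ((BGSummary.eq_bot_iff_kappa hKX.hall).mpr hk)) id
  obtain ⟨-, -, hU, hor⟩ := PF14.normalizer_U_structure hG.1 d.coatomS d.typeS d.typeT hII hTcases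
    hel hcard hCW hclass (fun M hM hI => hF M hM (PF8.kappa_of_typeI hG M hM hI)) L hL hNU
  exact ⟨hU, hor.imp (fun h => h.2) fun ⟨y, _, h⟩ => ⟨y, h.2⟩⟩

omit hG [Fintype G] in
/-- The product of the images of `v` under the powers of an automorphism of order dividing `r` is
fixed. -/
theorem prod_pow_fixed {M : Type u} [CommGroup M] (θ : MulAut M) {r : ℕ} (hθ : θ ^ r = 1) (v : M) :
    θ (∏ k ∈ Finset.range r, (θ ^ k) v) = ∏ k ∈ Finset.range r, (θ ^ k) v := by
  rw [map_prod]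
  have h1 : ∀ k ∈ Finset.range r, θ ((θ ^ k) v) = (θ ^ (k + 1)) v := fun k _ => by
    rw [pow_succ', MulAut.mul_apply]
  rw [Finset.prod_congr rfl h1]
  have h2 := Finset.prod_range_succ' (fun k => (θ ^ k) v) r
  rw [Finset.prod_range_succ] at h2
  simp only [hθ, pow_zero] at h2
  exact (mul_right_cancel h2).symm

set_option maxHeartbeats 1600000 in
/-- In Type II with `C_U(S_F) = 1` the complement acts fixed point freely on `S_F`. -/
theorem regularII (h34 : Shape34 G) (hV : NoV G) (hF : BGSummary.FrobeniusOne G)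
    (hC : FaithII G) : PF14.RegularII G := by
  intro S W₁ U W₂ hS hP hII u hu hu1 x hx hux
  by_contra hx1
  obtain ⟨T, V, d⟩ := exists_pair_of hG hS hP
  obtain ⟨hcases, -, hel, hcard, -, -⟩ := member_stmt hG h34 hV d
  obtain ⟨hTcases, -⟩ := member_stmt hG h34 hV d.symm
  set p := Nat.card W₂ with hpdef
  have hp : p.Prime := PF8.prime_W₁ hG d.coatomT d.typeT (hTcases.imp id Or.inl)
  have hq : (Nat.card W₁).Prime := PF8.prime_W₁ hG hS hP (hcases.imp id Or.inl)
  obtain ⟨hU1, hUc, g₀, hg₀S, hg₀U⟩ := typeII_complement hG hS hP hII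
  haveI := hUc
  set F := fittingHallOf S with hFdef
  haveI : IsMulCommutative F := hel.1
  have hFσ : F = sigmaCore S := (PF8.typeII_of_typePWith hG hS hP hII).1
  obtain ⟨hdS, hW₁S, hdW, hSmul⟩ := hP.W₁_compl
  obtain ⟨hFd, hUd, hFU, hdmul⟩ := hP.U_compl
  have hUS : U ≤ S := hUd.trans hdS
  have hSF : S ≤ normalizer (F : Set G) := BGSummary.le_normalizer_fittingHallOf S
  have hfpf := fpf_W₁ hP
  have hWU := hP.U_normal
  have hcopU : (Nat.card F).Coprime (Nat.card U) :=
    (card_derived_part hP).coprime_dvd_right (dvd_mul_right _ _)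
  have hcU : U ⊓ centralizer (F : Set G) = ⊥ := hC S W₁ U W₂ hS hP hII
  -- an element of prime order with fixed points
  obtain ⟨r, hr, hrd⟩ := Nat.exists_prime_and_dvd (n := orderOf u)
    (fun h => hu1 (orderOf_eq_one_iff.mp h))
  haveI := Fact.mk hr
  set x₀ := u ^ (orderOf u / r) with hx₀
  have hx₀r : orderOf x₀ = r := orderOf_pow_orderOf_div (orderOf_pos u).ne' hrd
  have hx₀U : x₀ ∈ U := pow_mem hu _
  set K := F ⊓ centralizer ({x₀} : Set G) with hK
  have hxK : x ∈ K := ⟨hx, mem_centralizer_singleton_iff.mpr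
    ((show Commute x u from hux.symm).pow_right _).eq⟩
  have hK1 : K ≠ ⊥ := fun h0 => hx1 (Subgroup.mem_bot.mp (h0.le hxK))
  set X := zpowers x₀ with hX
  have hXc : Nat.card X = r := (Nat.card_zpowers x₀).trans hx₀r
  have hrU : r ∣ Nat.card U := hXc ▸ card_dvd_of_le (zpowers_le.mpr hx₀U)
  have hrp : r ≠ p := fun e => hr.not_dvd_one ((hcopU.coprime_dvd_left
    (show p ∣ Nat.card F from hcard ▸ dvd_pow_self _ hq.ne_zero)).gcd_eq_one ▸
      Nat.dvd_gcd (e ▸ dvd_rfl) hrU)
  -- `W₁` moves `X`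
  have hKX : ∀ g : G, g ∈ normalizer (X : Set G) → g ∈ normalizer (F : Set G) →
      g ∈ normalizer (K : Set G) := by
    have hKeq : K = F ⊓ centralizer (X : Set G) := by
      rw [hK, hX, Subgroup.zpowers_eq_closure, Subgroup.centralizer_closure]
    intro g hgX hgF
    rw [hKeq]
    exact (Coprime.le_normalizer_inf (zpowers_le.mpr hgF)
      (Coprime.le_normalizer_centralizer (zpowers_le.mpr hgX))) (mem_zpowers g)
  have hUX : U ≤ centralizer (X : Set G) := fun v hv => mem_centralizer_iff.mpr fun a ha =>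
    congrArg Subtype.val (mul_comm' (⟨a, (zpowers_le.mpr hx₀U) ha⟩ : U) ⟨v, hv⟩)
  have hmove : ∀ w ∈ W₁, w ≠ 1 → w * x₀ * w⁻¹ ∉ X := by
    intro w hw hw1 hmem
    have hwX : w ∈ normalizer (X : Set G) := by
      rw [mem_normalizer_iff_map_conj_eq]
      refine eq_of_le_of_card_ge ?_ (BGSigma.card_map_conj X w).ge
      rw [hX, MonoidHom.map_zpowers, zpowers_le]
      exact hmem
    have hW₁X : W₁ ≤ normalizer (X : Set G) := by
      haveI := Fact.mk hq
      intro v hv
      have hz : (⟨v, hv⟩ : W₁) ∈ zpowers (⟨w, hw⟩ : W₁) :=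
        mem_zpowers_of_prime_card rfl fun h => hw1 (congrArg Subtype.val h)
      obtain ⟨k, hk⟩ := mem_zpowers_iff.mp hz
      rw [← show w ^ k = v from by simpa using congrArg Subtype.val hk]
      exact zpow_mem hwX k
    have hKF := invariant_eq hG hS hP hII hp (K := K) inf_le_left hK1
      (fun v hv => hKX v ((Subgroup.centralizer_le_normalizer _) (hUX hv)) (hSF (hUS hv)))
      (fun v hv => hKX v (hW₁X hv) (hSF (hW₁S hv)))
    have h0 : x₀ ∈ U ⊓ centralizer (F : Set G) := ⟨hx₀U, mem_centralizer_iff.mpr fun a ha =>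
      mem_centralizer_singleton_iff.mp (hKF.ge ha).2⟩
    rw [hcU, Subgroup.mem_bot] at h0
    rw [h0, orderOf_one] at hx₀r
    exact hr.ne_one hx₀r.symm
  -- `A = Ω₁(U_r)` has order `r ^ 2`
  let A : Subgroup G :=
    { carrier := {a | a ∈ U ∧ a ^ r = 1}
      one_mem' := ⟨one_mem U, one_pow r⟩
      mul_mem' := fun {a b} ha hb => ⟨mul_mem ha.1 hb.1, by
        rw [(show Commute a b from congrArg Subtype.val
          (mul_comm' (⟨a, ha.1⟩ : U) ⟨b, hb.1⟩)).mul_pow, ha.2, hb.2, one_mul]⟩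
      inv_mem' := fun {a} ha => ⟨inv_mem ha.1, by rw [inv_pow, ha.2, inv_one]⟩ }
  have hAU : A ≤ U := fun a ha => ha.1
  have hAel : IsElementaryAbelian r A := ⟨⟨⟨fun a b => Subtype.ext (show (a : G) * b = b * a from congrArg (fun t : U => (t : G))
    (mul_comm' (⟨a, a.2.1⟩ : U) ⟨b, b.2.1⟩))⟩⟩, fun a ha => ha.2⟩
  have hx₀A : x₀ ∈ A := ⟨hx₀U, hx₀r ▸ pow_orderOf_eq_one x₀⟩
  have hconjA : ∀ g : G, g ∈ normalizer (U : Set G) → ∀ a ∈ A, g * a * g⁻¹ ∈ A := fun g hg a ha =>
    ⟨(mem_normalizer_iff.mp hg a).mp ha.1, by rw [conj_pow, ha.2, mul_one, mul_inv_cancel]⟩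
  obtain ⟨w₀, hw₀, hw₀1⟩ := (Subgroup.bot_or_exists_ne_one W₁).resolve_left hP.W₁_ne
  have hAr : IsPGroup r A := BGSigma.isPGroup_of_pow_eq_one hr fun a ha => ha.2
  have hFU' : ∀ a ∈ U, a ≠ 1 → a ∉ sigmaCore S := fun a ha ha1 h0 =>
    ha1 (Subgroup.mem_bot.mp (hFU.le ⟨hFσ.symm.le h0, ha⟩))
  have hrσ : r ∉ sigma S := fun h => by
    refine hFU' x₀ hx₀U (fun h0 => hr.ne_one (by rw [← hx₀r, h0, orderOf_one])) ?_
    refine BGSummary.le_sigmaCore_of_sigma (PF8.summaryInputs hG) hS (hUS hx₀U) fun s hs hsd => ?_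
    rw [hx₀r] at hsd
    rwa [(Nat.prime_dvd_prime_iff_eq hs hr).mp hsd]
  have hrank := BGSigma.not_sigma_rank_two hG (BGSigma.uniquenessTheorem hG) hS hr hrσ
  have hAS : A ≤ S := hAU.trans hUS
  haveI := hAel.1
  have hAS' : ∀ B : Subgroup G, B ≤ A → IsMulCommutative (B.subgroupOf S) ∧
      ∀ a ∈ B.subgroupOf S, a ^ r = 1 := fun B hB => ⟨⟨⟨fun a b => Subtype.ext (Subtype.ext
        (show ((a : S) : G) * (b : S) = (b : S) * (a : S) from congrArg (fun t : A => (t : G))
          (mul_comm' (⟨_, hB a.2⟩ : A) ⟨_, hB b.2⟩)))⟩⟩,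
      fun a ha => Subtype.ext (hB ha).2⟩
  have hAcard : Nat.card A = r ^ 2 := by
    obtain ⟨k, hk⟩ := hAr.exists_card_eq
    have hle : Nat.card A ≤ r ^ 2 := by
      rw [← Nat.card_congr (subgroupOfEquivOfLe hAS).toEquiv]
      exact hrank _ (hAS' A le_rfl).1 (hAS' A le_rfl).2
    rw [hk] at hle ⊢
    have hk2 : k ≤ 2 := (Nat.pow_le_pow_iff_right hr.one_lt).mp hle
    rcases Nat.lt_or_ge k 2 with h | h
    · exfalso
      have hXA : X = A := eq_of_le_of_card_ge (zpowers_le.mpr hx₀A) (by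
        rw [hk, hXc]
        calc r ^ k ≤ r ^ 1 := Nat.pow_le_pow_right hr.pos (by omega)
          _ = r := pow_one r)
      exact hmove w₀ hw₀ hw₀1 (hXA ▸ hconjA w₀ (hWU hw₀) x₀ hx₀A)
    · rw [show k = 2 by omega]
  have hspan : ∀ w ∈ W₁, w ≠ 1 → ∀ B : Subgroup G, x₀ ∈ B → w * x₀ * w⁻¹ ∈ B → A ≤ B := by
    intro w hw hw1 B h1 h2
    have hw' : w * x₀ * w⁻¹ ∈ A := hconjA w (hWU hw) x₀ hx₀A
    have hXY : zpowers x₀ ⊔ zpowers (w * x₀ * w⁻¹) = A := by
      have hle : zpowers x₀ ⊔ zpowers (w * x₀ * w⁻¹) ≤ A :=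
        sup_le (zpowers_le.mpr hx₀A) (zpowers_le.mpr hw')
      refine eq_of_le_of_card_ge hle ?_
      obtain ⟨j, hj, hj'⟩ := (Nat.dvd_prime_pow hr).mp (hAcard ▸ card_dvd_of_le hle)
      rw [hAcard, hj']
      refine Nat.pow_le_pow_right hr.pos ?_
      by_contra hj2
      refine hmove w hw hw1 ?_
      have hXe : X = zpowers x₀ ⊔ zpowers (w * x₀ * w⁻¹) := eq_of_le_of_card_ge le_sup_left (by
        rw [hj', hXc]
        calc r ^ j ≤ r ^ 1 := Nat.pow_le_pow_right hr.pos (by omega)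
          _ = r := pow_one r)
      rw [hXe]
      exact mem_sup_right (mem_zpowers _)
    rw [← hXY]
    exact sup_le (zpowers_le.mpr h1) (zpowers_le.mpr h2)
  have htau : r ∈ tau2 S := ⟨hr, hrσ, hrank, fun h1 => by
    have := h1 (A.subgroupOf S) (hAS' A le_rfl).1 (hAS' A le_rfl).2
    rw [Nat.card_congr (subgroupOfEquivOfLe hAS).toEquiv, hAcard, pow_one] at this
    exact absurd this (by nlinarith [hr.two_le])⟩
  -- `E = U W₁` is a complement of `S_σ`
  set E := U ⊔ W₁ with hE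
  have hEc : IsComplIn E (sigmaCore S) S := by
    rw [← hFσ]
    refine ⟨sup_le hUS hW₁S, BGUniq.fittingHallOf_le S, le_bot_iff.mp fun z hz => ?_,
      fun m hm => ?_⟩
    · obtain ⟨a, ha, b, hb, rfl⟩ := (mem_sup_iff hWU).mp hz.1
      have hb1 : b = 1 := Subgroup.mem_bot.mp (hdW.le ⟨by
        simpa using mul_mem (inv_mem (hUd ha)) (hFd hz.2), hb⟩)
      subst hb1
      rw [mul_one] at hz ⊢
      exact hFU.le ⟨hz.2, ha⟩
    · obtain ⟨a, ha, b, hb, rfl⟩ := hSmul m hm
      obtain ⟨f, hf, v, hv, rfl⟩ := hdmul a ha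
      refine ⟨v * b, mul_mem_sup hv hb, (v * b)⁻¹ * f * (v * b), ?_, by group⟩
      have := (mem_normalizer_iff''.mp (hSF (mul_mem (hUS hv) (hW₁S hb))) f).mp hf
      exact this
  have hA : A ≤ E ∧ IsElementaryAbelian r A ∧ Nat.card A = r ^ 2 :=
    ⟨hAU.trans le_sup_left, hAel, hAcard⟩
  obtain ⟨-, ⟨hCA, hNA, -⟩, -⟩ := S1418.result hG S hS E hEc r htau A hA
  -- `C(A) = U`
  have hCAU : centralizer (A : Set G) ≤ U := by
    intro c hc
    have hcE : c ∈ E := hNA ▸ hCA hc
    obtain ⟨a, ha, b, hb, rfl⟩ := (mem_sup_iff hWU).mp hcE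
    by_cases hb1 : b = 1
    · rwa [hb1, mul_one]
    · exfalso
      refine hmove b hb hb1 ?_
      have hac : a ∈ centralizer (A : Set G) := mem_centralizer_iff.mpr fun y hy =>
        congrArg Subtype.val (mul_comm' (⟨y, hAU hy⟩ : U) ⟨a, ha⟩)
      have hbc : b ∈ centralizer (A : Set G) := by
        simpa using mul_mem (inv_mem hac) hc
      rw [← mem_centralizer_iff.mp hbc x₀ hx₀A, mul_inv_cancel_right]
      exact mem_zpowers x₀
  have hFA : ∀ a ∈ F, a ∈ centralizer (A : Set G) → a = 1 := fun a ha hac =>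
    Subgroup.mem_bot.mp (hFU.le ⟨ha, hCAU hac⟩)
  -- Sylow `r`-subgroups of `G` lie in a conjugate of `U`
  obtain ⟨R, hAR⟩ := (hAr).exists_le_sylow
  have hRab : IsMulCommutative (R : Subgroup G) := by
    by_contra hna
    have hall : ∀ Q : Sylow r G, ¬ IsMulCommutative (Q : Subgroup G) := fun Q hQ => hna <| by
      haveI := hQ
      exact ⟨⟨fun a b => (R.equiv Q).injective (by rw [map_mul, map_mul]; exact mul_comm' _ _)⟩⟩
    obtain ⟨-, ⟨h1, -⟩, -⟩ := S1419.result hG S hS E hEc r htau hall A hA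
    rw [← hFσ, le_bot_iff.mp ((inf_le_inf_right _ hAU).trans hcU.le), Subgroup.card_bot] at h1
    exact hr.ne_one h1.symm
  have hRU : (R : Subgroup G) ≤ U := fun a ha => hCAU (mem_centralizer_iff.mpr fun y hy => by
    haveI := hRab
    exact congrArg Subtype.val (mul_comm' (⟨y, hAR hy⟩ : (R : Subgroup G)) ⟨a, ha⟩))
  -- `U = L_F`
  have hNUne : normalizer (U : Set G) ≠ ⊤ := fun h0 => by
    haveI : U.Normal := Subgroup.normalizer_eq_top_iff.mp h0
    haveI := hG.2.1
    rcases IsSimpleGroup.eq_bot_or_eq_top_of_normal U inferInstance with h | h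
    · exact hU1 h
    · exact hS.1 (top_le_iff.mp (h ▸ hUS))
  obtain ⟨L, hL, hNU⟩ := (eq_top_or_exists_le_coatom _).resolve_left hNUne
  obtain ⟨hUH, hor⟩ := over_normalizer hG h34 hV hF hC d hII hL hNU
  set H := fittingHallOf L with hH
  have hHnil : Group.IsNilpotent H := (Group.isNilpotent_congr
    ((fittingHall L).equivMapOfInjective L.subtype L.subtype_injective)).1
      (BGUniq.fittingHall_isNilpotent L)
  have hHU : H = U := by
    refine le_antisymm (fun h hh => hCAU (mem_centralizer_iff.mpr fun a ha => ?_)) hUH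
    -- split `h` into its `r`-part and its `r'`-part
    have hkey : ∀ b ∈ H, (∃ j, orderOf b = r ^ j) ∨ (orderOf b).Coprime r → a * b = b * a := by
      intro b hb hor'
      rcases hor' with ⟨j, hj⟩ | hcop
      · have hRH : (R : Subgroup G) ≤ H := hRU.trans hUH
        haveI hnorm := Transfer.nilpotent_sylow_normal hHnil (R.subtype hRH)
        have hbR : (⟨b, hb⟩ : H) ∈ (R.subtype hRH : Subgroup H) :=
          Transfer.nilpotent_mem_sylow hHnil _ (k := j) (by rw [Subgroup.orderOf_mk, hj])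
        have hb' : b ∈ (R : Subgroup G) := hbR
        haveI := hRab
        exact congrArg Subtype.val (mul_comm' (⟨a, hAR ha⟩ : (R : Subgroup G)) ⟨b, hb'⟩)
      · have hc : (orderOf (⟨a, hUH (hAU ha)⟩ : H)).Coprime (orderOf (⟨b, hb⟩ : H)) := by
          rw [Subgroup.orderOf_mk, Subgroup.orderOf_mk]
          exact hcop.symm.coprime_dvd_left (orderOf_dvd_of_pow_eq_one ha.2)
        exact congrArg Subtype.val (Transfer.nilpotent_commute_of_coprime hHnil hc).eq
    obtain ⟨e, m, hm, hord⟩ := Nat.exists_eq_pow_mul_and_not_dvd (orderOf_pos h).ne' r hr.ne_one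
    have hcop : (r ^ e).Coprime m :=
      Nat.Coprime.pow_left e ((Nat.Prime.coprime_iff_not_dvd hr).mpr hm)
    have h1 : a * h ^ m = h ^ m * a := hkey _ (pow_mem hh m) (Or.inl ((Nat.dvd_prime_pow hr).mp
      (orderOf_dvd_of_pow_eq_one (by rw [← pow_mul, mul_comm, ← hord, pow_orderOf_eq_one]))
        |>.imp fun _ hj => hj.2))
    have h2 : a * h ^ r ^ e = h ^ r ^ e * a := hkey _ (pow_mem hh _) (Or.inr (Nat.Coprime.coprime_dvd_left
      (orderOf_dvd_of_pow_eq_one (by rw [← pow_mul, ← hord, pow_orderOf_eq_one]))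
      (((Nat.Prime.coprime_iff_not_dvd hr).mpr hm).symm)))
    have hb := Nat.gcd_eq_gcd_ab (r ^ e) m
    rw [hcop.gcd_eq_one, Nat.cast_one] at hb
    have hh' : h = (h ^ r ^ e) ^ Nat.gcdA (r ^ e) m * (h ^ m) ^ Nat.gcdB (r ^ e) m := by
      rw [← zpow_natCast h (r ^ e), ← zpow_natCast h m, ← zpow_mul, ← zpow_mul, ← zpow_add, ← hb,
        zpow_one]
    rw [hh']
    exact (((show Commute a (h ^ r ^ e) from h2).zpow_right _).mul_right
      ((show Commute a (h ^ m) from h1).zpow_right _)).eq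
  have hLU : L ≤ normalizer (U : Set G) := by
    have h := BGSummary.le_normalizer_fittingHallOf L
    rwa [← hH, hHU] at h
  -- an element of order `p` normalizes `A`
  obtain ⟨z, hzU, hzp⟩ : ∃ z, z ∈ normalizer (U : Set G) ∧ orderOf z = p := by
    rcases hor with h | ⟨y, h⟩
    · exfalso
      have hLS : L ≤ S := by rw [← h, hHU]; exact sup_le hUS hW₁S
      refine hg₀S (hLS (hNU (mem_normalizer_iff.mpr fun v => hg₀U v)))
    · obtain ⟨w, hw, hw1⟩ :=
        (Subgroup.bot_or_exists_ne_one W₂).resolve_left hP.selfNormalizing.2.1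
      refine ⟨y * w * y⁻¹, hLU ?_, ?_⟩
      · rw [← h]
        exact mem_sup_right (mem_sup_right ⟨w, hw, rfl⟩)
      · have hwo : orderOf w = p := ((Nat.dvd_prime hp).mp
          (Subgroup.orderOf_dvd_natCard W₂ hw)).resolve_left (mt orderOf_eq_one_iff.mp hw1)
        rw [← hwo]
        exact orderOf_injective (MulAut.conj y).toMonoidHom (MulAut.conj y).injective w
  -- `r` divides `p - 1`
  haveI : Fintype W₁ := Fintype.ofFinite _
  haveI hpF : Fact p.Prime := ⟨hp⟩
  have hconjF : ∀ g ∈ S, ∀ a ∈ F, g * a * g⁻¹ ∈ F := fun g hg a ha =>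
    (mem_normalizer_iff.mp (hSF hg) a).mp ha
  have hxw : ∀ w : W₁, (w : G) * x₀ * (w : G)⁻¹ ∈ U := fun w =>
    (mem_normalizer_iff.mp (hWU w.2) x₀).mp hx₀U
  let θ : W₁ → MulAut F := fun w =>
    F.normalizerMonoidHom ⟨(w : G) * x₀ * (w : G)⁻¹, hSF (hUS (hxw w))⟩
  have hθ : ∀ (w : W₁) (v : F),
      ((θ w v : F) : G) = (w * x₀ * (w : G)⁻¹) * v * (w * x₀ * (w : G)⁻¹)⁻¹ := fun _ _ => rfl
  have hθr : ∀ w : W₁, θ w ^ r = 1 := fun w => by
    rw [← map_pow, ← map_one F.normalizerMonoidHom]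
    exact congrArg _ (Subtype.ext (by
      show ((w : G) * x₀ * (w : G)⁻¹) ^ r = 1
      rw [conj_pow, ← hx₀r, pow_orderOf_eq_one, mul_one, mul_inv_cancel]))
  let ψ : W₁ → K → F := fun w k => ⟨(w : G) * k * (w : G)⁻¹, hconjF w (hW₁S w.2) k k.2.1⟩
  have hψfix : ∀ (w : W₁) (k : K), θ w (ψ w k) = ψ w k := fun w k => Subtype.ext <| by
    rw [hθ]
    show _ = (w : G) * k * (w : G)⁻¹
    calc ((w : G) * x₀ * (w : G)⁻¹) * ((w : G) * k * (w : G)⁻¹) *
          ((w : G) * x₀ * (w : G)⁻¹)⁻¹ = (w : G) * (x₀ * k) * x₀⁻¹ * (w : G)⁻¹ := by group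
      _ = _ := by rw [← mem_centralizer_singleton_iff.mp k.2.2]; group
  let π : W₁ → F → F := fun w v => ∏ j ∈ Finset.range r, (θ w ^ j) v
  have hπfix : ∀ (w : W₁) (k : K), π w (ψ w k) = ψ w k ^ r := fun w k => by
    have : ∀ j : ℕ, (θ w ^ j) (ψ w k) = ψ w k := fun j => by
      induction j with
      | zero => rfl
      | succ j ih => rw [pow_succ', MulAut.mul_apply, ih, hψfix]
    rw [show π w (ψ w k) = ∏ j ∈ Finset.range r, ψ w k from Finset.prod_congr rfl fun j _ => this j,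
      Finset.prod_const, Finset.card_range]
  have hπkill : ∀ w w' : W₁, w' ≠ w → ∀ k : K, π w (ψ w' k) = 1 := by
    intro w w' hne k
    set v := π w (ψ w' k) with hv
    have h1 : θ w v = v := prod_pow_fixed (θ w) (hθr w) _
    have h2 : θ w' v = v := by
      rw [hv, map_prod]
      refine Finset.prod_congr rfl fun j _ => ?_
      rw [← MulAut.mul_apply, show θ w' * θ w ^ j = θ w ^ j * θ w' from Commute.pow_right (by
        show θ w' * θ w = θ w * θ w'
        rw [← map_mul, ← map_mul]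
        exact congrArg _ (Subtype.ext
          (show ((w' : G) * x₀ * (w' : G)⁻¹) * (w * x₀ * (w : G)⁻¹) =
            (w * x₀ * (w : G)⁻¹) * ((w' : G) * x₀ * (w' : G)⁻¹) from congrArg (fun t : U => (t : G))
          (mul_comm' (⟨_, hxw w'⟩ : U) ⟨_, hxw w⟩)))) j, MulAut.mul_apply, hψfix]
    replace h1 := mul_inv_eq_iff_eq_mul.mp ((hθ w v).symm.trans (congrArg Subtype.val h1))
    replace h2 := mul_inv_eq_iff_eq_mul.mp ((hθ w' v).symm.trans (congrArg Subtype.val h2))
    -- conjugate back by `w`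
    set t : G := (w : G)⁻¹ * w' with ht
    have ht1 : t ≠ 1 := fun e => hne (Subtype.ext (inv_mul_eq_one.mp e).symm)
    have hvF : (w : G)⁻¹ * v * w ∈ F := by
      simpa using hconjF _ (inv_mem (hW₁S w.2)) v v.2
    have hA' : A ≤ centralizer ({(w : G)⁻¹ * v * w} : Set G) := by
      refine hspan t (mul_mem (inv_mem w.2) w'.2) ht1 _ ?_ ?_ <;>
        rw [mem_centralizer_singleton_iff]
      · calc x₀ * ((w : G)⁻¹ * v * w) = (w : G)⁻¹ * ((w * x₀ * (w : G)⁻¹) * v) * w := by group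
          _ = _ := by rw [h1]; group
      · calc t * x₀ * t⁻¹ * ((w : G)⁻¹ * v * w)
            = (w : G)⁻¹ * ((w' * x₀ * (w' : G)⁻¹) * v) * w := by rw [ht]; group
          _ = _ := by rw [h2, ht]; group
    have h3 := hFA _ hvF (mem_centralizer_iff.mpr fun a ha =>
      mem_centralizer_singleton_iff.mp (hA' ha))
    refine Subtype.ext ?_
    rwa [mul_assoc, inv_mul_eq_one, eq_comm, mul_eq_right] at h3
  let Φ : (W₁ → K) → F := fun f => ∏ w, ψ w (f w)
  have hπmul : ∀ (w : W₁) (a b : F), π w (a * b) = π w a * π w b := fun w a b => by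
    show ∏ j ∈ Finset.range r, (θ w ^ j) (a * b) = _
    simp only [map_mul, Finset.prod_mul_distrib]
    rfl
  let πhom : W₁ → (F →* F) := fun w => MonoidHom.mk' (π w) (hπmul w)
  have hΦinj : Function.Injective Φ := by
    intro f g he
    funext w
    have key : ∀ f : W₁ → K, πhom w (Φ f) = ψ w (f w) ^ r := fun f => by
      rw [map_prod]
      show ∏ x, π w (ψ x (f x)) = _
      rw [Finset.prod_eq_single w (fun w' _ hne => hπkill w w' hne _)
        (fun h => absurd (Finset.mem_univ w) h)]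
      exact hπfix w _
    have h1 : ψ w (f w) ^ r = ψ w (g w) ^ r := by rw [← key, ← key, he]
    have hcopr : (Nat.card F).Coprime r := hcopU.coprime_dvd_right hrU
    have h2 : ψ w (f w) = ψ w (g w) := (powCoprime hcopr).injective h1
    have h3 := congrArg Subtype.val h2
    exact Subtype.ext (mul_left_cancel (mul_right_cancel h3))
  have hKp : Nat.card K = p := by
    have hle : Nat.card K ^ Nat.card W₁ ≤ p ^ Nat.card W₁ := by
      have := Nat.card_le_card_of_injective Φ hΦinj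
      rwa [Nat.card_fun, hcard] at this
    have hle' : Nat.card K ≤ p := (Nat.pow_le_pow_iff_left hq.ne_zero).mp hle
    obtain ⟨j, -, hj⟩ := (Nat.dvd_prime_pow hp).mp (hcard ▸ card_dvd_of_le (inf_le_left : K ≤ F))
    rcases Nat.lt_or_ge 0 j with hj0 | hj0
    · refine le_antisymm hle' ?_
      rw [hj]
      calc p = p ^ 1 := (pow_one p).symm
        _ ≤ p ^ j := Nat.pow_le_pow_right hp.pos hj0
    · refine absurd (card_eq_one.mp ?_) hK1
      rw [hj, Nat.le_zero.mp hj0, pow_zero]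
  have hrp1 : r ∣ p - 1 := by
    by_contra hnd
    set a := w₀ * x₀ * w₀⁻¹ with ha
    have haA : a ∈ A := hconjA w₀ (hWU hw₀) x₀ hx₀A
    have haK : a ∈ normalizer (K : Set G) := hKX a
      ((Subgroup.centralizer_le_normalizer _) (hUX (hAU haA))) (hSF (hAS haA))
    obtain ⟨k, hk⟩ := exists_pow_eq_self_of_coprime (x := a) (n := p - 1)
      (((Nat.Prime.coprime_iff_not_dvd hr).mpr hnd).symm.coprime_dvd_right
        (orderOf_dvd_of_pow_eq_one haA.2))
    obtain ⟨v, hv, hv1⟩ := (Subgroup.bot_or_exists_ne_one K).resolve_left hK1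
    refine hv1 (hFA v hv.1 (mem_centralizer_iff.mpr fun b hb => ?_))
    have hac : a * v = v * a := by
      have h1 : Commute (a ^ (p - 1)) v :=
        mul_inv_eq_iff_eq_mul.mp (PF9.line_fix hKp haK hv)
      have h2 := h1.pow_left k
      rw [hk] at h2
      exact h2.eq
    exact mem_centralizer_singleton_iff.mp (hspan w₀ hw₀ hw₀1 (centralizer ({v} : Set G))
      (mem_centralizer_singleton_iff.mpr (mem_centralizer_singleton_iff.mp hv.2).symm)
      (mem_centralizer_singleton_iff.mpr hac) hb)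
  -- the element of order `p` centralizes `A`
  have hp2 : p ≠ 2 := fun h => by
    have h1 : p ∣ Nat.card G := hpdef ▸ W₂.card_subgroup_dvd_card
    exact (Nat.not_even_iff_odd.mpr hG.1) (even_iff_two_dvd.mpr (h ▸ h1))
  have hr2 : r ≠ 2 := fun h => by
    have h1 : r ∣ Nat.card G := hrU.trans U.card_subgroup_dvd_card
    exact (Nat.not_even_iff_odd.mpr hG.1) (even_iff_two_dvd.mpr (h ▸ h1))
  have hrlt : r + 1 < p := by
    have h1 := Nat.le_of_dvd (by have := hp.two_le; omega) hrp1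
    have hne : r + 1 ≠ p := fun h => by
      have hr' := hr.odd_of_ne_two hr2
      exact (Nat.not_even_iff_odd.mpr (hp.odd_of_ne_two hp2)) (h ▸ hr'.add_one)
    omega
  letI : MulAction (zpowers z) A :=
    { smul := fun n a => ⟨(n : G) * a * (n : G)⁻¹, hconjA n ((zpowers_le.mpr hzU) n.2) a a.2⟩
      one_smul := fun a => Subtype.ext (show (1 : G) * a * (1 : G)⁻¹ = a by simp)
      mul_smul := fun m n a => Subtype.ext (show ((m * n : zpowers z) : G) * a *
        ((m * n : zpowers z) : G)⁻¹ = (m : G) * ((n : G) * a * (n : G)⁻¹) * (m : G)⁻¹ by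
          simp [mul_assoc]) }
  have hsmul : ∀ (n : zpowers z) (a : A),
      ((n • a : A) : G) = (n : G) * a * (n : G)⁻¹ := fun _ _ => rfl
  have hzP : IsPGroup p (zpowers z) :=
    IsPGroup.of_card (n := 1) (by rw [Nat.card_zpowers, hzp, pow_one])
  have hmod := hzP.card_modEq_card_fixedPoints A
  let B : Subgroup G := A ⊓ centralizer ({z} : Set G)
  have hBfix : Nat.card (MulAction.fixedPoints (zpowers z) A) = Nat.card B := by
    refine Nat.card_congr
      { toFun := fun a => ⟨(a.1 : G), a.1.2, mem_centralizer_singleton_iff.mpr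
          (mul_inv_eq_iff_eq_mul.mp
            ((hsmul ⟨z, mem_zpowers z⟩ a.1).symm.trans (congrArg Subtype.val (a.2 _)))).symm⟩
        invFun := fun b => ⟨⟨b.1, b.2.1⟩, fun n => Subtype.ext (by
          obtain ⟨k, hk⟩ := mem_zpowers_iff.mp n.2
          have hc : Commute z (b : G) := (mem_centralizer_singleton_iff.mp b.2.2).symm
          rw [hsmul, ← hk, (hc.zpow_left k).eq, mul_inv_cancel_right])⟩
        left_inv := fun _ => rfl
        right_inv := fun _ => rfl }
  rw [hBfix, hAcard] at hmod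
  obtain ⟨j, hj, hBj⟩ := (Nat.dvd_prime_pow hr).mp
    (hAcard ▸ card_dvd_of_le (inf_le_left : B ≤ A))
  have hpr : ¬ p ∣ r := fun h =>
    hrp.symm ((Nat.prime_dvd_prime_iff_eq hp hr).mp h)
  have hr1 : ¬ p ∣ r - 1 := Nat.not_dvd_of_pos_of_lt (by have := hr.two_le; omega) (by omega)
  have hr1' : ¬ p ∣ r + 1 := Nat.not_dvd_of_pos_of_lt (Nat.succ_pos r) hrlt
  have hj2 : j = 2 := by
    by_contra hne
    have h1 : p ∣ r ^ 2 - r ^ j :=
      (Nat.modEq_iff_dvd' (Nat.pow_le_pow_right hr.pos hj)).mp (by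
        rw [← hBj]; exact hmod.symm)
    interval_cases j
    · rw [pow_zero, show r ^ 2 - 1 = (r + 1) * (r - 1) from by
        rw [← Nat.sq_sub_sq r 1]] at h1
      exact ((hp.dvd_mul).mp h1).elim hr1' hr1
    · rw [pow_one, show r ^ 2 - r = r * (r - 1) from by rw [Nat.mul_sub, mul_one, sq]] at h1
      exact ((hp.dvd_mul).mp h1).elim hpr hr1
    · exact hne rfl
  have hBA : B = A := eq_of_le_of_card_ge inf_le_left (by rw [hBj, hj2, hAcard])
  have hzA : z ∈ centralizer (A : Set G) := mem_centralizer_iff.mpr fun a ha =>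
    mem_centralizer_singleton_iff.mp (hBA.ge ha).2
  have hzd : p ∣ Nat.card U := hzp ▸ Subgroup.orderOf_dvd_natCard U (hCAU hzA)
  exact hp.not_dvd_one ((hcopU.coprime_dvd_left
    (show p ∣ Nat.card F from hcard ▸ dvd_pow_self _ hq.ne_zero)).gcd_eq_one ▸
      Nat.dvd_gcd dvd_rfl hzd)

end Cfsg.Agent.PF13.Reg
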